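import Cfsg.Agent.Lib.Grp.F42.Defs

set_option autoImplicit false
set_option maxRecDepth 100000
set_option Elab.async false
set_option linter.unusedSectionVars false

namespace Cfsg.Agent.CG.F42

theorem c0 : allRange (chkBase 69615 24 (appB tabs t41 0xffffff) 0 (inv 0)) 0 20000 = true := by decide +kernel
theorem c1 : allRange (chkBase 69615 24 (appB tabs t41 0xffffff) 0 (inv 0)) 20000 20000 = true := by decide +kernel
theorem c2 : allRange (chkBase 69615 24 (appB tabs t41 0xffffff) 0 (inv 0)) 40000 20000 = true := by decide +kernel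
theorem c3 : allRange (chkBase 69615 24 (appB tabs t41 0xffffff) 0 (inv 0)) 60000 9615 = true := by decide +kernel
theorem c4 : allRange (chkBase 69615 24 (appB tabs t41 0xffffff) 1 (inv 1)) 0 20000 = true := by decide +kernel
theorem c5 : allRange (chkBase 69615 24 (appB tabs t41 0xffffff) 1 (inv 1)) 20000 20000 = true := by decide +kernel
theorem c6 : allRange (chkBase 69615 24 (appB tabs t41 0xffffff) 1 (inv 1)) 40000 20000 = true := by decide +kernel
theorem c7 : allRange (chkBase 69615 24 (appB tabs t41 0xffffff) 1 (inv 1)) 60000 9615 = true := by decide +kernel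
theorem c8 : allRange (chkBase 69615 24 (appB tabs t41 0xffffff) 2 (inv 2)) 0 20000 = true := by decide +kernel
theorem c9 : allRange (chkBase 69615 24 (appB tabs t41 0xffffff) 2 (inv 2)) 20000 20000 = true := by decide +kernel
theorem c10 : allRange (chkBase 69615 24 (appB tabs t41 0xffffff) 2 (inv 2)) 40000 20000 = true := by decide +kernel
theorem c11 : allRange (chkBase 69615 24 (appB tabs t41 0xffffff) 2 (inv 2)) 60000 9615 = true := by decide +kernel
theorem c12 : chkDef 24 (appB tabs t41 0xffffff) 3 (slp 3) 0 20000 = true := by decide +kernel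
theorem c13 : chkDef 24 (appB tabs t41 0xffffff) 3 (slp 3) 20000 20000 = true := by decide +kernel
theorem c14 : chkDef 24 (appB tabs t41 0xffffff) 3 (slp 3) 40000 20000 = true := by decide +kernel
theorem c15 : chkDef 24 (appB tabs t41 0xffffff) 3 (slp 3) 60000 9615 = true := by decide +kernel
theorem c16 : chkDef 24 (appB tabs t41 0xffffff) 4 (slp 4) 0 20000 = true := by decide +kernel
theorem c17 : chkDef 24 (appB tabs t41 0xffffff) 4 (slp 4) 20000 20000 = true := by decide +kernel
theorem c18 : chkDef 24 (appB tabs t41 0xffffff) 4 (slp 4) 40000 20000 = true := by decide +kernel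
theorem c19 : chkDef 24 (appB tabs t41 0xffffff) 4 (slp 4) 60000 9615 = true := by decide +kernel
theorem c20 : chkDef 24 (appB tabs t41 0xffffff) 5 (slp 5) 0 20000 = true := by decide +kernel
theorem c21 : chkDef 24 (appB tabs t41 0xffffff) 5 (slp 5) 20000 20000 = true := by decide +kernel
theorem c22 : chkDef 24 (appB tabs t41 0xffffff) 5 (slp 5) 40000 20000 = true := by decide +kernel
theorem c23 : chkDef 24 (appB tabs t41 0xffffff) 5 (slp 5) 60000 9615 = true := by decide +kernel
theorem c24 : chkDef 24 (appB tabs t41 0xffffff) 6 (slp 6) 0 20000 = true := by decide +kernel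
theorem c25 : chkDef 24 (appB tabs t41 0xffffff) 6 (slp 6) 20000 20000 = true := by decide +kernel
theorem c26 : chkDef 24 (appB tabs t41 0xffffff) 6 (slp 6) 40000 20000 = true := by decide +kernel
theorem c27 : chkDef 24 (appB tabs t41 0xffffff) 6 (slp 6) 60000 9615 = true := by decide +kernel
theorem c28 : chkDef 24 (appB tabs t41 0xffffff) 7 (slp 7) 0 20000 = true := by decide +kernel
theorem c29 : chkDef 24 (appB tabs t41 0xffffff) 7 (slp 7) 20000 20000 = true := by decide +kernel
theorem c30 : chkDef 24 (appB tabs t41 0xffffff) 7 (slp 7) 40000 20000 = true := by decide +kernel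
theorem c31 : chkDef 24 (appB tabs t41 0xffffff) 7 (slp 7) 60000 9615 = true := by decide +kernel
theorem c32 : chkDef 24 (appB tabs t41 0xffffff) 8 (slp 8) 0 20000 = true := by decide +kernel
theorem c33 : chkDef 24 (appB tabs t41 0xffffff) 8 (slp 8) 20000 20000 = true := by decide +kernel
theorem c34 : chkDef 24 (appB tabs t41 0xffffff) 8 (slp 8) 40000 20000 = true := by decide +kernel
theorem c35 : chkDef 24 (appB tabs t41 0xffffff) 8 (slp 8) 60000 9615 = true := by decide +kernel
theorem c36 : chkDef 24 (appB tabs t41 0xffffff) 9 (slp 9) 0 20000 = true := by decide +kernel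
theorem c37 : chkDef 24 (appB tabs t41 0xffffff) 9 (slp 9) 20000 20000 = true := by decide +kernel
theorem c38 : chkDef 24 (appB tabs t41 0xffffff) 9 (slp 9) 40000 20000 = true := by decide +kernel
theorem c39 : chkDef 24 (appB tabs t41 0xffffff) 9 (slp 9) 60000 9615 = true := by decide +kernel
theorem c40 : chkDef 24 (appB tabs t41 0xffffff) 10 (slp 10) 0 20000 = true := by decide +kernel
theorem c41 : chkDef 24 (appB tabs t41 0xffffff) 10 (slp 10) 20000 20000 = true := by decide +kernel
theorem c42 : chkDef 24 (appB tabs t41 0xffffff) 10 (slp 10) 40000 20000 = true := by decide +kernel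
theorem c43 : chkDef 24 (appB tabs t41 0xffffff) 10 (slp 10) 60000 9615 = true := by decide +kernel
theorem c44 : chkDef 24 (appB tabs t41 0xffffff) 11 (slp 11) 0 20000 = true := by decide +kernel
theorem c45 : chkDef 24 (appB tabs t41 0xffffff) 11 (slp 11) 20000 20000 = true := by decide +kernel
theorem c46 : chkDef 24 (appB tabs t41 0xffffff) 11 (slp 11) 40000 20000 = true := by decide +kernel
theorem c47 : chkDef 24 (appB tabs t41 0xffffff) 11 (slp 11) 60000 9615 = true := by decide +kernel
theorem c48 : chkDef 24 (appB tabs t41 0xffffff) 12 (slp 12) 0 20000 = true := by decide +kernel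
theorem c49 : chkDef 24 (appB tabs t41 0xffffff) 12 (slp 12) 20000 20000 = true := by decide +kernel
theorem c50 : chkDef 24 (appB tabs t41 0xffffff) 12 (slp 12) 40000 20000 = true := by decide +kernel
theorem c51 : chkDef 24 (appB tabs t41 0xffffff) 12 (slp 12) 60000 9615 = true := by decide +kernel
theorem c52 : chkDef 24 (appB tabs t41 0xffffff) 13 (slp 13) 0 20000 = true := by decide +kernel
theorem c53 : chkDef 24 (appB tabs t41 0xffffff) 13 (slp 13) 20000 20000 = true := by decide +kernel
theorem c54 : chkDef 24 (appB tabs t41 0xffffff) 13 (slp 13) 40000 20000 = true := by decide +kernel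
theorem c55 : chkDef 24 (appB tabs t41 0xffffff) 13 (slp 13) 60000 9615 = true := by decide +kernel
theorem c56 : chkDef 24 (appB tabs t41 0xffffff) 14 (slp 14) 0 20000 = true := by decide +kernel
theorem c57 : chkDef 24 (appB tabs t41 0xffffff) 14 (slp 14) 20000 20000 = true := by decide +kernel
theorem c58 : chkDef 24 (appB tabs t41 0xffffff) 14 (slp 14) 40000 20000 = true := by decide +kernel
theorem c59 : chkDef 24 (appB tabs t41 0xffffff) 14 (slp 14) 60000 9615 = true := by decide +kernel
theorem c60 : chkDef 24 (appB tabs t41 0xffffff) 15 (slp 15) 0 20000 = true := by decide +kernel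
theorem c61 : chkDef 24 (appB tabs t41 0xffffff) 15 (slp 15) 20000 20000 = true := by decide +kernel
theorem c62 : chkDef 24 (appB tabs t41 0xffffff) 15 (slp 15) 40000 20000 = true := by decide +kernel
theorem c63 : chkDef 24 (appB tabs t41 0xffffff) 15 (slp 15) 60000 9615 = true := by decide +kernel
theorem c64 : chkDef 24 (appB tabs t41 0xffffff) 16 (slp 16) 0 20000 = true := by decide +kernel
theorem c65 : chkDef 24 (appB tabs t41 0xffffff) 16 (slp 16) 20000 20000 = true := by decide +kernel
theorem c66 : chkDef 24 (appB tabs t41 0xffffff) 16 (slp 16) 40000 20000 = true := by decide +kernel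
theorem c67 : chkDef 24 (appB tabs t41 0xffffff) 16 (slp 16) 60000 9615 = true := by decide +kernel
theorem c68 : chkDef 24 (appB tabs t41 0xffffff) 17 (slp 17) 0 20000 = true := by decide +kernel
theorem c69 : chkDef 24 (appB tabs t41 0xffffff) 17 (slp 17) 20000 20000 = true := by decide +kernel
theorem c70 : chkDef 24 (appB tabs t41 0xffffff) 17 (slp 17) 40000 20000 = true := by decide +kernel
theorem c71 : chkDef 24 (appB tabs t41 0xffffff) 17 (slp 17) 60000 9615 = true := by decide +kernel
theorem c72 : chkDef 24 (appB tabs t41 0xffffff) 18 (slp 18) 0 20000 = true := by decide +kernel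
theorem c73 : chkDef 24 (appB tabs t41 0xffffff) 18 (slp 18) 20000 20000 = true := by decide +kernel
theorem c74 : chkDef 24 (appB tabs t41 0xffffff) 18 (slp 18) 40000 20000 = true := by decide +kernel
theorem c75 : chkDef 24 (appB tabs t41 0xffffff) 18 (slp 18) 60000 9615 = true := by decide +kernel
theorem c76 : chkDef 24 (appB tabs t41 0xffffff) 19 (slp 19) 0 20000 = true := by decide +kernel
theorem c77 : chkDef 24 (appB tabs t41 0xffffff) 19 (slp 19) 20000 20000 = true := by decide +kernel
theorem c78 : chkDef 24 (appB tabs t41 0xffffff) 19 (slp 19) 40000 20000 = true := by decide +kernel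
theorem c79 : chkDef 24 (appB tabs t41 0xffffff) 19 (slp 19) 60000 9615 = true := by decide +kernel
theorem c80 : chkDef 24 (appB tabs t41 0xffffff) 20 (slp 20) 0 20000 = true := by decide +kernel
theorem c81 : chkDef 24 (appB tabs t41 0xffffff) 20 (slp 20) 20000 20000 = true := by decide +kernel
theorem c82 : chkDef 24 (appB tabs t41 0xffffff) 20 (slp 20) 40000 20000 = true := by decide +kernel
theorem c83 : chkDef 24 (appB tabs t41 0xffffff) 20 (slp 20) 60000 9615 = true := by decide +kernel
theorem c84 : chkDef 24 (appB tabs t41 0xffffff) 21 (slp 21) 0 20000 = true := by decide +kernel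
theorem c85 : chkDef 24 (appB tabs t41 0xffffff) 21 (slp 21) 20000 20000 = true := by decide +kernel
theorem c86 : chkDef 24 (appB tabs t41 0xffffff) 21 (slp 21) 40000 20000 = true := by decide +kernel
theorem c87 : chkDef 24 (appB tabs t41 0xffffff) 21 (slp 21) 60000 9615 = true := by decide +kernel
theorem c88 : chkDef 24 (appB tabs t41 0xffffff) 22 (slp 22) 0 20000 = true := by decide +kernel
theorem c89 : chkDef 24 (appB tabs t41 0xffffff) 22 (slp 22) 20000 20000 = true := by decide +kernel
theorem c90 : chkDef 24 (appB tabs t41 0xffffff) 22 (slp 22) 40000 20000 = true := by decide +kernel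
theorem c91 : chkDef 24 (appB tabs t41 0xffffff) 22 (slp 22) 60000 9615 = true := by decide +kernel
theorem c92 : chkDef 24 (appB tabs t41 0xffffff) 23 (slp 23) 0 20000 = true := by decide +kernel
theorem c93 : chkDef 24 (appB tabs t41 0xffffff) 23 (slp 23) 20000 20000 = true := by decide +kernel

end Cfsg.Agent.CG.F42
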