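import Cfsg.Agent.Lib.Grp.F42.Defs

set_option autoImplicit false
set_option maxRecDepth 100000
set_option Elab.async false
set_option linter.unusedSectionVars false

namespace Cfsg.Agent.CG.F42

theorem c94 : chkDef 24 (appB tabs t41 0xffffff) 23 (slp 23) 40000 20000 = true := by decide +kernel
theorem c95 : chkDef 24 (appB tabs t41 0xffffff) 23 (slp 23) 60000 9615 = true := by decide +kernel
theorem c96 : chkDef 24 (appB tabs t41 0xffffff) 24 (slp 24) 0 20000 = true := by decide +kernel
theorem c97 : chkDef 24 (appB tabs t41 0xffffff) 24 (slp 24) 20000 20000 = true := by decide +kernel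
theorem c98 : chkDef 24 (appB tabs t41 0xffffff) 24 (slp 24) 40000 20000 = true := by decide +kernel
theorem c99 : chkDef 24 (appB tabs t41 0xffffff) 24 (slp 24) 60000 9615 = true := by decide +kernel
theorem c100 : chkDef 24 (appB tabs t41 0xffffff) 25 (slp 25) 0 20000 = true := by decide +kernel
theorem c101 : chkDef 24 (appB tabs t41 0xffffff) 25 (slp 25) 20000 20000 = true := by decide +kernel
theorem c102 : chkDef 24 (appB tabs t41 0xffffff) 25 (slp 25) 40000 20000 = true := by decide +kernel
theorem c103 : chkDef 24 (appB tabs t41 0xffffff) 25 (slp 25) 60000 9615 = true := by decide +kernel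
theorem c104 : chkDef 24 (appB tabs t41 0xffffff) 26 (slp 26) 0 20000 = true := by decide +kernel
theorem c105 : chkDef 24 (appB tabs t41 0xffffff) 26 (slp 26) 20000 20000 = true := by decide +kernel
theorem c106 : chkDef 24 (appB tabs t41 0xffffff) 26 (slp 26) 40000 20000 = true := by decide +kernel
theorem c107 : chkDef 24 (appB tabs t41 0xffffff) 26 (slp 26) 60000 9615 = true := by decide +kernel
theorem c108 : chkDef 24 (appB tabs t41 0xffffff) 27 (slp 27) 0 20000 = true := by decide +kernel
theorem c109 : chkDef 24 (appB tabs t41 0xffffff) 27 (slp 27) 20000 20000 = true := by decide +kernel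
theorem c110 : chkDef 24 (appB tabs t41 0xffffff) 27 (slp 27) 40000 20000 = true := by decide +kernel
theorem c111 : chkDef 24 (appB tabs t41 0xffffff) 27 (slp 27) 60000 9615 = true := by decide +kernel
theorem c112 : chkDef 24 (appB tabs t41 0xffffff) 28 (slp 28) 0 20000 = true := by decide +kernel
theorem c113 : chkDef 24 (appB tabs t41 0xffffff) 28 (slp 28) 20000 20000 = true := by decide +kernel
theorem c114 : chkDef 24 (appB tabs t41 0xffffff) 28 (slp 28) 40000 20000 = true := by decide +kernel
theorem c115 : chkDef 24 (appB tabs t41 0xffffff) 28 (slp 28) 60000 9615 = true := by decide +kernel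
theorem c116 : chkDef 24 (appB tabs t41 0xffffff) 29 (slp 29) 0 20000 = true := by decide +kernel
theorem c117 : chkDef 24 (appB tabs t41 0xffffff) 29 (slp 29) 20000 20000 = true := by decide +kernel
theorem c118 : chkDef 24 (appB tabs t41 0xffffff) 29 (slp 29) 40000 20000 = true := by decide +kernel
theorem c119 : chkDef 24 (appB tabs t41 0xffffff) 29 (slp 29) 60000 9615 = true := by decide +kernel
theorem c120 : chkDef 24 (appB tabs t41 0xffffff) 30 (slp 30) 0 20000 = true := by decide +kernel
theorem c121 : chkDef 24 (appB tabs t41 0xffffff) 30 (slp 30) 20000 20000 = true := by decide +kernel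
theorem c122 : chkDef 24 (appB tabs t41 0xffffff) 30 (slp 30) 40000 20000 = true := by decide +kernel
theorem c123 : chkDef 24 (appB tabs t41 0xffffff) 30 (slp 30) 60000 9615 = true := by decide +kernel
theorem c124 : chkDef 24 (appB tabs t41 0xffffff) 31 (slp 31) 0 20000 = true := by decide +kernel
theorem c125 : chkDef 24 (appB tabs t41 0xffffff) 31 (slp 31) 20000 20000 = true := by decide +kernel
theorem c126 : chkDef 24 (appB tabs t41 0xffffff) 31 (slp 31) 40000 20000 = true := by decide +kernel
theorem c127 : chkDef 24 (appB tabs t41 0xffffff) 31 (slp 31) 60000 9615 = true := by decide +kernel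
theorem c128 : chkDef 24 (appB tabs t41 0xffffff) 32 (slp 32) 0 20000 = true := by decide +kernel
theorem c129 : chkDef 24 (appB tabs t41 0xffffff) 32 (slp 32) 20000 20000 = true := by decide +kernel
theorem c130 : chkDef 24 (appB tabs t41 0xffffff) 32 (slp 32) 40000 20000 = true := by decide +kernel
theorem c131 : chkDef 24 (appB tabs t41 0xffffff) 32 (slp 32) 60000 9615 = true := by decide +kernel
theorem c132 : chkDef 24 (appB tabs t41 0xffffff) 33 (slp 33) 0 20000 = true := by decide +kernel
theorem c133 : chkDef 24 (appB tabs t41 0xffffff) 33 (slp 33) 20000 20000 = true := by decide +kernel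
theorem c134 : chkDef 24 (appB tabs t41 0xffffff) 33 (slp 33) 40000 20000 = true := by decide +kernel
theorem c135 : chkDef 24 (appB tabs t41 0xffffff) 33 (slp 33) 60000 9615 = true := by decide +kernel
theorem c136 : chkDef 24 (appB tabs t41 0xffffff) 34 (slp 34) 0 20000 = true := by decide +kernel
theorem c137 : chkDef 24 (appB tabs t41 0xffffff) 34 (slp 34) 20000 20000 = true := by decide +kernel
theorem c138 : chkDef 24 (appB tabs t41 0xffffff) 34 (slp 34) 40000 20000 = true := by decide +kernel
theorem c139 : chkDef 24 (appB tabs t41 0xffffff) 34 (slp 34) 60000 9615 = true := by decide +kernel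
theorem c140 : chkDef 24 (appB tabs t41 0xffffff) 35 (slp 35) 0 20000 = true := by decide +kernel
theorem c141 : chkDef 24 (appB tabs t41 0xffffff) 35 (slp 35) 20000 20000 = true := by decide +kernel
theorem c142 : chkDef 24 (appB tabs t41 0xffffff) 35 (slp 35) 40000 20000 = true := by decide +kernel
theorem c143 : chkDef 24 (appB tabs t41 0xffffff) 35 (slp 35) 60000 9615 = true := by decide +kernel
theorem c144 : chkDef 24 (appB tabs t41 0xffffff) 36 (slp 36) 0 20000 = true := by decide +kernel
theorem c145 : chkDef 24 (appB tabs t41 0xffffff) 36 (slp 36) 20000 20000 = true := by decide +kernel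
theorem c146 : chkDef 24 (appB tabs t41 0xffffff) 36 (slp 36) 40000 20000 = true := by decide +kernel
theorem c147 : chkDef 24 (appB tabs t41 0xffffff) 36 (slp 36) 60000 9615 = true := by decide +kernel
theorem c148 : chkDef 24 (appB tabs t41 0xffffff) 37 (slp 37) 0 20000 = true := by decide +kernel
theorem c149 : chkDef 24 (appB tabs t41 0xffffff) 37 (slp 37) 20000 20000 = true := by decide +kernel
theorem c150 : chkDef 24 (appB tabs t41 0xffffff) 37 (slp 37) 40000 20000 = true := by decide +kernel
theorem c151 : chkDef 24 (appB tabs t41 0xffffff) 37 (slp 37) 60000 9615 = true := by decide +kernel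
theorem c152 : chkDef 24 (appB tabs t41 0xffffff) 38 (slp 38) 0 20000 = true := by decide +kernel
theorem c153 : chkDef 24 (appB tabs t41 0xffffff) 38 (slp 38) 20000 20000 = true := by decide +kernel
theorem c154 : chkDef 24 (appB tabs t41 0xffffff) 38 (slp 38) 40000 20000 = true := by decide +kernel
theorem c155 : chkDef 24 (appB tabs t41 0xffffff) 38 (slp 38) 60000 9615 = true := by decide +kernel
theorem c156 : chkDef 24 (appB tabs t41 0xffffff) 39 (slp 39) 0 20000 = true := by decide +kernel
theorem c157 : chkDef 24 (appB tabs t41 0xffffff) 39 (slp 39) 20000 20000 = true := by decide +kernel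
theorem c158 : chkDef 24 (appB tabs t41 0xffffff) 39 (slp 39) 40000 20000 = true := by decide +kernel
theorem c159 : chkDef 24 (appB tabs t41 0xffffff) 39 (slp 39) 60000 9615 = true := by decide +kernel
theorem c160 : chkDef 24 (appB tabs t41 0xffffff) 40 (slp 40) 0 20000 = true := by decide +kernel
theorem c161 : chkDef 24 (appB tabs t41 0xffffff) 40 (slp 40) 20000 20000 = true := by decide +kernel
theorem c162 : chkDef 24 (appB tabs t41 0xffffff) 40 (slp 40) 40000 20000 = true := by decide +kernel
theorem c163 : chkDef 24 (appB tabs t41 0xffffff) 40 (slp 40) 60000 9615 = true := by decide +kernel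
theorem c164 : chkDef 24 (appB tabs t41 0xffffff) 41 (false, []) 0 20000 = true := by decide +kernel
theorem c165 : chkDef 24 (appB tabs t41 0xffffff) 41 (false, []) 20000 20000 = true := by decide +kernel
theorem c166 : chkDef 24 (appB tabs t41 0xffffff) 41 (false, []) 40000 20000 = true := by decide +kernel
theorem c167 : chkDef 24 (appB tabs t41 0xffffff) 41 (false, []) 60000 9615 = true := by decide +kernel
theorem c168 : mc0.chk (appB tabs t41 0xffffff) 1 20000 = true := by decide +kernel
theorem c169 : mc0.chk (appB tabs t41 0xffffff) 20001 20000 = true := by decide +kernel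
theorem c170 : mc0.chk (appB tabs t41 0xffffff) 40001 20000 = true := by decide +kernel
theorem c171 : mc0.chk (appB tabs t41 0xffffff) 60001 9614 = true := by decide +kernel
theorem c172 : mc1.chk (appB tabs t41 0xffffff) 1 20000 = true := by decide +kernel

end Cfsg.Agent.CG.F42
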