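import Cfsg.Agent.Lib.Grp.F42.Defs

set_option autoImplicit false
set_option maxRecDepth 100000
set_option Elab.async false
set_option linter.unusedSectionVars false

namespace Cfsg.Agent.CG.F42

theorem c173 : mc1.chk (appB tabs t41 0xffffff) 20001 14559 = true := by decide +kernel
theorem c174 : mc2.chk (appB tabs t41 0xffffff) 1 8191 = true := by decide +kernel
theorem c175 : mc3.chk (appB tabs t41 0xffffff) 1 167 = true := by decide +kernel
theorem c176 : okcb 69615 24 (bases mc) = true := by decide +kernel
theorem c177 : headAll (appB tabs t41 0xffffff) mc [] = true := by decide +kernel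
theorem c178 : tc0.head tcR = true := by decide +kernel
theorem c179 : tc0.chk 35 0 20000 = true := by decide +kernel
theorem c180 : tc0.chk 35 20000 20000 = true := by decide +kernel
theorem c181 : tc0.chk 35 40000 20000 = true := by decide +kernel
theorem c182 : tc0.chk 35 60000 9615 = true := by decide +kernel
theorem c183 : tc0.chk 36 0 20000 = true := by decide +kernel
theorem c184 : tc0.chk 36 20000 20000 = true := by decide +kernel
theorem c185 : tc0.chk 36 40000 20000 = true := by decide +kernel
theorem c186 : tc0.chk 36 60000 9615 = true := by decide +kernel
theorem c187 : tc0.chk 37 0 20000 = true := by decide +kernel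
theorem c188 : tc0.chk 37 20000 20000 = true := by decide +kernel
theorem c189 : tc0.chk 37 40000 20000 = true := by decide +kernel
theorem c190 : tc0.chk 37 60000 9615 = true := by decide +kernel
theorem c191 : tc0.chk 38 0 20000 = true := by decide +kernel
theorem c192 : tc0.chk 38 20000 20000 = true := by decide +kernel
theorem c193 : tc0.chk 38 40000 20000 = true := by decide +kernel
theorem c194 : tc0.chk 38 60000 9615 = true := by decide +kernel
theorem c195 : tc0.chk 39 0 20000 = true := by decide +kernel
theorem c196 : tc0.chk 39 20000 20000 = true := by decide +kernel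
theorem c197 : tc0.chk 39 40000 20000 = true := by decide +kernel
theorem c198 : tc0.chk 39 60000 9615 = true := by decide +kernel
theorem c199 : tc0.chk 40 0 20000 = true := by decide +kernel
theorem c200 : tc0.chk 40 20000 20000 = true := by decide +kernel
theorem c201 : tc0.chk 40 40000 20000 = true := by decide +kernel
theorem c202 : tc0.chk 40 60000 9615 = true := by decide +kernel
theorem c203 : tc1.head tcR = true := by decide +kernel
theorem c204 : tc1.chk 35 0 20000 = true := by decide +kernel
theorem c205 : tc1.chk 35 20000 14560 = true := by decide +kernel
theorem c206 : tc1.chk 36 0 20000 = true := by decide +kernel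
theorem c207 : tc1.chk 36 20000 14560 = true := by decide +kernel
theorem c208 : tc1.chk 37 0 20000 = true := by decide +kernel
theorem c209 : tc1.chk 37 20000 14560 = true := by decide +kernel
theorem c210 : tc1.chk 38 0 20000 = true := by decide +kernel
theorem c211 : tc1.chk 38 20000 14560 = true := by decide +kernel
theorem c212 : tc1.chk 39 0 20000 = true := by decide +kernel
theorem c213 : tc1.chk 39 20000 14560 = true := by decide +kernel
theorem c214 : tc2.head tcR = true := by decide +kernel
theorem c215 : allL (fun a => tc2.chk a 0 tc2.N) tc2.S = true := by decide +kernel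
theorem c216 : tc3.head tcR = true := by decide +kernel
theorem c217 : allL (fun a => tc3.chk a 0 tc3.N) tc3.S = true := by decide +kernel
theorem c218 : tcLink tc [] [35,36,37,38,39,40] = true := by decide +kernel
theorem c219 : oneAll 24 (appB tabs t41 0xffffff) [35,36] 0 20000 = true := by decide +kernel
theorem c220 : oneAll 24 (appB tabs t41 0xffffff) [35,36] 20000 20000 = true := by decide +kernel
theorem c221 : oneAll 24 (appB tabs t41 0xffffff) [35,36] 40000 20000 = true := by decide +kernel
theorem c222 : oneAll 24 (appB tabs t41 0xffffff) [35,36] 60000 9615 = true := by decide +kernel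
theorem c223 : oneAll 24 (appB tabs t41 0xffffff) [36,35] 0 20000 = true := by decide +kernel
theorem c224 : oneAll 24 (appB tabs t41 0xffffff) [36,35] 20000 20000 = true := by decide +kernel
theorem c225 : oneAll 24 (appB tabs t41 0xffffff) [36,35] 40000 20000 = true := by decide +kernel
theorem c226 : oneAll 24 (appB tabs t41 0xffffff) [36,35] 60000 9615 = true := by decide +kernel
theorem c227 : oneAll 24 (appB tabs t41 0xffffff) [37,37] 0 20000 = true := by decide +kernel
theorem c228 : oneAll 24 (appB tabs t41 0xffffff) [37,37] 20000 20000 = true := by decide +kernel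
theorem c229 : oneAll 24 (appB tabs t41 0xffffff) [37,37] 40000 20000 = true := by decide +kernel
theorem c230 : oneAll 24 (appB tabs t41 0xffffff) [37,37] 60000 9615 = true := by decide +kernel
theorem c231 : oneAll 24 (appB tabs t41 0xffffff) [35,35,35,35,35,35,35] 0 20000 = true := by decide +kernel
theorem c232 : oneAll 24 (appB tabs t41 0xffffff) [35,35,35,35,35,35,35] 20000 20000 = true := by decide +kernel
theorem c233 : oneAll 24 (appB tabs t41 0xffffff) [35,35,35,35,35,35,35] 40000 20000 = true := by decide +kernel
theorem c234 : oneAll 24 (appB tabs t41 0xffffff) [35,35,35,35,35,35,35] 60000 9615 = true := by decide +kernel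
theorem c235 : oneAll 24 (appB tabs t41 0xffffff) [35,37,35,37,35,37,35,37] 0 20000 = true := by decide +kernel
theorem c236 : oneAll 24 (appB tabs t41 0xffffff) [35,37,35,37,35,37,35,37] 20000 20000 = true := by decide +kernel
theorem c237 : oneAll 24 (appB tabs t41 0xffffff) [35,37,35,37,35,37,35,37] 40000 20000 = true := by decide +kernel
theorem c238 : oneAll 24 (appB tabs t41 0xffffff) [35,37,35,37,35,37,35,37] 60000 9615 = true := by decide +kernel

end Cfsg.Agent.CG.F42
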