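import Cfsg.Agent.Lib.Grp.F42.Defs

set_option autoImplicit false
set_option maxRecDepth 100000
set_option Elab.async false
set_option linter.unusedSectionVars false

namespace Cfsg.Agent.CG.F42

theorem c239 : oneAll 24 (appB tabs t41 0xffffff) [37,35,35,37,35,35,37,35,35] 0 20000 = true := by decide +kernel
theorem c240 : oneAll 24 (appB tabs t41 0xffffff) [37,35,35,37,35,35,37,35,35] 20000 20000 = true := by decide +kernel
theorem c241 : oneAll 24 (appB tabs t41 0xffffff) [37,35,35,37,35,35,37,35,35] 40000 20000 = true := by decide +kernel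
theorem c242 : oneAll 24 (appB tabs t41 0xffffff) [37,35,35,37,35,35,37,35,35] 60000 9615 = true := by decide +kernel
theorem c243 : oneAll 24 (appB tabs t41 0xffffff) [38,38] 0 20000 = true := by decide +kernel
theorem c244 : oneAll 24 (appB tabs t41 0xffffff) [38,38] 20000 20000 = true := by decide +kernel
theorem c245 : oneAll 24 (appB tabs t41 0xffffff) [38,38] 40000 20000 = true := by decide +kernel
theorem c246 : oneAll 24 (appB tabs t41 0xffffff) [38,38] 60000 9615 = true := by decide +kernel
theorem c247 : oneAll 24 (appB tabs t41 0xffffff) [38,37,38,37,38,37,38,37] 0 20000 = true := by decide +kernel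
theorem c248 : oneAll 24 (appB tabs t41 0xffffff) [38,37,38,37,38,37,38,37] 20000 20000 = true := by decide +kernel
theorem c249 : oneAll 24 (appB tabs t41 0xffffff) [38,37,38,37,38,37,38,37] 40000 20000 = true := by decide +kernel
theorem c250 : oneAll 24 (appB tabs t41 0xffffff) [38,37,38,37,38,37,38,37] 60000 9615 = true := by decide +kernel
theorem c251 : oneAll 24 (appB tabs t41 0xffffff) [38,36,36,38,35,35,38,36,36,38,35,35] 0 20000 = true := by decide +kernel
theorem c252 : oneAll 24 (appB tabs t41 0xffffff) [38,36,36,38,35,35,38,36,36,38,35,35] 20000 20000 = true := by decide +kernel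
theorem c253 : oneAll 24 (appB tabs t41 0xffffff) [38,36,36,38,35,35,38,36,36,38,35,35] 40000 20000 = true := by decide +kernel
theorem c254 : oneAll 24 (appB tabs t41 0xffffff) [38,36,36,38,35,35,38,36,36,38,35,35] 60000 9615 = true := by decide +kernel
theorem c255 : oneAll 24 (appB tabs t41 0xffffff) [38,36,37,38,37,35,38,36,37,38,37,35] 0 20000 = true := by decide +kernel
theorem c256 : oneAll 24 (appB tabs t41 0xffffff) [38,36,37,38,37,35,38,36,37,38,37,35] 20000 20000 = true := by decide +kernel
theorem c257 : oneAll 24 (appB tabs t41 0xffffff) [38,36,37,38,37,35,38,36,37,38,37,35] 40000 20000 = true := by decide +kernel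
theorem c258 : oneAll 24 (appB tabs t41 0xffffff) [38,36,37,38,37,35,38,36,37,38,37,35] 60000 9615 = true := by decide +kernel
theorem c259 : oneAll 24 (appB tabs t41 0xffffff) [38,37,36,38,35,37,38,37,36,38,35,37] 0 20000 = true := by decide +kernel
theorem c260 : oneAll 24 (appB tabs t41 0xffffff) [38,37,36,38,35,37,38,37,36,38,35,37] 20000 20000 = true := by decide +kernel
theorem c261 : oneAll 24 (appB tabs t41 0xffffff) [38,37,36,38,35,37,38,37,36,38,35,37] 40000 20000 = true := by decide +kernel
theorem c262 : oneAll 24 (appB tabs t41 0xffffff) [38,37,36,38,35,37,38,37,36,38,35,37] 60000 9615 = true := by decide +kernel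
theorem c263 : oneAll 24 (appB tabs t41 0xffffff) [38,36,38,36,38,35,35,38,36,38,36,38,35,35] 0 20000 = true := by decide +kernel
theorem c264 : oneAll 24 (appB tabs t41 0xffffff) [38,36,38,36,38,35,35,38,36,38,36,38,35,35] 20000 20000 = true := by decide +kernel
theorem c265 : oneAll 24 (appB tabs t41 0xffffff) [38,36,38,36,38,35,35,38,36,38,36,38,35,35] 40000 20000 = true := by decide +kernel
theorem c266 : oneAll 24 (appB tabs t41 0xffffff) [38,36,38,36,38,35,35,38,36,38,36,38,35,35] 60000 9615 = true := by decide +kernel
theorem c267 : oneAll 24 (appB tabs t41 0xffffff) [38,36,37,35,35,35,37,36,38,36,37,35,35,35,37,36] 0 20000 = true := by decide +kernel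
theorem c268 : oneAll 24 (appB tabs t41 0xffffff) [38,36,37,35,35,35,37,36,38,36,37,35,35,35,37,36] 20000 20000 = true := by decide +kernel
theorem c269 : oneAll 24 (appB tabs t41 0xffffff) [38,36,37,35,35,35,37,36,38,36,37,35,35,35,37,36] 40000 20000 = true := by decide +kernel
theorem c270 : oneAll 24 (appB tabs t41 0xffffff) [38,36,37,35,35,35,37,36,38,36,37,35,35,35,37,36] 60000 9615 = true := by decide +kernel
theorem c271 : oneAll 24 (appB tabs t41 0xffffff) [38,37,36,36,38,35,35,37,38,37,36,36,38,35,35,37] 0 20000 = true := by decide +kernel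
theorem c272 : oneAll 24 (appB tabs t41 0xffffff) [38,37,36,36,38,35,35,37,38,37,36,36,38,35,35,37] 20000 20000 = true := by decide +kernel
theorem c273 : oneAll 24 (appB tabs t41 0xffffff) [38,37,36,36,38,35,35,37,38,37,36,36,38,35,35,37] 40000 20000 = true := by decide +kernel
theorem c274 : oneAll 24 (appB tabs t41 0xffffff) [38,37,36,36,38,35,35,37,38,37,36,36,38,35,35,37] 60000 9615 = true := by decide +kernel
theorem c275 : oneAll 24 (appB tabs t41 0xffffff) [38,36,36,37,38,37,35,35,38,36,36,37,38,37,35,35] 0 20000 = true := by decide +kernel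
theorem c276 : oneAll 24 (appB tabs t41 0xffffff) [38,36,36,37,38,37,35,35,38,36,36,37,38,37,35,35] 20000 20000 = true := by decide +kernel
theorem c277 : oneAll 24 (appB tabs t41 0xffffff) [38,36,36,37,38,37,35,35,38,36,36,37,38,37,35,35] 40000 20000 = true := by decide +kernel
theorem c278 : oneAll 24 (appB tabs t41 0xffffff) [38,36,36,37,38,37,35,35,38,36,36,37,38,37,35,35] 60000 9615 = true := by decide +kernel
theorem c279 : oneAll 24 (appB tabs t41 0xffffff) [38,36,36,38,35,38,37,38,36,38,35,35,38,36,37,35] 0 20000 = true := by decide +kernel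
theorem c280 : oneAll 24 (appB tabs t41 0xffffff) [38,36,36,38,35,38,37,38,36,38,35,35,38,36,37,35] 20000 20000 = true := by decide +kernel
theorem c281 : oneAll 24 (appB tabs t41 0xffffff) [38,36,36,38,35,38,37,38,36,38,35,35,38,36,37,35] 40000 20000 = true := by decide +kernel
theorem c282 : oneAll 24 (appB tabs t41 0xffffff) [38,36,36,38,35,38,37,38,36,38,35,35,38,36,37,35] 60000 9615 = true := by decide +kernel
theorem c283 : oneAll 24 (appB tabs t41 0xffffff) [38,36,37,35,38,36,37,35,38,36,37,35,38,36,37,35] 0 20000 = true := by decide +kernel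

end Cfsg.Agent.CG.F42
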