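import Cfsg.Agent.Lib.Grp.F42.Defs

set_option autoImplicit false
set_option maxRecDepth 100000
set_option Elab.async false
set_option linter.unusedSectionVars false

namespace Cfsg.Agent.CG.F42

theorem c284 : oneAll 24 (appB tabs t41 0xffffff) [38,36,37,35,38,36,37,35,38,36,37,35,38,36,37,35] 20000 20000 = true := by decide +kernel
theorem c285 : oneAll 24 (appB tabs t41 0xffffff) [38,36,37,35,38,36,37,35,38,36,37,35,38,36,37,35] 40000 20000 = true := by decide +kernel
theorem c286 : oneAll 24 (appB tabs t41 0xffffff) [38,36,37,35,38,36,37,35,38,36,37,35,38,36,37,35] 60000 9615 = true := by decide +kernel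
theorem c287 : oneAll 24 (appB tabs t41 0xffffff) [38,36,38,36,38,35,37,36,38,35,38,35,38,36,37,35] 0 20000 = true := by decide +kernel
theorem c288 : oneAll 24 (appB tabs t41 0xffffff) [38,36,38,36,38,35,37,36,38,35,38,35,38,36,37,35] 20000 20000 = true := by decide +kernel
theorem c289 : oneAll 24 (appB tabs t41 0xffffff) [38,36,38,36,38,35,37,36,38,35,38,35,38,36,37,35] 40000 20000 = true := by decide +kernel
theorem c290 : oneAll 24 (appB tabs t41 0xffffff) [38,36,38,36,38,35,37,36,38,35,38,35,38,36,37,35] 60000 9615 = true := by decide +kernel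
theorem c291 : oneAll 24 (appB tabs t41 0xffffff) [38,36,38,36,38,36,38,36,38,36,36,38,35,38,36,36] 0 20000 = true := by decide +kernel
theorem c292 : oneAll 24 (appB tabs t41 0xffffff) [38,36,38,36,38,36,38,36,38,36,36,38,35,38,36,36] 20000 20000 = true := by decide +kernel
theorem c293 : oneAll 24 (appB tabs t41 0xffffff) [38,36,38,36,38,36,38,36,38,36,36,38,35,38,36,36] 40000 20000 = true := by decide +kernel
theorem c294 : oneAll 24 (appB tabs t41 0xffffff) [38,36,38,36,38,36,38,36,38,36,36,38,35,38,36,36] 60000 9615 = true := by decide +kernel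
theorem c295 : oneAll 24 (appB tabs t41 0xffffff) [38,37,38,35,37,36,38,37,36,37,35,35,38,36,37,35,35] 0 20000 = true := by decide +kernel
theorem c296 : oneAll 24 (appB tabs t41 0xffffff) [38,37,38,35,37,36,38,37,36,37,35,35,38,36,37,35,35] 20000 20000 = true := by decide +kernel
theorem c297 : oneAll 24 (appB tabs t41 0xffffff) [38,37,38,35,37,36,38,37,36,37,35,35,38,36,37,35,35] 40000 20000 = true := by decide +kernel
theorem c298 : oneAll 24 (appB tabs t41 0xffffff) [38,37,38,35,37,36,38,37,36,37,35,35,38,36,37,35,35] 60000 9615 = true := by decide +kernel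
theorem c299 : oneAll 24 (appB tabs t41 0xffffff) [38,37,38,36,37,35,38,37,35,37,36,36,38,35,37,36,36] 0 20000 = true := by decide +kernel
theorem c300 : oneAll 24 (appB tabs t41 0xffffff) [38,37,38,36,37,35,38,37,35,37,36,36,38,35,37,36,36] 20000 20000 = true := by decide +kernel
theorem c301 : oneAll 24 (appB tabs t41 0xffffff) [38,37,38,36,37,35,38,37,35,37,36,36,38,35,37,36,36] 40000 20000 = true := by decide +kernel
theorem c302 : oneAll 24 (appB tabs t41 0xffffff) [38,37,38,36,37,35,38,37,35,37,36,36,38,35,37,36,36] 60000 9615 = true := by decide +kernel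
theorem c303 : oneAll 24 (appB tabs t41 0xffffff) [39,39] 0 20000 = true := by decide +kernel
theorem c304 : oneAll 24 (appB tabs t41 0xffffff) [39,39] 20000 20000 = true := by decide +kernel
theorem c305 : oneAll 24 (appB tabs t41 0xffffff) [39,39] 40000 20000 = true := by decide +kernel
theorem c306 : oneAll 24 (appB tabs t41 0xffffff) [39,39] 60000 9615 = true := by decide +kernel
theorem c307 : oneAll 24 (appB tabs t41 0xffffff) [39,37,39,37,39,37,39,37] 0 20000 = true := by decide +kernel
theorem c308 : oneAll 24 (appB tabs t41 0xffffff) [39,37,39,37,39,37,39,37] 20000 20000 = true := by decide +kernel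
theorem c309 : oneAll 24 (appB tabs t41 0xffffff) [39,37,39,37,39,37,39,37] 40000 20000 = true := by decide +kernel
theorem c310 : oneAll 24 (appB tabs t41 0xffffff) [39,37,39,37,39,37,39,37] 60000 9615 = true := by decide +kernel
theorem c311 : oneAll 24 (appB tabs t41 0xffffff) [39,38,39,38,39,38,39,38] 0 20000 = true := by decide +kernel
theorem c312 : oneAll 24 (appB tabs t41 0xffffff) [39,38,39,38,39,38,39,38] 20000 20000 = true := by decide +kernel
theorem c313 : oneAll 24 (appB tabs t41 0xffffff) [39,38,39,38,39,38,39,38] 40000 20000 = true := by decide +kernel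
theorem c314 : oneAll 24 (appB tabs t41 0xffffff) [39,38,39,38,39,38,39,38] 60000 9615 = true := by decide +kernel
theorem c315 : oneAll 24 (appB tabs t41 0xffffff) [39,36,36,37,35,35,39,36,36,37,35,35] 0 20000 = true := by decide +kernel
theorem c316 : oneAll 24 (appB tabs t41 0xffffff) [39,36,36,37,35,35,39,36,36,37,35,35] 20000 20000 = true := by decide +kernel
theorem c317 : oneAll 24 (appB tabs t41 0xffffff) [39,36,36,37,35,35,39,36,36,37,35,35] 40000 20000 = true := by decide +kernel
theorem c318 : oneAll 24 (appB tabs t41 0xffffff) [39,36,36,37,35,35,39,36,36,37,35,35] 60000 9615 = true := by decide +kernel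
theorem c319 : oneAll 24 (appB tabs t41 0xffffff) [39,36,38,37,38,35,39,36,38,37,38,35] 0 20000 = true := by decide +kernel
theorem c320 : oneAll 24 (appB tabs t41 0xffffff) [39,36,38,37,38,35,39,36,38,37,38,35] 20000 20000 = true := by decide +kernel
theorem c321 : oneAll 24 (appB tabs t41 0xffffff) [39,36,38,37,38,35,39,36,38,37,38,35] 40000 20000 = true := by decide +kernel
theorem c322 : oneAll 24 (appB tabs t41 0xffffff) [39,36,38,37,38,35,39,36,38,37,38,35] 60000 9615 = true := by decide +kernel
theorem c323 : oneAll 24 (appB tabs t41 0xffffff) [39,38,35,37,36,38,39,38,35,37,36,38] 0 20000 = true := by decide +kernel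
theorem c324 : oneAll 24 (appB tabs t41 0xffffff) [39,38,35,37,36,38,39,38,35,37,36,38] 20000 20000 = true := by decide +kernel
theorem c325 : oneAll 24 (appB tabs t41 0xffffff) [39,38,35,37,36,38,39,38,35,37,36,38] 40000 20000 = true := by decide +kernel
theorem c326 : oneAll 24 (appB tabs t41 0xffffff) [39,38,35,37,36,38,39,38,35,37,36,38] 60000 9615 = true := by decide +kernel
theorem c327 : oneAll 24 (appB tabs t41 0xffffff) [39,37,36,39,35,37,39,37,36,39,35,37] 0 20000 = true := by decide +kernel
theorem c328 : oneAll 24 (appB tabs t41 0xffffff) [39,37,36,39,35,37,39,37,36,39,35,37] 20000 20000 = true := by decide +kernel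

end Cfsg.Agent.CG.F42
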