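import Cfsg.Agent.Lib.Grp.F42.Defs

set_option autoImplicit false
set_option maxRecDepth 100000
set_option Elab.async false
set_option linter.unusedSectionVars false

namespace Cfsg.Agent.CG.F42

theorem c329 : oneAll 24 (appB tabs t41 0xffffff) [39,37,36,39,35,37,39,37,36,39,35,37] 40000 20000 = true := by decide +kernel
theorem c330 : oneAll 24 (appB tabs t41 0xffffff) [39,37,36,39,35,37,39,37,36,39,35,37] 60000 9615 = true := by decide +kernel
theorem c331 : oneAll 24 (appB tabs t41 0xffffff) [39,35,37,39,35,37,39,35,37,39,35,37] 0 20000 = true := by decide +kernel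
theorem c332 : oneAll 24 (appB tabs t41 0xffffff) [39,35,37,39,35,37,39,35,37,39,35,37] 20000 20000 = true := by decide +kernel
theorem c333 : oneAll 24 (appB tabs t41 0xffffff) [39,35,37,39,35,37,39,35,37,39,35,37] 40000 20000 = true := by decide +kernel
theorem c334 : oneAll 24 (appB tabs t41 0xffffff) [39,35,37,39,35,37,39,35,37,39,35,37] 60000 9615 = true := by decide +kernel
theorem c335 : oneAll 24 (appB tabs t41 0xffffff) [39,36,38,36,37,35,38,35,39,36,38,36,37,35,38,35] 0 20000 = true := by decide +kernel
theorem c336 : oneAll 24 (appB tabs t41 0xffffff) [39,36,38,36,37,35,38,35,39,36,38,36,37,35,38,35] 20000 20000 = true := by decide +kernel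
theorem c337 : oneAll 24 (appB tabs t41 0xffffff) [39,36,38,36,37,35,38,35,39,36,38,36,37,35,38,35] 40000 20000 = true := by decide +kernel
theorem c338 : oneAll 24 (appB tabs t41 0xffffff) [39,36,38,36,37,35,38,35,39,36,38,36,37,35,38,35] 60000 9615 = true := by decide +kernel
theorem c339 : oneAll 24 (appB tabs t41 0xffffff) [39,37,36,38,37,38,35,37,39,37,36,38,37,38,35,37] 0 20000 = true := by decide +kernel
theorem c340 : oneAll 24 (appB tabs t41 0xffffff) [39,37,36,38,37,38,35,37,39,37,36,38,37,38,35,37] 20000 20000 = true := by decide +kernel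
theorem c341 : oneAll 24 (appB tabs t41 0xffffff) [39,37,36,38,37,38,35,37,39,37,36,38,37,38,35,37] 40000 20000 = true := by decide +kernel
theorem c342 : oneAll 24 (appB tabs t41 0xffffff) [39,37,36,38,37,38,35,37,39,37,36,38,37,38,35,37] 60000 9615 = true := by decide +kernel
theorem c343 : oneAll 24 (appB tabs t41 0xffffff) [39,35,37,36,38,36,38,35,39,36,38,35,38,35,37,36] 0 20000 = true := by decide +kernel
theorem c344 : oneAll 24 (appB tabs t41 0xffffff) [39,35,37,36,38,36,38,35,39,36,38,35,38,35,37,36] 20000 20000 = true := by decide +kernel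
theorem c345 : oneAll 24 (appB tabs t41 0xffffff) [39,35,37,36,38,36,38,35,39,36,38,35,38,35,37,36] 40000 20000 = true := by decide +kernel
theorem c346 : oneAll 24 (appB tabs t41 0xffffff) [39,35,37,36,38,36,38,35,39,36,38,35,38,35,37,36] 60000 9615 = true := by decide +kernel
theorem c347 : oneAll 24 (appB tabs t41 0xffffff) [39,35,37,39,36,39,35,39,37,39,36,39,35,37,36] 0 20000 = true := by decide +kernel
theorem c348 : oneAll 24 (appB tabs t41 0xffffff) [39,35,37,39,36,39,35,39,37,39,36,39,35,37,36] 20000 20000 = true := by decide +kernel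
theorem c349 : oneAll 24 (appB tabs t41 0xffffff) [39,35,37,39,36,39,35,39,37,39,36,39,35,37,36] 40000 20000 = true := by decide +kernel
theorem c350 : oneAll 24 (appB tabs t41 0xffffff) [39,35,37,39,36,39,35,39,37,39,36,39,35,37,36] 60000 9615 = true := by decide +kernel
theorem c351 : oneAll 24 (appB tabs t41 0xffffff) [35,37,38,35,39,38,36,36,38,35,38,35,39,38,36,36,38] 0 20000 = true := by decide +kernel
theorem c352 : oneAll 24 (appB tabs t41 0xffffff) [35,37,38,35,39,38,36,36,38,35,38,35,39,38,36,36,38] 20000 20000 = true := by decide +kernel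
theorem c353 : oneAll 24 (appB tabs t41 0xffffff) [35,37,38,35,39,38,36,36,38,35,38,35,39,38,36,36,38] 40000 20000 = true := by decide +kernel
theorem c354 : oneAll 24 (appB tabs t41 0xffffff) [35,37,38,35,39,38,36,36,38,35,38,35,39,38,36,36,38] 60000 9615 = true := by decide +kernel
theorem c355 : oneAll 24 (appB tabs t41 0xffffff) [39,36,37,39,36,37,36,37,39,36,37,39,36,37,36,37] 0 20000 = true := by decide +kernel
theorem c356 : oneAll 24 (appB tabs t41 0xffffff) [39,36,37,39,36,37,36,37,39,36,37,39,36,37,36,37] 20000 20000 = true := by decide +kernel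
theorem c357 : oneAll 24 (appB tabs t41 0xffffff) [39,36,37,39,36,37,36,37,39,36,37,39,36,37,36,37] 40000 20000 = true := by decide +kernel
theorem c358 : oneAll 24 (appB tabs t41 0xffffff) [39,36,37,39,36,37,36,37,39,36,37,39,36,37,36,37] 60000 9615 = true := by decide +kernel
theorem c359 : oneAll 24 (appB tabs t41 0xffffff) [39,35,37,39,35,38,35,35,38,39,37,39,38,36,36,38,36,37,36] 0 20000 = true := by decide +kernel
theorem c360 : oneAll 24 (appB tabs t41 0xffffff) [39,35,37,39,35,38,35,35,38,39,37,39,38,36,36,38,36,37,36] 20000 20000 = true := by decide +kernel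
theorem c361 : oneAll 24 (appB tabs t41 0xffffff) [39,35,37,39,35,38,35,35,38,39,37,39,38,36,36,38,36,37,36] 40000 20000 = true := by decide +kernel
theorem c362 : oneAll 24 (appB tabs t41 0xffffff) [39,35,37,39,35,38,35,35,38,39,37,39,38,36,36,38,36,37,36] 60000 9615 = true := by decide +kernel
theorem c363 : oneAll 24 (appB tabs t41 0xffffff) [39,35,37,36,37,35,38,36,36,36,39,37,35,38,35,37,38,36,38,37] 0 20000 = true := by decide +kernel
theorem c364 : oneAll 24 (appB tabs t41 0xffffff) [39,35,37,36,37,35,38,36,36,36,39,37,35,38,35,37,38,36,38,37] 20000 20000 = true := by decide +kernel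

end Cfsg.Agent.CG.F42
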