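import Cfsg.Agent.Lib.Grp.F42.Defs

set_option autoImplicit false
set_option maxRecDepth 100000
set_option Elab.async false
set_option linter.unusedSectionVars false

namespace Cfsg.Agent.CG.F42

theorem c365 : oneAll 24 (appB tabs t41 0xffffff) [39,35,37,36,37,35,38,36,36,36,39,37,35,38,35,37,38,36,38,37] 40000 20000 = true := by decide +kernel
theorem c366 : oneAll 24 (appB tabs t41 0xffffff) [39,35,37,36,37,35,38,36,36,36,39,37,35,38,35,37,38,36,38,37] 60000 9615 = true := by decide +kernel
theorem c367 : oneAll 24 (appB tabs t41 0xffffff) [39,35,37,35,39,36,37,36,39,35,37,35,39,36,37,36] 0 20000 = true := by decide +kernel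
theorem c368 : oneAll 24 (appB tabs t41 0xffffff) [39,35,37,35,39,36,37,36,39,35,37,35,39,36,37,36] 20000 20000 = true := by decide +kernel
theorem c369 : oneAll 24 (appB tabs t41 0xffffff) [39,35,37,35,39,36,37,36,39,35,37,35,39,36,37,36] 40000 20000 = true := by decide +kernel
theorem c370 : oneAll 24 (appB tabs t41 0xffffff) [39,35,37,35,39,36,37,36,39,35,37,35,39,36,37,36] 60000 9615 = true := by decide +kernel
theorem c371 : oneAll 24 (appB tabs t41 0xffffff) [39,36,37,35,39,36,37,35,39,36,37,35,39,36,37,35] 0 20000 = true := by decide +kernel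
theorem c372 : oneAll 24 (appB tabs t41 0xffffff) [39,36,37,35,39,36,37,35,39,36,37,35,39,36,37,35] 20000 20000 = true := by decide +kernel
theorem c373 : oneAll 24 (appB tabs t41 0xffffff) [39,36,37,35,39,36,37,35,39,36,37,35,39,36,37,35] 40000 20000 = true := by decide +kernel
theorem c374 : oneAll 24 (appB tabs t41 0xffffff) [39,36,37,35,39,36,37,35,39,36,37,35,39,36,37,35] 60000 9615 = true := by decide +kernel
theorem c375 : oneAll 24 (appB tabs t41 0xffffff) [39,36,37,35,39,37,38,37,39,36,37,35,39,37,38,37] 0 20000 = true := by decide +kernel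
theorem c376 : oneAll 24 (appB tabs t41 0xffffff) [39,36,37,35,39,37,38,37,39,36,37,35,39,37,38,37] 20000 20000 = true := by decide +kernel
theorem c377 : oneAll 24 (appB tabs t41 0xffffff) [39,36,37,35,39,37,38,37,39,36,37,35,39,37,38,37] 40000 20000 = true := by decide +kernel
theorem c378 : oneAll 24 (appB tabs t41 0xffffff) [39,36,37,35,39,37,38,37,39,36,37,35,39,37,38,37] 60000 9615 = true := by decide +kernel
theorem c379 : oneAll 24 (appB tabs t41 0xffffff) [39,36,37,35,39,36,38,35,39,36,37,35,39,36,37,38,37,35] 0 20000 = true := by decide +kernel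
theorem c380 : oneAll 24 (appB tabs t41 0xffffff) [39,36,37,35,39,36,38,35,39,36,37,35,39,36,37,38,37,35] 20000 20000 = true := by decide +kernel
theorem c381 : oneAll 24 (appB tabs t41 0xffffff) [39,36,37,35,39,36,38,35,39,36,37,35,39,36,37,38,37,35] 40000 20000 = true := by decide +kernel
theorem c382 : oneAll 24 (appB tabs t41 0xffffff) [39,36,37,35,39,36,38,35,39,36,37,35,39,36,37,38,37,35] 60000 9615 = true := by decide +kernel
theorem c383 : oneAll 24 (appB tabs t41 0xffffff) [39,36,39,35,37,36,39,38,37,36,38,35,39,36,38,35,37,38,35] 0 20000 = true := by decide +kernel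
theorem c384 : oneAll 24 (appB tabs t41 0xffffff) [39,36,39,35,37,36,39,38,37,36,38,35,39,36,38,35,37,38,35] 20000 20000 = true := by decide +kernel
theorem c385 : oneAll 24 (appB tabs t41 0xffffff) [39,36,39,35,37,36,39,38,37,36,38,35,39,36,38,35,37,38,35] 40000 20000 = true := by decide +kernel
theorem c386 : oneAll 24 (appB tabs t41 0xffffff) [39,36,39,35,37,36,39,38,37,36,38,35,39,36,38,35,37,38,35] 60000 9615 = true := by decide +kernel
theorem c387 : oneAll 24 (appB tabs t41 0xffffff) [39,38,37,38,39,35,37,39,35,38,39,38,36,37,36,38,35,37,36,37,38] 0 19417 = true := by decide +kernel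
theorem c388 : oneAll 24 (appB tabs t41 0xffffff) [39,38,37,38,39,35,37,39,35,38,39,38,36,37,36,38,35,37,36,37,38] 19417 19417 = true := by decide +kernel
theorem c389 : oneAll 24 (appB tabs t41 0xffffff) [39,38,37,38,39,35,37,39,35,38,39,38,36,37,36,38,35,37,36,37,38] 38834 19417 = true := by decide +kernel
theorem c390 : oneAll 24 (appB tabs t41 0xffffff) [39,38,37,38,39,35,37,39,35,38,39,38,36,37,36,38,35,37,36,37,38] 58251 11364 = true := by decide +kernel
theorem c391 : oneAll 24 (appB tabs t41 0xffffff) [39,36,39,36,36,37,39,37,39,35,35,39,35,39,36,36,36,37,35,35,35] 0 19417 = true := by decide +kernel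
theorem c392 : oneAll 24 (appB tabs t41 0xffffff) [39,36,39,36,36,37,39,37,39,35,35,39,35,39,36,36,36,37,35,35,35] 19417 19417 = true := by decide +kernel
theorem c393 : oneAll 24 (appB tabs t41 0xffffff) [39,36,39,36,36,37,39,37,39,35,35,39,35,39,36,36,36,37,35,35,35] 38834 19417 = true := by decide +kernel
theorem c394 : oneAll 24 (appB tabs t41 0xffffff) [39,36,39,36,36,37,39,37,39,35,35,39,35,39,36,36,36,37,35,35,35] 58251 11364 = true := by decide +kernel
theorem c395 : oneAll 24 (appB tabs t41 0xffffff) [39,35,38,37,38,35,37,39,37,36,36,39,37,35,37,38,37,36,37,35,38,36] 0 18575 = true := by decide +kernel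

end Cfsg.Agent.CG.F42
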