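import Cfsg.Agent.Lib.Grp.F42.Defs

set_option autoImplicit false
set_option maxRecDepth 100000
set_option Elab.async false
set_option linter.unusedSectionVars false

namespace Cfsg.Agent.CG.F42

theorem c396 : oneAll 24 (appB tabs t41 0xffffff) [39,35,38,37,38,35,37,39,37,36,36,39,37,35,37,38,37,36,37,35,38,36] 18575 18575 = true := by decide +kernel
theorem c397 : oneAll 24 (appB tabs t41 0xffffff) [39,35,38,37,38,35,37,39,37,36,36,39,37,35,37,38,37,36,37,35,38,36] 37150 18575 = true := by decide +kernel
theorem c398 : oneAll 24 (appB tabs t41 0xffffff) [39,35,38,37,38,35,37,39,37,36,36,39,37,35,37,38,37,36,37,35,38,36] 55725 13890 = true := by decide +kernel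
theorem c399 : oneAll 24 (appB tabs t41 0xffffff) [39,35,38,36,39,36,37,35,39,35,38,36,39,36,36,38,35,37,38,37,35,38] 0 18575 = true := by decide +kernel
theorem c400 : oneAll 24 (appB tabs t41 0xffffff) [39,35,38,36,39,36,37,35,39,35,38,36,39,36,36,38,35,37,38,37,35,38] 18575 18575 = true := by decide +kernel
theorem c401 : oneAll 24 (appB tabs t41 0xffffff) [39,35,38,36,39,36,37,35,39,35,38,36,39,36,36,38,35,37,38,37,35,38] 37150 18575 = true := by decide +kernel
theorem c402 : oneAll 24 (appB tabs t41 0xffffff) [39,35,38,36,39,36,37,35,39,35,38,36,39,36,36,38,35,37,38,37,35,38] 55725 13890 = true := by decide +kernel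
theorem c403 : oneAll 24 (appB tabs t41 0xffffff) [40,40] 0 20000 = true := by decide +kernel
theorem c404 : oneAll 24 (appB tabs t41 0xffffff) [40,40] 20000 20000 = true := by decide +kernel
theorem c405 : oneAll 24 (appB tabs t41 0xffffff) [40,40] 40000 20000 = true := by decide +kernel
theorem c406 : oneAll 24 (appB tabs t41 0xffffff) [40,40] 60000 9615 = true := by decide +kernel
theorem c407 : oneAll 24 (appB tabs t41 0xffffff) [40,35,40,35] 0 20000 = true := by decide +kernel
theorem c408 : oneAll 24 (appB tabs t41 0xffffff) [40,35,40,35] 20000 20000 = true := by decide +kernel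
theorem c409 : oneAll 24 (appB tabs t41 0xffffff) [40,35,40,35] 40000 20000 = true := by decide +kernel
theorem c410 : oneAll 24 (appB tabs t41 0xffffff) [40,35,40,35] 60000 9615 = true := by decide +kernel
theorem c411 : oneAll 24 (appB tabs t41 0xffffff) [40,37,40,37] 0 20000 = true := by decide +kernel
theorem c412 : oneAll 24 (appB tabs t41 0xffffff) [40,37,40,37] 20000 20000 = true := by decide +kernel
theorem c413 : oneAll 24 (appB tabs t41 0xffffff) [40,37,40,37] 40000 20000 = true := by decide +kernel
theorem c414 : oneAll 24 (appB tabs t41 0xffffff) [40,37,40,37] 60000 9615 = true := by decide +kernel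
theorem c415 : oneAll 24 (appB tabs t41 0xffffff) [40,38,40,38] 0 20000 = true := by decide +kernel
theorem c416 : oneAll 24 (appB tabs t41 0xffffff) [40,38,40,38] 20000 20000 = true := by decide +kernel
theorem c417 : oneAll 24 (appB tabs t41 0xffffff) [40,38,40,38] 40000 20000 = true := by decide +kernel
theorem c418 : oneAll 24 (appB tabs t41 0xffffff) [40,38,40,38] 60000 9615 = true := by decide +kernel
theorem c419 : oneAll 24 (appB tabs t41 0xffffff) [40,39,38,39,40,39,38,39,40,39,38,39,40,39,38,39] 0 20000 = true := by decide +kernel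
theorem c420 : oneAll 24 (appB tabs t41 0xffffff) [40,39,38,39,40,39,38,39,40,39,38,39,40,39,38,39] 20000 20000 = true := by decide +kernel
theorem c421 : oneAll 24 (appB tabs t41 0xffffff) [40,39,38,39,40,39,38,39,40,39,38,39,40,39,38,39] 40000 20000 = true := by decide +kernel
theorem c422 : oneAll 24 (appB tabs t41 0xffffff) [40,39,38,39,40,39,38,39,40,39,38,39,40,39,38,39] 60000 9615 = true := by decide +kernel
theorem c423 : oneAll 24 (appB tabs t41 0xffffff) [40,39,40,39,38,40,39,40,38,39,40,39,40,38,36,39,38,39,35,38,39,36,38,35,39] 0 16438 = true := by decide +kernel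
theorem c424 : oneAll 24 (appB tabs t41 0xffffff) [40,39,40,39,38,40,39,40,38,39,40,39,40,38,36,39,38,39,35,38,39,36,38,35,39] 16438 16438 = true := by decide +kernel
theorem c425 : oneAll 24 (appB tabs t41 0xffffff) [40,39,40,39,38,40,39,40,38,39,40,39,40,38,36,39,38,39,35,38,39,36,38,35,39] 32876 16438 = true := by decide +kernel
theorem c426 : oneAll 24 (appB tabs t41 0xffffff) [40,39,40,39,38,40,39,40,38,39,40,39,40,38,36,39,38,39,35,38,39,36,38,35,39] 49314 16438 = true := by decide +kernel
theorem c427 : oneAll 24 (appB tabs t41 0xffffff) [40,39,40,39,38,40,39,40,38,39,40,39,40,38,36,39,38,39,35,38,39,36,38,35,39] 65752 3863 = true := by decide +kernel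
theorem c428 : oneAll 24 (appB tabs t41 0xffffff) [36,38,40,39,38,40,39,38,36,37,35,38,39,40,38,39,40,38,35,37] 0 20000 = true := by decide +kernel
theorem c429 : oneAll 24 (appB tabs t41 0xffffff) [36,38,40,39,38,40,39,38,36,37,35,38,39,40,38,39,40,38,35,37] 20000 20000 = true := by decide +kernel
theorem c430 : oneAll 24 (appB tabs t41 0xffffff) [36,38,40,39,38,40,39,38,36,37,35,38,39,40,38,39,40,38,35,37] 40000 20000 = true := by decide +kernel
theorem c431 : oneAll 24 (appB tabs t41 0xffffff) [36,38,40,39,38,40,39,38,36,37,35,38,39,40,38,39,40,38,35,37] 60000 9615 = true := by decide +kernel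
theorem c432 : oneAll 24 (appB tabs t41 0xffffff) [40,39,38,39,35,38,35,37,38,36,39,38,39,40,36,36,36,37,35,35,38,35,38,35,35,37] 0 15831 = true := by decide +kernel
theorem c433 : oneAll 24 (appB tabs t41 0xffffff) [40,39,38,39,35,38,35,37,38,36,39,38,39,40,36,36,36,37,35,35,38,35,38,35,35,37] 15831 15831 = true := by decide +kernel
theorem c434 : oneAll 24 (appB tabs t41 0xffffff) [40,39,38,39,35,38,35,37,38,36,39,38,39,40,36,36,36,37,35,35,38,35,38,35,35,37] 31662 15831 = true := by decide +kernel
theorem c435 : oneAll 24 (appB tabs t41 0xffffff) [40,39,38,39,35,38,35,37,38,36,39,38,39,40,36,36,36,37,35,35,38,35,38,35,35,37] 47493 15831 = true := by decide +kernel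
theorem c436 : oneAll 24 (appB tabs t41 0xffffff) [40,39,38,39,35,38,35,37,38,36,39,38,39,40,36,36,36,37,35,35,38,35,38,35,35,37] 63324 6291 = true := by decide +kernel

end Cfsg.Agent.CG.F42
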