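import Cfsg.Agent.Lib.Grp.F42.Defs

set_option autoImplicit false
set_option maxRecDepth 100000
set_option Elab.async false
set_option linter.unusedSectionVars false

namespace Cfsg.Agent.CG.F42

theorem c437 : oneAll 24 (appB tabs t41 0xffffff) [40,39,35,39,40,39,37,39,40,39,36,39,40,35,38,35,38,36,37,35,38,39,35,37,36,39,36,38,36] 0 14251 = true := by decide +kernel
theorem c438 : oneAll 24 (appB tabs t41 0xffffff) [40,39,35,39,40,39,37,39,40,39,36,39,40,35,38,35,38,36,37,35,38,39,35,37,36,39,36,38,36] 14251 14251 = true := by decide +kernel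
theorem c439 : oneAll 24 (appB tabs t41 0xffffff) [40,39,35,39,40,39,37,39,40,39,36,39,40,35,38,35,38,36,37,35,38,39,35,37,36,39,36,38,36] 28502 14251 = true := by decide +kernel
theorem c440 : oneAll 24 (appB tabs t41 0xffffff) [40,39,35,39,40,39,37,39,40,39,36,39,40,35,38,35,38,36,37,35,38,39,35,37,36,39,36,38,36] 42753 14251 = true := by decide +kernel
theorem c441 : oneAll 24 (appB tabs t41 0xffffff) [40,39,35,39,40,39,37,39,40,39,36,39,40,35,38,35,38,36,37,35,38,39,35,37,36,39,36,38,36] 57004 12611 = true := by decide +kernel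
theorem c442 : oneAll 24 (appB tabs t41 0xffffff) [40,39,36,36,38,39,40,39,38,39,40,39,35,35,39,40,35,38,37,38,35,39,37,38,39,38,37,36,36] 0 14251 = true := by decide +kernel
theorem c443 : oneAll 24 (appB tabs t41 0xffffff) [40,39,36,36,38,39,40,39,38,39,40,39,35,35,39,40,35,38,37,38,35,39,37,38,39,38,37,36,36] 14251 14251 = true := by decide +kernel
theorem c444 : oneAll 24 (appB tabs t41 0xffffff) [40,39,36,36,38,39,40,39,38,39,40,39,35,35,39,40,35,38,37,38,35,39,37,38,39,38,37,36,36] 28502 14251 = true := by decide +kernel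
theorem c445 : oneAll 24 (appB tabs t41 0xffffff) [40,39,36,36,38,39,40,39,38,39,40,39,35,35,39,40,35,38,37,38,35,39,37,38,39,38,37,36,36] 42753 14251 = true := by decide +kernel
theorem c446 : oneAll 24 (appB tabs t41 0xffffff) [40,39,36,36,38,39,40,39,38,39,40,39,35,35,39,40,35,38,37,38,35,39,37,38,39,38,37,36,36] 57004 12611 = true := by decide +kernel
theorem c447 : oneAll 24 (appB tabs t41 0xffffff) [40,39,40,39,35,38,37,38,36,39,40,39,40,36,36,37,36,38,37,38,36,36,38,35,38,37,39,37,38,37,39] 0 13363 = true := by decide +kernel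
theorem c448 : oneAll 24 (appB tabs t41 0xffffff) [40,39,40,39,35,38,37,38,36,39,40,39,40,36,36,37,36,38,37,38,36,36,38,35,38,37,39,37,38,37,39] 13363 13363 = true := by decide +kernel
theorem c449 : oneAll 24 (appB tabs t41 0xffffff) [40,39,40,39,35,38,37,38,36,39,40,39,40,36,36,37,36,38,37,38,36,36,38,35,38,37,39,37,38,37,39] 26726 13363 = true := by decide +kernel
theorem c450 : oneAll 24 (appB tabs t41 0xffffff) [40,39,40,39,35,38,37,38,36,39,40,39,40,36,36,37,36,38,37,38,36,36,38,35,38,37,39,37,38,37,39] 40089 13363 = true := by decide +kernel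
theorem c451 : oneAll 24 (appB tabs t41 0xffffff) [40,39,40,39,35,38,37,38,36,39,40,39,40,36,36,37,36,38,37,38,36,36,38,35,38,37,39,37,38,37,39] 53452 13363 = true := by decide +kernel
theorem c452 : oneAll 24 (appB tabs t41 0xffffff) [40,39,40,39,35,38,37,38,36,39,40,39,40,36,36,37,36,38,37,38,36,36,38,35,38,37,39,37,38,37,39] 66815 2800 = true := by decide +kernel
theorem c453 : oneAll 24 (appB tabs t41 0xffffff) [40,39,40,39,38,36,37,36,37,38,39,40,39,40,37,36,37,35,35,37,36,38,36,38,37,35,39,38,36,39,37,38] 0 12958 = true := by decide +kernel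
theorem c454 : oneAll 24 (appB tabs t41 0xffffff) [40,39,40,39,38,36,37,36,37,38,39,40,39,40,37,36,37,35,35,37,36,38,36,38,37,35,39,38,36,39,37,38] 12958 12958 = true := by decide +kernel
theorem c455 : oneAll 24 (appB tabs t41 0xffffff) [40,39,40,39,38,36,37,36,37,38,39,40,39,40,37,36,37,35,35,37,36,38,36,38,37,35,39,38,36,39,37,38] 25916 12958 = true := by decide +kernel
theorem c456 : oneAll 24 (appB tabs t41 0xffffff) [40,39,40,39,38,36,37,36,37,38,39,40,39,40,37,36,37,35,35,37,36,38,36,38,37,35,39,38,36,39,37,38] 38874 12958 = true := by decide +kernel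
theorem c457 : oneAll 24 (appB tabs t41 0xffffff) [40,39,40,39,38,36,37,36,37,38,39,40,39,40,37,36,37,35,35,37,36,38,36,38,37,35,39,38,36,39,37,38] 51832 12958 = true := by decide +kernel
theorem c458 : oneAll 24 (appB tabs t41 0xffffff) [40,39,40,39,38,36,37,36,37,38,39,40,39,40,37,36,37,35,35,37,36,38,36,38,37,35,39,38,36,39,37,38] 64790 4825 = true := by decide +kernel
theorem c459 : oneAll 24 (appB tabs t41 0xffffff) [40,39,37,39,35,38,39,37,35,37,39,40,39,40,36,36,37,35,38,36,37,36,37,35,35,39,35,37,38,39,35,39] 0 12958 = true := by decide +kernel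
theorem c460 : oneAll 24 (appB tabs t41 0xffffff) [40,39,37,39,35,38,39,37,35,37,39,40,39,40,36,36,37,35,38,36,37,36,37,35,35,39,35,37,38,39,35,39] 12958 12958 = true := by decide +kernel
theorem c461 : oneAll 24 (appB tabs t41 0xffffff) [40,39,37,39,35,38,39,37,35,37,39,40,39,40,36,36,37,35,38,36,37,36,37,35,35,39,35,37,38,39,35,39] 25916 12958 = true := by decide +kernel
theorem c462 : oneAll 24 (appB tabs t41 0xffffff) [40,39,37,39,35,38,39,37,35,37,39,40,39,40,36,36,37,35,38,36,37,36,37,35,35,39,35,37,38,39,35,39] 38874 12958 = true := by decide +kernel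

end Cfsg.Agent.CG.F42
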