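import Cfsg.Agent.Lib.Grp.F42.D0
import Cfsg.Agent.Lib.Grp.F42.D1
import Cfsg.Agent.Lib.Grp.F42.D2
import Cfsg.Agent.Lib.Grp.F42.D3

set_option autoImplicit false
set_option maxRecDepth 100000
set_option Elab.async false
set_option linter.unusedSectionVars false

namespace Cfsg.Agent.CG.F42

noncomputable def t0 : Tr ℕ := (.node (.node (.node (.node (.node (.leaf t0_0) (.leaf t0_16)) (.node (.leaf t0_8) (.leaf t0_24))) (.node (.node (.leaf t0_4) (.leaf t0_20)) (.leaf t0_12))) (.node (.node (.node (.leaf t0_2) (.leaf t0_18)) (.leaf t0_10)) (.node (.node (.leaf t0_6) (.leaf t0_22)) (.leaf t0_14)))) (.node (.node (.node (.node (.leaf t0_1) (.leaf t0_17)) (.node (.leaf t0_9) (.leaf t0_25))) (.node (.node (.leaf t0_5) (.leaf t0_21)) (.leaf t0_13))) (.node (.node (.node (.leaf t0_3) (.leaf t0_19)) (.leaf t0_11)) (.node (.node (.leaf t0_7) (.leaf t0_23)) (.leaf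 t0_15)))))
noncomputable def t1 : Tr ℕ := (.node (.node (.node (.node (.node (.leaf t1_0) (.leaf t1_16)) (.node (.leaf t1_8) (.leaf t1_24))) (.node (.node (.leaf t1_4) (.leaf t1_20)) (.leaf t1_12))) (.node (.node (.node (.leaf t1_2) (.leaf t1_18)) (.leaf t1_10)) (.node (.node (.leaf t1_6) (.leaf t1_22)) (.leaf t1_14)))) (.node (.node (.node (.node (.leaf t1_1) (.leaf t1_17)) (.node (.leaf t1_9) (.leaf t1_25))) (.node (.node (.leaf t1_5) (.leaf t1_21)) (.leaf t1_13))) (.node (.node (.node (.leaf t1_3) (.leaf t1_19)) (.leaf t1_11)) (.node (.node (.leaf t1_7) (.leaf t1_23)) (.leaf t1_15)))))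
noncomputable def t2 : Tr ℕ := (.node (.node (.node (.node (.node (.leaf t2_0) (.leaf t2_16)) (.node (.leaf t2_8) (.leaf t2_24))) (.node (.node (.leaf t2_4) (.leaf t2_20)) (.leaf t2_12))) (.node (.node (.node (.leaf t2_2) (.leaf t2_18)) (.leaf t2_10)) (.node (.node (.leaf t2_6) (.leaf t2_22)) (.leaf t2_14)))) (.node (.node (.node (.node (.leaf t2_1) (.leaf t2_17)) (.node (.leaf t2_9) (.leaf t2_25))) (.node (.node (.leaf t2_5) (.leaf t2_21)) (.leaf t2_13))) (.node (.node (.node (.leaf t2_3) (.leaf t2_19)) (.leaf t2_11)) (.node (.node (.leaf t2_7) (.leaf t2_23)) (.leaf t2_15)))))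
noncomputable def t3 : Tr ℕ := (.node (.node (.node (.node (.node (.leaf t3_0) (.leaf t3_16)) (.node (.leaf t3_8) (.leaf t3_24))) (.node (.node (.leaf t3_4) (.leaf t3_20)) (.leaf t3_12))) (.node (.node (.node (.leaf t3_2) (.leaf t3_18)) (.leaf t3_10)) (.node (.node (.leaf t3_6) (.leaf t3_22)) (.leaf t3_14)))) (.node (.node (.node (.node (.leaf t3_1) (.leaf t3_17)) (.node (.leaf t3_9) (.leaf t3_25))) (.node (.node (.leaf t3_5) (.leaf t3_21)) (.leaf t3_13))) (.node (.node (.node (.leaf t3_3) (.leaf t3_19)) (.leaf t3_11)) (.node (.node (.leaf t3_7) (.leaf t3_23)) (.leaf t3_15)))))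
noncomputable def t4 : Tr ℕ := (.node (.node (.node (.node (.node (.leaf t4_0) (.leaf t4_16)) (.node (.leaf t4_8) (.leaf t4_24))) (.node (.node (.leaf t4_4) (.leaf t4_20)) (.leaf t4_12))) (.node (.node (.node (.leaf t4_2) (.leaf t4_18)) (.leaf t4_10)) (.node (.node (.leaf t4_6) (.leaf t4_22)) (.leaf t4_14)))) (.node (.node (.node (.node (.leaf t4_1) (.leaf t4_17)) (.node (.leaf t4_9) (.leaf t4_25))) (.node (.node (.leaf t4_5) (.leaf t4_21)) (.leaf t4_13))) (.node (.node (.node (.leaf t4_3) (.leaf t4_19)) (.leaf t4_11)) (.node (.node (.leaf t4_7) (.leaf t4_23)) (.leaf t4_15)))))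
noncomputable def t5 : Tr ℕ := (.node (.node (.node (.node (.node (.leaf t5_0) (.leaf t5_16)) (.node (.leaf t5_8) (.leaf t5_24))) (.node (.node (.leaf t5_4) (.leaf t5_20)) (.leaf t5_12))) (.node (.node (.node (.leaf t5_2) (.leaf t5_18)) (.leaf t5_10)) (.node (.node (.leaf t5_6) (.leaf t5_22)) (.leaf t5_14)))) (.node (.node (.node (.node (.leaf t5_1) (.leaf t5_17)) (.node (.leaf t5_9) (.leaf t5_25))) (.node (.node (.leaf t5_5) (.leaf t5_21)) (.leaf t5_13))) (.node (.node (.node (.leaf t5_3) (.leaf t5_19)) (.leaf t5_11)) (.node (.node (.leaf t5_7) (.leaf t5_23)) (.leaf t5_15)))))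
noncomputable def t6 : Tr ℕ := (.node (.node (.node (.node (.node (.leaf t6_0) (.leaf t6_16)) (.node (.leaf t6_8) (.leaf t6_24))) (.node (.node (.leaf t6_4) (.leaf t6_20)) (.leaf t6_12))) (.node (.node (.node (.leaf t6_2) (.leaf t6_18)) (.leaf t6_10)) (.node (.node (.leaf t6_6) (.leaf t6_22)) (.leaf t6_14)))) (.node (.node (.node (.node (.leaf t6_1) (.leaf t6_17)) (.node (.leaf t6_9) (.leaf t6_25))) (.node (.node (.leaf t6_5) (.leaf t6_21)) (.leaf t6_13))) (.node (.node (.node (.leaf t6_3) (.leaf t6_19)) (.leaf t6_11)) (.node (.node (.leaf t6_7) (.leaf t6_23)) (.leaf t6_15)))))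
noncomputable def t7 : Tr ℕ := (.node (.node (.node (.node (.node (.leaf t7_0) (.leaf t7_16)) (.node (.leaf t7_8) (.leaf t7_24))) (.node (.node (.leaf t7_4) (.leaf t7_20)) (.leaf t7_12))) (.node (.node (.node (.leaf t7_2) (.leaf t7_18)) (.leaf t7_10)) (.node (.node (.leaf t7_6) (.leaf t7_22)) (.leaf t7_14)))) (.node (.node (.node (.node (.leaf t7_1) (.leaf t7_17)) (.node (.leaf t7_9) (.leaf t7_25))) (.node (.node (.leaf t7_5) (.leaf t7_21)) (.leaf t7_13))) (.node (.node (.node (.leaf t7_3) (.leaf t7_19)) (.leaf t7_11)) (.node (.node (.leaf t7_7) (.leaf t7_23)) (.leaf t7_15)))))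
noncomputable def t8 : Tr ℕ := (.node (.node (.node (.node (.node (.leaf t8_0) (.leaf t8_16)) (.node (.leaf t8_8) (.leaf t8_24))) (.node (.node (.leaf t8_4) (.leaf t8_20)) (.leaf t8_12))) (.node (.node (.node (.leaf t8_2) (.leaf t8_18)) (.leaf t8_10)) (.node (.node (.leaf t8_6) (.leaf t8_22)) (.leaf t8_14)))) (.node (.node (.node (.node (.leaf t8_1) (.leaf t8_17)) (.node (.leaf t8_9) (.leaf t8_25))) (.node (.node (.leaf t8_5) (.leaf t8_21)) (.leaf t8_13))) (.node (.node (.node (.leaf t8_3) (.leaf t8_19)) (.leaf t8_11)) (.node (.node (.leaf t8_7) (.leaf t8_23)) (.leaf t8_15)))))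
noncomputable def t9 : Tr ℕ := (.node (.node (.node (.node (.node (.leaf t9_0) (.leaf t9_16)) (.node (.leaf t9_8) (.leaf t9_24))) (.node (.node (.leaf t9_4) (.leaf t9_20)) (.leaf t9_12))) (.node (.node (.node (.leaf t9_2) (.leaf t9_18)) (.leaf t9_10)) (.node (.node (.leaf t9_6) (.leaf t9_22)) (.leaf t9_14)))) (.node (.node (.node (.node (.leaf t9_1) (.leaf t9_17)) (.node (.leaf t9_9) (.leaf t9_25))) (.node (.node (.leaf t9_5) (.leaf t9_21)) (.leaf t9_13))) (.node (.node (.node (.leaf t9_3) (.leaf t9_19)) (.leaf t9_11)) (.node (.node (.leaf t9_7) (.leaf t9_23)) (.leaf t9_15)))))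
noncomputable def t10 : Tr ℕ := (.node (.node (.node (.node (.node (.leaf t10_0) (.leaf t10_16)) (.node (.leaf t10_8) (.leaf t10_24))) (.node (.node (.leaf t10_4) (.leaf t10_20)) (.leaf t10_12))) (.node (.node (.node (.leaf t10_2) (.leaf t10_18)) (.leaf t10_10)) (.node (.node (.leaf t10_6) (.leaf t10_22)) (.leaf t10_14)))) (.node (.node (.node (.node (.leaf t10_1) (.leaf t10_17)) (.node (.leaf t10_9) (.leaf t10_25))) (.node (.node (.leaf t10_5) (.leaf t10_21)) (.leaf t10_13))) (.node (.node (.node (.leaf t10_3) (.leaf t10_19)) (.leaf t10_11)) (.node (.node (.leaf t10_7) (.leaf t10_23)) (.leaf t10_15)))))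
noncomputable def t11 : Tr ℕ := (.node (.node (.node (.node (.node (.leaf t11_0) (.leaf t11_16)) (.node (.leaf t11_8) (.leaf t11_24))) (.node (.node (.leaf t11_4) (.leaf t11_20)) (.leaf t11_12))) (.node (.node (.node (.leaf t11_2) (.leaf t11_18)) (.leaf t11_10)) (.node (.node (.leaf t11_6) (.leaf t11_22)) (.leaf t11_14)))) (.node (.node (.node (.node (.leaf t11_1) (.leaf t11_17)) (.node (.leaf t11_9) (.leaf t11_25))) (.node (.node (.leaf t11_5) (.leaf t11_21)) (.leaf t11_13))) (.node (.node (.node (.leaf t11_3) (.leaf t11_19)) (.leaf t11_11)) (.node (.node (.leaf t11_7) (.leaf t11_23)) (.leaf t11_15)))))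
noncomputable def t12 : Tr ℕ := (.node (.node (.node (.node (.node (.leaf t12_0) (.leaf t12_16)) (.node (.leaf t12_8) (.leaf t12_24))) (.node (.node (.leaf t12_4) (.leaf t12_20)) (.leaf t12_12))) (.node (.node (.node (.leaf t12_2) (.leaf t12_18)) (.leaf t12_10)) (.node (.node (.leaf t12_6) (.leaf t12_22)) (.leaf t12_14)))) (.node (.node (.node (.node (.leaf t12_1) (.leaf t12_17)) (.node (.leaf t12_9) (.leaf t12_25))) (.node (.node (.leaf t12_5) (.leaf t12_21)) (.leaf t12_13))) (.node (.node (.node (.leaf t12_3) (.leaf t12_19)) (.leaf t12_11)) (.node (.node (.leaf t12_7) (.leaf t12_23)) (.leaf t12_15)))))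
noncomputable def t13 : Tr ℕ := (.node (.node (.node (.node (.node (.leaf t13_0) (.leaf t13_16)) (.node (.leaf t13_8) (.leaf t13_24))) (.node (.node (.leaf t13_4) (.leaf t13_20)) (.leaf t13_12))) (.node (.node (.node (.leaf t13_2) (.leaf t13_18)) (.leaf t13_10)) (.node (.node (.leaf t13_6) (.leaf t13_22)) (.leaf t13_14)))) (.node (.node (.node (.node (.leaf t13_1) (.leaf t13_17)) (.node (.leaf t13_9) (.leaf t13_25))) (.node (.node (.leaf t13_5) (.leaf t13_21)) (.leaf t13_13))) (.node (.node (.node (.leaf t13_3) (.leaf t13_19)) (.leaf t13_11)) (.node (.node (.leaf t13_7) (.leaf t13_23)) (.leaf t13_15)))))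
noncomputable def t14 : Tr ℕ := (.node (.node (.node (.node (.node (.leaf t14_0) (.leaf t14_16)) (.node (.leaf t14_8) (.leaf t14_24))) (.node (.node (.leaf t14_4) (.leaf t14_20)) (.leaf t14_12))) (.node (.node (.node (.leaf t14_2) (.leaf t14_18)) (.leaf t14_10)) (.node (.node (.leaf t14_6) (.leaf t14_22)) (.leaf t14_14)))) (.node (.node (.node (.node (.leaf t14_1) (.leaf t14_17)) (.node (.leaf t14_9) (.leaf t14_25))) (.node (.node (.leaf t14_5) (.leaf t14_21)) (.leaf t14_13))) (.node (.node (.node (.leaf t14_3) (.leaf t14_19)) (.leaf t14_11)) (.node (.node (.leaf t14_7) (.leaf t14_23)) (.leaf t14_15)))))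
noncomputable def t15 : Tr ℕ := (.node (.node (.node (.node (.node (.leaf t15_0) (.leaf t15_16)) (.node (.leaf t15_8) (.leaf t15_24))) (.node (.node (.leaf t15_4) (.leaf t15_20)) (.leaf t15_12))) (.node (.node (.node (.leaf t15_2) (.leaf t15_18)) (.leaf t15_10)) (.node (.node (.leaf t15_6) (.leaf t15_22)) (.leaf t15_14)))) (.node (.node (.node (.node (.leaf t15_1) (.leaf t15_17)) (.node (.leaf t15_9) (.leaf t15_25))) (.node (.node (.leaf t15_5) (.leaf t15_21)) (.leaf t15_13))) (.node (.node (.node (.leaf t15_3) (.leaf t15_19)) (.leaf t15_11)) (.node (.node (.leaf t15_7) (.leaf t15_23)) (.leaf t15_15)))))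
noncomputable def t16 : Tr ℕ := (.node (.node (.node (.node (.node (.leaf t16_0) (.leaf t16_16)) (.node (.leaf t16_8) (.leaf t16_24))) (.node (.node (.leaf t16_4) (.leaf t16_20)) (.leaf t16_12))) (.node (.node (.node (.leaf t16_2) (.leaf t16_18)) (.leaf t16_10)) (.node (.node (.leaf t16_6) (.leaf t16_22)) (.leaf t16_14)))) (.node (.node (.node (.node (.leaf t16_1) (.leaf t16_17)) (.node (.leaf t16_9) (.leaf t16_25))) (.node (.node (.leaf t16_5) (.leaf t16_21)) (.leaf t16_13))) (.node (.node (.node (.leaf t16_3) (.leaf t16_19)) (.leaf t16_11)) (.node (.node (.leaf t16_7) (.leaf t16_23)) (.leaf t16_15)))))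
noncomputable def t17 : Tr ℕ := (.node (.node (.node (.node (.node (.leaf t17_0) (.leaf t17_16)) (.node (.leaf t17_8) (.leaf t17_24))) (.node (.node (.leaf t17_4) (.leaf t17_20)) (.leaf t17_12))) (.node (.node (.node (.leaf t17_2) (.leaf t17_18)) (.leaf t17_10)) (.node (.node (.leaf t17_6) (.leaf t17_22)) (.leaf t17_14)))) (.node (.node (.node (.node (.leaf t17_1) (.leaf t17_17)) (.node (.leaf t17_9) (.leaf t17_25))) (.node (.node (.leaf t17_5) (.leaf t17_21)) (.leaf t17_13))) (.node (.node (.node (.leaf t17_3) (.leaf t17_19)) (.leaf t17_11)) (.node (.node (.leaf t17_7) (.leaf t17_23)) (.leaf t17_15)))))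
noncomputable def t18 : Tr ℕ := (.node (.node (.node (.node (.node (.leaf t18_0) (.leaf t18_16)) (.node (.leaf t18_8) (.leaf t18_24))) (.node (.node (.leaf t18_4) (.leaf t18_20)) (.leaf t18_12))) (.node (.node (.node (.leaf t18_2) (.leaf t18_18)) (.leaf t18_10)) (.node (.node (.leaf t18_6) (.leaf t18_22)) (.leaf t18_14)))) (.node (.node (.node (.node (.leaf t18_1) (.leaf t18_17)) (.node (.leaf t18_9) (.leaf t18_25))) (.node (.node (.leaf t18_5) (.leaf t18_21)) (.leaf t18_13))) (.node (.node (.node (.leaf t18_3) (.leaf t18_19)) (.leaf t18_11)) (.node (.node (.leaf t18_7) (.leaf t18_23)) (.leaf t18_15)))))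
noncomputable def t19 : Tr ℕ := (.node (.node (.node (.node (.node (.leaf t19_0) (.leaf t19_16)) (.node (.leaf t19_8) (.leaf t19_24))) (.node (.node (.leaf t19_4) (.leaf t19_20)) (.leaf t19_12))) (.node (.node (.node (.leaf t19_2) (.leaf t19_18)) (.leaf t19_10)) (.node (.node (.leaf t19_6) (.leaf t19_22)) (.leaf t19_14)))) (.node (.node (.node (.node (.leaf t19_1) (.leaf t19_17)) (.node (.leaf t19_9) (.leaf t19_25))) (.node (.node (.leaf t19_5) (.leaf t19_21)) (.leaf t19_13))) (.node (.node (.node (.leaf t19_3) (.leaf t19_19)) (.leaf t19_11)) (.node (.node (.leaf t19_7) (.leaf t19_23)) (.leaf t19_15)))))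
noncomputable def t20 : Tr ℕ := (.node (.node (.node (.node (.node (.leaf t20_0) (.leaf t20_16)) (.node (.leaf t20_8) (.leaf t20_24))) (.node (.node (.leaf t20_4) (.leaf t20_20)) (.leaf t20_12))) (.node (.node (.node (.leaf t20_2) (.leaf t20_18)) (.leaf t20_10)) (.node (.node (.leaf t20_6) (.leaf t20_22)) (.leaf t20_14)))) (.node (.node (.node (.node (.leaf t20_1) (.leaf t20_17)) (.node (.leaf t20_9) (.leaf t20_25))) (.node (.node (.leaf t20_5) (.leaf t20_21)) (.leaf t20_13))) (.node (.node (.node (.leaf t20_3) (.leaf t20_19)) (.leaf t20_11)) (.node (.node (.leaf t20_7) (.leaf t20_23)) (.leaf t20_15)))))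
noncomputable def t21 : Tr ℕ := (.node (.node (.node (.node (.node (.leaf t21_0) (.leaf t21_16)) (.node (.leaf t21_8) (.leaf t21_24))) (.node (.node (.leaf t21_4) (.leaf t21_20)) (.leaf t21_12))) (.node (.node (.node (.leaf t21_2) (.leaf t21_18)) (.leaf t21_10)) (.node (.node (.leaf t21_6) (.leaf t21_22)) (.leaf t21_14)))) (.node (.node (.node (.node (.leaf t21_1) (.leaf t21_17)) (.node (.leaf t21_9) (.leaf t21_25))) (.node (.node (.leaf t21_5) (.leaf t21_21)) (.leaf t21_13))) (.node (.node (.node (.leaf t21_3) (.leaf t21_19)) (.leaf t21_11)) (.node (.node (.leaf t21_7) (.leaf t21_23)) (.leaf t21_15)))))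
noncomputable def t22 : Tr ℕ := (.node (.node (.node (.node (.node (.leaf t22_0) (.leaf t22_16)) (.node (.leaf t22_8) (.leaf t22_24))) (.node (.node (.leaf t22_4) (.leaf t22_20)) (.leaf t22_12))) (.node (.node (.node (.leaf t22_2) (.leaf t22_18)) (.leaf t22_10)) (.node (.node (.leaf t22_6) (.leaf t22_22)) (.leaf t22_14)))) (.node (.node (.node (.node (.leaf t22_1) (.leaf t22_17)) (.node (.leaf t22_9) (.leaf t22_25))) (.node (.node (.leaf t22_5) (.leaf t22_21)) (.leaf t22_13))) (.node (.node (.node (.leaf t22_3) (.leaf t22_19)) (.leaf t22_11)) (.node (.node (.leaf t22_7) (.leaf t22_23)) (.leaf t22_15)))))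
noncomputable def t23 : Tr ℕ := (.node (.node (.node (.node (.node (.leaf t23_0) (.leaf t23_16)) (.node (.leaf t23_8) (.leaf t23_24))) (.node (.node (.leaf t23_4) (.leaf t23_20)) (.leaf t23_12))) (.node (.node (.node (.leaf t23_2) (.leaf t23_18)) (.leaf t23_10)) (.node (.node (.leaf t23_6) (.leaf t23_22)) (.leaf t23_14)))) (.node (.node (.node (.node (.leaf t23_1) (.leaf t23_17)) (.node (.leaf t23_9) (.leaf t23_25))) (.node (.node (.leaf t23_5) (.leaf t23_21)) (.leaf t23_13))) (.node (.node (.node (.leaf t23_3) (.leaf t23_19)) (.leaf t23_11)) (.node (.node (.leaf t23_7) (.leaf t23_23)) (.leaf t23_15)))))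
noncomputable def t24 : Tr ℕ := (.node (.node (.node (.node (.node (.leaf t24_0) (.leaf t24_16)) (.node (.leaf t24_8) (.leaf t24_24))) (.node (.node (.leaf t24_4) (.leaf t24_20)) (.leaf t24_12))) (.node (.node (.node (.leaf t24_2) (.leaf t24_18)) (.leaf t24_10)) (.node (.node (.leaf t24_6) (.leaf t24_22)) (.leaf t24_14)))) (.node (.node (.node (.node (.leaf t24_1) (.leaf t24_17)) (.node (.leaf t24_9) (.leaf t24_25))) (.node (.node (.leaf t24_5) (.leaf t24_21)) (.leaf t24_13))) (.node (.node (.node (.leaf t24_3) (.leaf t24_19)) (.leaf t24_11)) (.node (.node (.leaf t24_7) (.leaf t24_23)) (.leaf t24_15)))))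
noncomputable def t25 : Tr ℕ := (.node (.node (.node (.node (.node (.leaf t25_0) (.leaf t25_16)) (.node (.leaf t25_8) (.leaf t25_24))) (.node (.node (.leaf t25_4) (.leaf t25_20)) (.leaf t25_12))) (.node (.node (.node (.leaf t25_2) (.leaf t25_18)) (.leaf t25_10)) (.node (.node (.leaf t25_6) (.leaf t25_22)) (.leaf t25_14)))) (.node (.node (.node (.node (.leaf t25_1) (.leaf t25_17)) (.node (.leaf t25_9) (.leaf t25_25))) (.node (.node (.leaf t25_5) (.leaf t25_21)) (.leaf t25_13))) (.node (.node (.node (.leaf t25_3) (.leaf t25_19)) (.leaf t25_11)) (.node (.node (.leaf t25_7) (.leaf t25_23)) (.leaf t25_15)))))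
noncomputable def t26 : Tr ℕ := (.node (.node (.node (.node (.node (.leaf t26_0) (.leaf t26_16)) (.node (.leaf t26_8) (.leaf t26_24))) (.node (.node (.leaf t26_4) (.leaf t26_20)) (.leaf t26_12))) (.node (.node (.node (.leaf t26_2) (.leaf t26_18)) (.leaf t26_10)) (.node (.node (.leaf t26_6) (.leaf t26_22)) (.leaf t26_14)))) (.node (.node (.node (.node (.leaf t26_1) (.leaf t26_17)) (.node (.leaf t26_9) (.leaf t26_25))) (.node (.node (.leaf t26_5) (.leaf t26_21)) (.leaf t26_13))) (.node (.node (.node (.leaf t26_3) (.leaf t26_19)) (.leaf t26_11)) (.node (.node (.leaf t26_7) (.leaf t26_23)) (.leaf t26_15)))))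
noncomputable def t27 : Tr ℕ := (.node (.node (.node (.node (.node (.leaf t27_0) (.leaf t27_16)) (.node (.leaf t27_8) (.leaf t27_24))) (.node (.node (.leaf t27_4) (.leaf t27_20)) (.leaf t27_12))) (.node (.node (.node (.leaf t27_2) (.leaf t27_18)) (.leaf t27_10)) (.node (.node (.leaf t27_6) (.leaf t27_22)) (.leaf t27_14)))) (.node (.node (.node (.node (.leaf t27_1) (.leaf t27_17)) (.node (.leaf t27_9) (.leaf t27_25))) (.node (.node (.leaf t27_5) (.leaf t27_21)) (.leaf t27_13))) (.node (.node (.node (.leaf t27_3) (.leaf t27_19)) (.leaf t27_11)) (.node (.node (.leaf t27_7) (.leaf t27_23)) (.leaf t27_15)))))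
noncomputable def t28 : Tr ℕ := (.node (.node (.node (.node (.node (.leaf t28_0) (.leaf t28_16)) (.node (.leaf t28_8) (.leaf t28_24))) (.node (.node (.leaf t28_4) (.leaf t28_20)) (.leaf t28_12))) (.node (.node (.node (.leaf t28_2) (.leaf t28_18)) (.leaf t28_10)) (.node (.node (.leaf t28_6) (.leaf t28_22)) (.leaf t28_14)))) (.node (.node (.node (.node (.leaf t28_1) (.leaf t28_17)) (.node (.leaf t28_9) (.leaf t28_25))) (.node (.node (.leaf t28_5) (.leaf t28_21)) (.leaf t28_13))) (.node (.node (.node (.leaf t28_3) (.leaf t28_19)) (.leaf t28_11)) (.node (.node (.leaf t28_7) (.leaf t28_23)) (.leaf t28_15)))))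
noncomputable def t29 : Tr ℕ := (.node (.node (.node (.node (.node (.leaf t29_0) (.leaf t29_16)) (.node (.leaf t29_8) (.leaf t29_24))) (.node (.node (.leaf t29_4) (.leaf t29_20)) (.leaf t29_12))) (.node (.node (.node (.leaf t29_2) (.leaf t29_18)) (.leaf t29_10)) (.node (.node (.leaf t29_6) (.leaf t29_22)) (.leaf t29_14)))) (.node (.node (.node (.node (.leaf t29_1) (.leaf t29_17)) (.node (.leaf t29_9) (.leaf t29_25))) (.node (.node (.leaf t29_5) (.leaf t29_21)) (.leaf t29_13))) (.node (.node (.node (.leaf t29_3) (.leaf t29_19)) (.leaf t29_11)) (.node (.node (.leaf t29_7) (.leaf t29_23)) (.leaf t29_15)))))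
noncomputable def t30 : Tr ℕ := (.node (.node (.node (.node (.node (.leaf t30_0) (.leaf t30_16)) (.node (.leaf t30_8) (.leaf t30_24))) (.node (.node (.leaf t30_4) (.leaf t30_20)) (.leaf t30_12))) (.node (.node (.node (.leaf t30_2) (.leaf t30_18)) (.leaf t30_10)) (.node (.node (.leaf t30_6) (.leaf t30_22)) (.leaf t30_14)))) (.node (.node (.node (.node (.leaf t30_1) (.leaf t30_17)) (.node (.leaf t30_9) (.leaf t30_25))) (.node (.node (.leaf t30_5) (.leaf t30_21)) (.leaf t30_13))) (.node (.node (.node (.leaf t30_3) (.leaf t30_19)) (.leaf t30_11)) (.node (.node (.leaf t30_7) (.leaf t30_23)) (.leaf t30_15)))))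
noncomputable def t31 : Tr ℕ := (.node (.node (.node (.node (.node (.leaf t31_0) (.leaf t31_16)) (.node (.leaf t31_8) (.leaf t31_24))) (.node (.node (.leaf t31_4) (.leaf t31_20)) (.leaf t31_12))) (.node (.node (.node (.leaf t31_2) (.leaf t31_18)) (.leaf t31_10)) (.node (.node (.leaf t31_6) (.leaf t31_22)) (.leaf t31_14)))) (.node (.node (.node (.node (.leaf t31_1) (.leaf t31_17)) (.node (.leaf t31_9) (.leaf t31_25))) (.node (.node (.leaf t31_5) (.leaf t31_21)) (.leaf t31_13))) (.node (.node (.node (.leaf t31_3) (.leaf t31_19)) (.leaf t31_11)) (.node (.node (.leaf t31_7) (.leaf t31_23)) (.leaf t31_15)))))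
noncomputable def t32 : Tr ℕ := (.node (.node (.node (.node (.node (.leaf t32_0) (.leaf t32_16)) (.node (.leaf t32_8) (.leaf t32_24))) (.node (.node (.leaf t32_4) (.leaf t32_20)) (.leaf t32_12))) (.node (.node (.node (.leaf t32_2) (.leaf t32_18)) (.leaf t32_10)) (.node (.node (.leaf t32_6) (.leaf t32_22)) (.leaf t32_14)))) (.node (.node (.node (.node (.leaf t32_1) (.leaf t32_17)) (.node (.leaf t32_9) (.leaf t32_25))) (.node (.node (.leaf t32_5) (.leaf t32_21)) (.leaf t32_13))) (.node (.node (.node (.leaf t32_3) (.leaf t32_19)) (.leaf t32_11)) (.node (.node (.leaf t32_7) (.leaf t32_23)) (.leaf t32_15)))))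
noncomputable def t33 : Tr ℕ := (.node (.node (.node (.node (.node (.leaf t33_0) (.leaf t33_16)) (.node (.leaf t33_8) (.leaf t33_24))) (.node (.node (.leaf t33_4) (.leaf t33_20)) (.leaf t33_12))) (.node (.node (.node (.leaf t33_2) (.leaf t33_18)) (.leaf t33_10)) (.node (.node (.leaf t33_6) (.leaf t33_22)) (.leaf t33_14)))) (.node (.node (.node (.node (.leaf t33_1) (.leaf t33_17)) (.node (.leaf t33_9) (.leaf t33_25))) (.node (.node (.leaf t33_5) (.leaf t33_21)) (.leaf t33_13))) (.node (.node (.node (.leaf t33_3) (.leaf t33_19)) (.leaf t33_11)) (.node (.node (.leaf t33_7) (.leaf t33_23)) (.leaf t33_15)))))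
noncomputable def t34 : Tr ℕ := (.node (.node (.node (.node (.node (.leaf t34_0) (.leaf t34_16)) (.node (.leaf t34_8) (.leaf t34_24))) (.node (.node (.leaf t34_4) (.leaf t34_20)) (.leaf t34_12))) (.node (.node (.node (.leaf t34_2) (.leaf t34_18)) (.leaf t34_10)) (.node (.node (.leaf t34_6) (.leaf t34_22)) (.leaf t34_14)))) (.node (.node (.node (.node (.leaf t34_1) (.leaf t34_17)) (.node (.leaf t34_9) (.leaf t34_25))) (.node (.node (.leaf t34_5) (.leaf t34_21)) (.leaf t34_13))) (.node (.node (.node (.leaf t34_3) (.leaf t34_19)) (.leaf t34_11)) (.node (.node (.leaf t34_7) (.leaf t34_23)) (.leaf t34_15)))))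
noncomputable def t35 : Tr ℕ := (.node (.node (.node (.node (.node (.leaf t35_0) (.leaf t35_16)) (.node (.leaf t35_8) (.leaf t35_24))) (.node (.node (.leaf t35_4) (.leaf t35_20)) (.leaf t35_12))) (.node (.node (.node (.leaf t35_2) (.leaf t35_18)) (.leaf t35_10)) (.node (.node (.leaf t35_6) (.leaf t35_22)) (.leaf t35_14)))) (.node (.node (.node (.node (.leaf t35_1) (.leaf t35_17)) (.node (.leaf t35_9) (.leaf t35_25))) (.node (.node (.leaf t35_5) (.leaf t35_21)) (.leaf t35_13))) (.node (.node (.node (.leaf t35_3) (.leaf t35_19)) (.leaf t35_11)) (.node (.node (.leaf t35_7) (.leaf t35_23)) (.leaf t35_15)))))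
noncomputable def t36 : Tr ℕ := (.node (.node (.node (.node (.node (.leaf t36_0) (.leaf t36_16)) (.node (.leaf t36_8) (.leaf t36_24))) (.node (.node (.leaf t36_4) (.leaf t36_20)) (.leaf t36_12))) (.node (.node (.node (.leaf t36_2) (.leaf t36_18)) (.leaf t36_10)) (.node (.node (.leaf t36_6) (.leaf t36_22)) (.leaf t36_14)))) (.node (.node (.node (.node (.leaf t36_1) (.leaf t36_17)) (.node (.leaf t36_9) (.leaf t36_25))) (.node (.node (.leaf t36_5) (.leaf t36_21)) (.leaf t36_13))) (.node (.node (.node (.leaf t36_3) (.leaf t36_19)) (.leaf t36_11)) (.node (.node (.leaf t36_7) (.leaf t36_23)) (.leaf t36_15)))))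
noncomputable def t37 : Tr ℕ := (.node (.node (.node (.node (.node (.leaf t37_0) (.leaf t37_16)) (.node (.leaf t37_8) (.leaf t37_24))) (.node (.node (.leaf t37_4) (.leaf t37_20)) (.leaf t37_12))) (.node (.node (.node (.leaf t37_2) (.leaf t37_18)) (.leaf t37_10)) (.node (.node (.leaf t37_6) (.leaf t37_22)) (.leaf t37_14)))) (.node (.node (.node (.node (.leaf t37_1) (.leaf t37_17)) (.node (.leaf t37_9) (.leaf t37_25))) (.node (.node (.leaf t37_5) (.leaf t37_21)) (.leaf t37_13))) (.node (.node (.node (.leaf t37_3) (.leaf t37_19)) (.leaf t37_11)) (.node (.node (.leaf t37_7) (.leaf t37_23)) (.leaf t37_15)))))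
noncomputable def t38 : Tr ℕ := (.node (.node (.node (.node (.node (.leaf t38_0) (.leaf t38_16)) (.node (.leaf t38_8) (.leaf t38_24))) (.node (.node (.leaf t38_4) (.leaf t38_20)) (.leaf t38_12))) (.node (.node (.node (.leaf t38_2) (.leaf t38_18)) (.leaf t38_10)) (.node (.node (.leaf t38_6) (.leaf t38_22)) (.leaf t38_14)))) (.node (.node (.node (.node (.leaf t38_1) (.leaf t38_17)) (.node (.leaf t38_9) (.leaf t38_25))) (.node (.node (.leaf t38_5) (.leaf t38_21)) (.leaf t38_13))) (.node (.node (.node (.leaf t38_3) (.leaf t38_19)) (.leaf t38_11)) (.node (.node (.leaf t38_7) (.leaf t38_23)) (.leaf t38_15)))))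
noncomputable def t39 : Tr ℕ := (.node (.node (.node (.node (.node (.leaf t39_0) (.leaf t39_16)) (.node (.leaf t39_8) (.leaf t39_24))) (.node (.node (.leaf t39_4) (.leaf t39_20)) (.leaf t39_12))) (.node (.node (.node (.leaf t39_2) (.leaf t39_18)) (.leaf t39_10)) (.node (.node (.leaf t39_6) (.leaf t39_22)) (.leaf t39_14)))) (.node (.node (.node (.node (.leaf t39_1) (.leaf t39_17)) (.node (.leaf t39_9) (.leaf t39_25))) (.node (.node (.leaf t39_5) (.leaf t39_21)) (.leaf t39_13))) (.node (.node (.node (.leaf t39_3) (.leaf t39_19)) (.leaf t39_11)) (.node (.node (.leaf t39_7) (.leaf t39_23)) (.leaf t39_15)))))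
noncomputable def t40 : Tr ℕ := (.node (.node (.node (.node (.node (.leaf t40_0) (.leaf t40_16)) (.node (.leaf t40_8) (.leaf t40_24))) (.node (.node (.leaf t40_4) (.leaf t40_20)) (.leaf t40_12))) (.node (.node (.node (.leaf t40_2) (.leaf t40_18)) (.leaf t40_10)) (.node (.node (.leaf t40_6) (.leaf t40_22)) (.leaf t40_14)))) (.node (.node (.node (.node (.leaf t40_1) (.leaf t40_17)) (.node (.leaf t40_9) (.leaf t40_25))) (.node (.node (.leaf t40_5) (.leaf t40_21)) (.leaf t40_13))) (.node (.node (.node (.leaf t40_3) (.leaf t40_19)) (.leaf t40_11)) (.node (.node (.leaf t40_7) (.leaf t40_23)) (.leaf t40_15)))))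
noncomputable def t41 : Tr ℕ := (.node (.node (.node (.node (.node (.leaf t41_0) (.leaf t41_16)) (.node (.leaf t41_8) (.leaf t41_24))) (.node (.node (.leaf t41_4) (.leaf t41_20)) (.leaf t41_12))) (.node (.node (.node (.leaf t41_2) (.leaf t41_18)) (.leaf t41_10)) (.node (.node (.leaf t41_6) (.leaf t41_22)) (.leaf t41_14)))) (.node (.node (.node (.node (.leaf t41_1) (.leaf t41_17)) (.node (.leaf t41_9) (.leaf t41_25))) (.node (.node (.leaf t41_5) (.leaf t41_21)) (.leaf t41_13))) (.node (.node (.node (.leaf t41_3) (.leaf t41_19)) (.leaf t41_11)) (.node (.node (.leaf t41_7) (.leaf t41_23)) (.leaf t41_15)))))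
noncomputable def mc0c : Tr ℕ := (.node (.node (.node (.node (.node (.leaf mc0c_0) (.leaf mc0c_16)) (.node (.leaf mc0c_8) (.leaf mc0c_24))) (.node (.node (.leaf mc0c_4) (.leaf mc0c_20)) (.leaf mc0c_12))) (.node (.node (.node (.leaf mc0c_2) (.leaf mc0c_18)) (.leaf mc0c_10)) (.node (.node (.leaf mc0c_6) (.leaf mc0c_22)) (.leaf mc0c_14)))) (.node (.node (.node (.node (.leaf mc0c_1) (.leaf mc0c_17)) (.node (.leaf mc0c_9) (.leaf mc0c_25))) (.node (.node (.leaf mc0c_5) (.leaf mc0c_21)) (.leaf mc0c_13))) (.node (.node (.node (.leaf mc0c_3) (.leaf mc0c_19)) (.leaf mc0c_11)) (.node (.node (.leaf mc0c_7) (.leaf mc0c_23)) (.leaf mc0c_15)))))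
noncomputable def mc0p : Tr ℕ := (.node (.node (.node (.node (.node (.leaf mc0p_0) (.leaf mc0p_16)) (.leaf mc0p_8)) (.node (.node (.leaf mc0p_4) (.leaf mc0p_20)) (.leaf mc0p_12))) (.node (.node (.node (.leaf mc0p_2) (.leaf mc0p_18)) (.leaf mc0p_10)) (.node (.leaf mc0p_6) (.leaf mc0p_14)))) (.node (.node (.node (.node (.leaf mc0p_1) (.leaf mc0p_17)) (.leaf mc0p_9)) (.node (.node (.leaf mc0p_5) (.leaf mc0p_21)) (.leaf mc0p_13))) (.node (.node (.node (.leaf mc0p_3) (.leaf mc0p_19)) (.leaf mc0p_11)) (.node (.leaf mc0p_7) (.leaf mc0p_15)))))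
noncomputable def mc0l : Tr ℕ := (.node (.node (.node (.node (.leaf mc0l_0) (.leaf mc0l_8)) (.leaf mc0l_4)) (.node (.leaf mc0l_2) (.leaf mc0l_6))) (.node (.node (.leaf mc0l_1) (.leaf mc0l_5)) (.node (.leaf mc0l_3) (.leaf mc0l_7))))
noncomputable def mc0i : Tr ℕ := (.node (.node (.node (.node (.leaf mc0i_0) (.leaf mc0i_8)) (.leaf mc0i_4)) (.node (.leaf mc0i_2) (.leaf mc0i_6))) (.node (.node (.leaf mc0i_1) (.leaf mc0i_5)) (.node (.leaf mc0i_3) (.leaf mc0i_7))))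
noncomputable def mc0q : Tr ℕ := (.node (.node (.node (.node (.node (.leaf mc0q_0) (.leaf mc0q_16)) (.node (.leaf mc0q_8) (.leaf mc0q_24))) (.node (.node (.leaf mc0q_4) (.leaf mc0q_20)) (.leaf mc0q_12))) (.node (.node (.node (.leaf mc0q_2) (.leaf mc0q_18)) (.leaf mc0q_10)) (.node (.node (.leaf mc0q_6) (.leaf mc0q_22)) (.leaf mc0q_14)))) (.node (.node (.node (.node (.leaf mc0q_1) (.leaf mc0q_17)) (.node (.leaf mc0q_9) (.leaf mc0q_25))) (.node (.node (.leaf mc0q_5) (.leaf mc0q_21)) (.leaf mc0q_13))) (.node (.node (.node (.leaf mc0q_3) (.leaf mc0q_19)) (.leaf mc0q_11)) (.node (.node (.leaf mc0q_7) (.leaf mc0q_23)) (.leaf mc0q_15)))))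
noncomputable def mc1c : Tr ℕ := (.node (.node (.node (.node (.leaf mc1c_0) (.leaf mc1c_8)) (.node (.leaf mc1c_4) (.leaf mc1c_12))) (.node (.node (.leaf mc1c_2) (.leaf mc1c_10)) (.leaf mc1c_6))) (.node (.node (.node (.leaf mc1c_1) (.leaf mc1c_9)) (.leaf mc1c_5)) (.node (.node (.leaf mc1c_3) (.leaf mc1c_11)) (.leaf mc1c_7))))
noncomputable def mc1p : Tr ℕ := (.node (.node (.node (.node (.leaf mc1p_0) (.leaf mc1p_8)) (.leaf mc1p_4)) (.node (.leaf mc1p_2) (.leaf mc1p_6))) (.node (.node (.leaf mc1p_1) (.leaf mc1p_5)) (.node (.leaf mc1p_3) (.leaf mc1p_7))))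
noncomputable def mc1l : Tr ℕ := (.node (.node (.node (.leaf mc1l_0) (.leaf mc1l_4)) (.leaf mc1l_2)) (.node (.leaf mc1l_1) (.leaf mc1l_3)))
noncomputable def mc1i : Tr ℕ := (.node (.node (.node (.leaf mc1i_0) (.leaf mc1i_4)) (.leaf mc1i_2)) (.node (.leaf mc1i_1) (.leaf mc1i_3)))
noncomputable def mc1q : Tr ℕ := (.node (.node (.node (.node (.node (.leaf mc1q_0) (.leaf mc1q_16)) (.node (.leaf mc1q_8) (.leaf mc1q_24))) (.node (.node (.leaf mc1q_4) (.leaf mc1q_20)) (.leaf mc1q_12))) (.node (.node (.node (.leaf mc1q_2) (.leaf mc1q_18)) (.leaf mc1q_10)) (.node (.node (.leaf mc1q_6) (.leaf mc1q_22)) (.leaf mc1q_14)))) (.node (.node (.node (.node (.leaf mc1q_1) (.leaf mc1q_17)) (.node (.leaf mc1q_9) (.leaf mc1q_25))) (.node (.node (.leaf mc1q_5) (.leaf mc1q_21)) (.leaf mc1q_13))) (.node (.node (.node (.leaf mc1q_3) (.leaf mc1q_19)) (.leaf mc1q_11)) (.node (.node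 (.leaf mc1q_7) (.leaf mc1q_23)) (.leaf mc1q_15)))))
noncomputable def mc2c : Tr ℕ := (.node (.node (.leaf mc2c_0) (.leaf mc2c_2)) (.leaf mc2c_1))
noncomputable def mc2p : Tr ℕ := (.node (.leaf mc2p_0) (.leaf mc2p_1))
noncomputable def mc2q : Tr ℕ := (.node (.node (.node (.node (.node (.leaf mc2q_0) (.leaf mc2q_16)) (.node (.leaf mc2q_8) (.leaf mc2q_24))) (.node (.node (.leaf mc2q_4) (.leaf mc2q_20)) (.leaf mc2q_12))) (.node (.node (.node (.leaf mc2q_2) (.leaf mc2q_18)) (.leaf mc2q_10)) (.node (.node (.leaf mc2q_6) (.leaf mc2q_22)) (.leaf mc2q_14)))) (.node (.node (.node (.node (.leaf mc2q_1) (.leaf mc2q_17)) (.node (.leaf mc2q_9) (.leaf mc2q_25))) (.node (.node (.leaf mc2q_5) (.leaf mc2q_21)) (.leaf mc2q_13))) (.node (.node (.node (.leaf mc2q_3) (.leaf mc2q_19)) (.leaf mc2q_11)) (.node (.node (.leaf mc2q_7) (.leaf mc2q_23)) (.leaf mc2q_15)))))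
noncomputable def mc3q : Tr ℕ := (.node (.node (.node (.node (.node (.leaf mc3q_0) (.leaf mc3q_16)) (.node (.leaf mc3q_8) (.leaf mc3q_24))) (.node (.node (.leaf mc3q_4) (.leaf mc3q_20)) (.leaf mc3q_12))) (.node (.node (.node (.leaf mc3q_2) (.leaf mc3q_18)) (.leaf mc3q_10)) (.node (.node (.leaf mc3q_6) (.leaf mc3q_22)) (.leaf mc3q_14)))) (.node (.node (.node (.node (.leaf mc3q_1) (.leaf mc3q_17)) (.node (.leaf mc3q_9) (.leaf mc3q_25))) (.node (.node (.leaf mc3q_5) (.leaf mc3q_21)) (.leaf mc3q_13))) (.node (.node (.node (.leaf mc3q_3) (.leaf mc3q_19)) (.leaf mc3q_11)) (.node (.node (.leaf mc3q_7) (.leaf mc3q_23)) (.leaf mc3q_15)))))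
noncomputable def tc0t35 : Tr ℕ := (.node (.node (.node (.node (.node (.node (.leaf tc0t35_0) (.leaf tc0t35_32)) (.leaf tc0t35_16)) (.node (.node (.leaf tc0t35_8) (.leaf tc0t35_40)) (.leaf tc0t35_24))) (.node (.node (.node (.leaf tc0t35_4) (.leaf tc0t35_36)) (.leaf tc0t35_20)) (.node (.node (.leaf tc0t35_12) (.leaf tc0t35_44)) (.leaf tc0t35_28)))) (.node (.node (.node (.node (.leaf tc0t35_2) (.leaf tc0t35_34)) (.leaf tc0t35_18)) (.node (.node (.leaf tc0t35_10) (.leaf tc0t35_42)) (.leaf tc0t35_26))) (.node (.node (.node (.leaf tc0t35_6) (.leaf tc0t35_38)) (.leaf tc0t35_22)) (.node (.node (.leaf tc0t35_14) (.leaf tc0t35_46)) (.leaf tc0t35_30))))) (.node (.node (.node (.node (.node (.leaf tc0t35_1) (.leaf tc0t35_33)) (.leaf tc0t35_17)) (.node (.node (.leaf tc0t35_9) (.leaf tc0t35_41)) (.leaf tc0t35_25))) (.node (.node (.node (.leaf tc0t35_5) (.leaf tc0t35_37))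 (.leaf tc0t35_21)) (.node (.node (.leaf tc0t35_13) (.leaf tc0t35_45)) (.leaf tc0t35_29)))) (.node (.node (.node (.node (.leaf tc0t35_3) (.leaf tc0t35_35)) (.leaf tc0t35_19)) (.node (.node (.leaf tc0t35_11) (.leaf tc0t35_43)) (.leaf tc0t35_27))) (.node (.node (.node (.leaf tc0t35_7) (.leaf tc0t35_39)) (.leaf tc0t35_23)) (.node (.leaf tc0t35_15) (.leaf tc0t35_31))))))
noncomputable def tc0t36 : Tr ℕ := (.node (.node (.node (.node (.node (.node (.leaf tc0t36_0) (.leaf tc0t36_32)) (.leaf tc0t36_16)) (.node (.node (.leaf tc0t36_8) (.leaf tc0t36_40)) (.leaf tc0t36_24))) (.node (.node (.node (.leaf tc0t36_4) (.leaf tc0t36_36)) (.leaf tc0t36_20)) (.node (.node (.leaf tc0t36_12) (.leaf tc0t36_44)) (.leaf tc0t36_28)))) (.node (.node (.node (.node (.leaf tc0t36_2) (.leaf tc0t36_34)) (.leaf tc0t36_18)) (.node (.node (.leaf tc0t36_10) (.leaf tc0t36_42)) (.leaf tc0t36_26)))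 (.node (.node (.node (.leaf tc0t36_6) (.leaf tc0t36_38)) (.leaf tc0t36_22)) (.node (.node (.leaf tc0t36_14) (.leaf tc0t36_46)) (.leaf tc0t36_30))))) (.node (.node (.node (.node (.node (.leaf tc0t36_1) (.leaf tc0t36_33)) (.leaf tc0t36_17)) (.node (.node (.leaf tc0t36_9) (.leaf tc0t36_41)) (.leaf tc0t36_25))) (.node (.node (.node (.leaf tc0t36_5) (.leaf tc0t36_37)) (.leaf tc0t36_21)) (.node (.node (.leaf tc0t36_13) (.leaf tc0t36_45)) (.leaf tc0t36_29)))) (.node (.node (.node (.node (.leaf tc0t36_3) (.leaf tc0t36_35)) (.leaf tc0t36_19)) (.node (.node (.leaf tc0t36_11) (.leaf tc0t36_43)) (.leaf tc0t36_27))) (.node (.node (.node (.leaf tc0t36_7) (.leaf tc0t36_39)) (.leaf tc0t36_23)) (.node (.leaf tc0t36_15) (.leaf tc0t36_31))))))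
noncomputable def tc0t37 : Tr ℕ := (.node (.node (.node (.node (.node (.node (.leaf tc0t37_0) (.leaf tc0t37_32)) (.leaf tc0t37_16)) (.node (.node (.leaf tc0t37_8) (.leaf tc0t37_40)) (.leaf tc0t37_24))) (.node (.node (.node (.leaf tc0t37_4) (.leaf tc0t37_36)) (.leaf tc0t37_20)) (.node (.node (.leaf tc0t37_12) (.leaf tc0t37_44)) (.leaf tc0t37_28)))) (.node (.node (.node (.node (.leaf tc0t37_2) (.leaf tc0t37_34)) (.leaf tc0t37_18)) (.node (.node (.leaf tc0t37_10) (.leaf tc0t37_42)) (.leaf tc0t37_26))) (.node (.node (.node (.leaf tc0t37_6) (.leaf tc0t37_38)) (.leaf tc0t37_22)) (.node (.node (.leaf tc0t37_14) (.leaf tc0t37_46)) (.leaf tc0t37_30))))) (.node (.node (.node (.node (.node (.leaf tc0t37_1) (.leaf tc0t37_33)) (.leaf tc0t37_17)) (.node (.node (.leaf tc0t37_9) (.leaf tc0t37_41)) (.leaf tc0t37_25))) (.node (.node (.node (.leaf tc0t37_5) (.leaf tc0t37_37))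 (.leaf tc0t37_21)) (.node (.node (.leaf tc0t37_13) (.leaf tc0t37_45)) (.leaf tc0t37_29)))) (.node (.node (.node (.node (.leaf tc0t37_3) (.leaf tc0t37_35)) (.leaf tc0t37_19)) (.node (.node (.leaf tc0t37_11) (.leaf tc0t37_43)) (.leaf tc0t37_27))) (.node (.node (.node (.leaf tc0t37_7) (.leaf tc0t37_39)) (.leaf tc0t37_23)) (.node (.leaf tc0t37_15) (.leaf tc0t37_31))))))
noncomputable def tc0t38 : Tr ℕ := (.node (.node (.node (.node (.node (.node (.leaf tc0t38_0) (.leaf tc0t38_32)) (.leaf tc0t38_16)) (.node (.node (.leaf tc0t38_8) (.leaf tc0t38_40)) (.leaf tc0t38_24))) (.node (.node (.node (.leaf tc0t38_4) (.leaf tc0t38_36)) (.leaf tc0t38_20)) (.node (.node (.leaf tc0t38_12) (.leaf tc0t38_44)) (.leaf tc0t38_28)))) (.node (.node (.node (.node (.leaf tc0t38_2) (.leaf tc0t38_34)) (.leaf tc0t38_18)) (.node (.node (.leaf tc0t38_10) (.leaf tc0t38_42)) (.leaf tc0t38_26)))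 (.node (.node (.node (.leaf tc0t38_6) (.leaf tc0t38_38)) (.leaf tc0t38_22)) (.node (.node (.leaf tc0t38_14) (.leaf tc0t38_46)) (.leaf tc0t38_30))))) (.node (.node (.node (.node (.node (.leaf tc0t38_1) (.leaf tc0t38_33)) (.leaf tc0t38_17)) (.node (.node (.leaf tc0t38_9) (.leaf tc0t38_41)) (.leaf tc0t38_25))) (.node (.node (.node (.leaf tc0t38_5) (.leaf tc0t38_37)) (.leaf tc0t38_21)) (.node (.node (.leaf tc0t38_13) (.leaf tc0t38_45)) (.leaf tc0t38_29)))) (.node (.node (.node (.node (.leaf tc0t38_3) (.leaf tc0t38_35)) (.leaf tc0t38_19)) (.node (.node (.leaf tc0t38_11) (.leaf tc0t38_43)) (.leaf tc0t38_27))) (.node (.node (.node (.leaf tc0t38_7) (.leaf tc0t38_39)) (.leaf tc0t38_23)) (.node (.leaf tc0t38_15) (.leaf tc0t38_31))))))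
noncomputable def tc0t39 : Tr ℕ := (.node (.node (.node (.node (.node (.node (.leaf tc0t39_0) (.leaf tc0t39_32)) (.leaf tc0t39_16)) (.node (.node (.leaf tc0t39_8) (.leaf tc0t39_40)) (.leaf tc0t39_24))) (.node (.node (.node (.leaf tc0t39_4) (.leaf tc0t39_36)) (.leaf tc0t39_20)) (.node (.node (.leaf tc0t39_12) (.leaf tc0t39_44)) (.leaf tc0t39_28)))) (.node (.node (.node (.node (.leaf tc0t39_2) (.leaf tc0t39_34)) (.leaf tc0t39_18)) (.node (.node (.leaf tc0t39_10) (.leaf tc0t39_42)) (.leaf tc0t39_26))) (.node (.node (.node (.leaf tc0t39_6) (.leaf tc0t39_38)) (.leaf tc0t39_22)) (.node (.node (.leaf tc0t39_14) (.leaf tc0t39_46)) (.leaf tc0t39_30))))) (.node (.node (.node (.node (.node (.leaf tc0t39_1) (.leaf tc0t39_33)) (.leaf tc0t39_17)) (.node (.node (.leaf tc0t39_9) (.leaf tc0t39_41)) (.leaf tc0t39_25))) (.node (.node (.node (.leaf tc0t39_5) (.leaf tc0t39_37))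 (.leaf tc0t39_21)) (.node (.node (.leaf tc0t39_13) (.leaf tc0t39_45)) (.leaf tc0t39_29)))) (.node (.node (.node (.node (.leaf tc0t39_3) (.leaf tc0t39_35)) (.leaf tc0t39_19)) (.node (.node (.leaf tc0t39_11) (.leaf tc0t39_43)) (.leaf tc0t39_27))) (.node (.node (.node (.leaf tc0t39_7) (.leaf tc0t39_39)) (.leaf tc0t39_23)) (.node (.leaf tc0t39_15) (.leaf tc0t39_31))))))
noncomputable def tc0t40 : Tr ℕ := (.node (.node (.node (.node (.node (.node (.leaf tc0t40_0) (.leaf tc0t40_32)) (.leaf tc0t40_16)) (.node (.node (.leaf tc0t40_8) (.leaf tc0t40_40)) (.leaf tc0t40_24))) (.node (.node (.node (.leaf tc0t40_4) (.leaf tc0t40_36)) (.leaf tc0t40_20)) (.node (.node (.leaf tc0t40_12) (.leaf tc0t40_44)) (.leaf tc0t40_28)))) (.node (.node (.node (.node (.leaf tc0t40_2) (.leaf tc0t40_34)) (.leaf tc0t40_18)) (.node (.node (.leaf tc0t40_10) (.leaf tc0t40_42)) (.leaf tc0t40_26)))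 (.node (.node (.node (.leaf tc0t40_6) (.leaf tc0t40_38)) (.leaf tc0t40_22)) (.node (.node (.leaf tc0t40_14) (.leaf tc0t40_46)) (.leaf tc0t40_30))))) (.node (.node (.node (.node (.node (.leaf tc0t40_1) (.leaf tc0t40_33)) (.leaf tc0t40_17)) (.node (.node (.leaf tc0t40_9) (.leaf tc0t40_41)) (.leaf tc0t40_25))) (.node (.node (.node (.leaf tc0t40_5) (.leaf tc0t40_37)) (.leaf tc0t40_21)) (.node (.node (.leaf tc0t40_13) (.leaf tc0t40_45)) (.leaf tc0t40_29)))) (.node (.node (.node (.node (.leaf tc0t40_3) (.leaf tc0t40_35)) (.leaf tc0t40_19)) (.node (.node (.leaf tc0t40_11) (.leaf tc0t40_43)) (.leaf tc0t40_27))) (.node (.node (.node (.leaf tc0t40_7) (.leaf tc0t40_39)) (.leaf tc0t40_23)) (.node (.leaf tc0t40_15) (.leaf tc0t40_31))))))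
noncomputable def tc0d : Tr ℕ := (.node (.node (.node (.node (.node (.node (.leaf tc0d_0) (.leaf tc0d_32)) (.leaf tc0d_16)) (.node (.node (.leaf tc0d_8) (.leaf tc0d_40)) (.leaf tc0d_24))) (.node (.node (.node (.leaf tc0d_4) (.leaf tc0d_36)) (.leaf tc0d_20)) (.node (.node (.leaf tc0d_12) (.leaf tc0d_44)) (.leaf tc0d_28)))) (.node (.node (.node (.node (.leaf tc0d_2) (.leaf tc0d_34)) (.leaf tc0d_18)) (.node (.node (.leaf tc0d_10) (.leaf tc0d_42)) (.leaf tc0d_26))) (.node (.node (.node (.leaf tc0d_6) (.leaf tc0d_38)) (.leaf tc0d_22)) (.node (.node (.leaf tc0d_14) (.leaf tc0d_46)) (.leaf tc0d_30))))) (.node (.node (.node (.node (.node (.leaf tc0d_1) (.leaf tc0d_33)) (.leaf tc0d_17)) (.node (.node (.leaf tc0d_9) (.leaf tc0d_41)) (.leaf tc0d_25))) (.node (.node (.node (.leaf tc0d_5) (.leaf tc0d_37)) (.leaf tc0d_21)) (.node (.node (.leaf tc0d_13) (.leaf tc0d_45))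 (.leaf tc0d_29)))) (.node (.node (.node (.node (.leaf tc0d_3) (.leaf tc0d_35)) (.leaf tc0d_19)) (.node (.node (.leaf tc0d_11) (.leaf tc0d_43)) (.leaf tc0d_27))) (.node (.node (.node (.leaf tc0d_7) (.leaf tc0d_39)) (.leaf tc0d_23)) (.node (.leaf tc0d_15) (.leaf tc0d_31))))))
noncomputable def tc1t35 : Tr ℕ := (.node (.node (.node (.node (.node (.leaf tc1t35_0) (.leaf tc1t35_16)) (.leaf tc1t35_8)) (.node (.node (.leaf tc1t35_4) (.leaf tc1t35_20)) (.leaf tc1t35_12))) (.node (.node (.node (.leaf tc1t35_2) (.leaf tc1t35_18)) (.leaf tc1t35_10)) (.node (.node (.leaf tc1t35_6) (.leaf tc1t35_22)) (.leaf tc1t35_14)))) (.node (.node (.node (.node (.leaf tc1t35_1) (.leaf tc1t35_17)) (.leaf tc1t35_9)) (.node (.node (.leaf tc1t35_5) (.leaf tc1t35_21)) (.leaf tc1t35_13))) (.node (.node (.node (.leaf tc1t35_3) (.leaf tc1t35_19)) (.leaf tc1t35_11)) (.node (.node (.leaf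 tc1t35_7) (.leaf tc1t35_23)) (.leaf tc1t35_15)))))
noncomputable def tc1t36 : Tr ℕ := (.node (.node (.node (.node (.node (.leaf tc1t36_0) (.leaf tc1t36_16)) (.leaf tc1t36_8)) (.node (.node (.leaf tc1t36_4) (.leaf tc1t36_20)) (.leaf tc1t36_12))) (.node (.node (.node (.leaf tc1t36_2) (.leaf tc1t36_18)) (.leaf tc1t36_10)) (.node (.node (.leaf tc1t36_6) (.leaf tc1t36_22)) (.leaf tc1t36_14)))) (.node (.node (.node (.node (.leaf tc1t36_1) (.leaf tc1t36_17)) (.leaf tc1t36_9)) (.node (.node (.leaf tc1t36_5) (.leaf tc1t36_21)) (.leaf tc1t36_13))) (.node (.node (.node (.leaf tc1t36_3) (.leaf tc1t36_19)) (.leaf tc1t36_11)) (.node (.node (.leaf tc1t36_7) (.leaf tc1t36_23)) (.leaf tc1t36_15)))))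
noncomputable def tc1t37 : Tr ℕ := (.node (.node (.node (.node (.node (.leaf tc1t37_0) (.leaf tc1t37_16)) (.leaf tc1t37_8)) (.node (.node (.leaf tc1t37_4) (.leaf tc1t37_20)) (.leaf tc1t37_12))) (.node (.node (.node (.leaf tc1t37_2) (.leaf tc1t37_18)) (.leaf tc1t37_10)) (.node (.node (.leaf tc1t37_6) (.leaf tc1t37_22)) (.leaf tc1t37_14)))) (.node (.node (.node (.node (.leaf tc1t37_1) (.leaf tc1t37_17)) (.leaf tc1t37_9)) (.node (.node (.leaf tc1t37_5) (.leaf tc1t37_21)) (.leaf tc1t37_13))) (.node (.node (.node (.leaf tc1t37_3) (.leaf tc1t37_19)) (.leaf tc1t37_11)) (.node (.node (.leaf tc1t37_7) (.leaf tc1t37_23)) (.leaf tc1t37_15)))))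
noncomputable def tc1t38 : Tr ℕ := (.node (.node (.node (.node (.node (.leaf tc1t38_0) (.leaf tc1t38_16)) (.leaf tc1t38_8)) (.node (.node (.leaf tc1t38_4) (.leaf tc1t38_20)) (.leaf tc1t38_12))) (.node (.node (.node (.leaf tc1t38_2) (.leaf tc1t38_18)) (.leaf tc1t38_10)) (.node (.node (.leaf tc1t38_6) (.leaf tc1t38_22)) (.leaf tc1t38_14)))) (.node (.node (.node (.node (.leaf tc1t38_1) (.leaf tc1t38_17)) (.leaf tc1t38_9)) (.node (.node (.leaf tc1t38_5) (.leaf tc1t38_21)) (.leaf tc1t38_13))) (.node (.node (.node (.leaf tc1t38_3) (.leaf tc1t38_19)) (.leaf tc1t38_11)) (.node (.node (.leaf tc1t38_7) (.leaf tc1t38_23)) (.leaf tc1t38_15)))))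
noncomputable def tc1t39 : Tr ℕ := (.node (.node (.node (.node (.node (.leaf tc1t39_0) (.leaf tc1t39_16)) (.leaf tc1t39_8)) (.node (.node (.leaf tc1t39_4) (.leaf tc1t39_20)) (.leaf tc1t39_12))) (.node (.node (.node (.leaf tc1t39_2) (.leaf tc1t39_18)) (.leaf tc1t39_10)) (.node (.node (.leaf tc1t39_6) (.leaf tc1t39_22)) (.leaf tc1t39_14)))) (.node (.node (.node (.node (.leaf tc1t39_1) (.leaf tc1t39_17)) (.leaf tc1t39_9)) (.node (.node (.leaf tc1t39_5) (.leaf tc1t39_21)) (.leaf tc1t39_13))) (.node (.node (.node (.leaf tc1t39_3) (.leaf tc1t39_19)) (.leaf tc1t39_11)) (.node (.node (.leaf tc1t39_7) (.leaf tc1t39_23)) (.leaf tc1t39_15)))))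
noncomputable def tc1d : Tr ℕ := (.node (.node (.node (.node (.node (.leaf tc1d_0) (.leaf tc1d_16)) (.leaf tc1d_8)) (.node (.node (.leaf tc1d_4) (.leaf tc1d_20)) (.leaf tc1d_12))) (.node (.node (.node (.leaf tc1d_2) (.leaf tc1d_18)) (.leaf tc1d_10)) (.node (.node (.leaf tc1d_6) (.leaf tc1d_22)) (.leaf tc1d_14)))) (.node (.node (.node (.node (.leaf tc1d_1) (.leaf tc1d_17)) (.leaf tc1d_9)) (.node (.node (.leaf tc1d_5) (.leaf tc1d_21)) (.leaf tc1d_13))) (.node (.node (.node (.leaf tc1d_3) (.leaf tc1d_19)) (.leaf tc1d_11)) (.node (.node (.leaf tc1d_7) (.leaf tc1d_23)) (.leaf tc1d_15)))))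
noncomputable def tc2t35 : Tr ℕ := (.node (.node (.node (.leaf tc2t35_0) (.leaf tc2t35_4)) (.leaf tc2t35_2)) (.node (.leaf tc2t35_1) (.leaf tc2t35_3)))
noncomputable def tc2t36 : Tr ℕ := (.node (.node (.node (.leaf tc2t36_0) (.leaf tc2t36_4)) (.leaf tc2t36_2)) (.node (.leaf tc2t36_1) (.leaf tc2t36_3)))
noncomputable def tc2t37 : Tr ℕ := (.node (.node (.node (.leaf tc2t37_0) (.leaf tc2t37_4)) (.leaf tc2t37_2)) (.node (.leaf tc2t37_1) (.leaf tc2t37_3)))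
noncomputable def tc2t38 : Tr ℕ := (.node (.node (.node (.leaf tc2t38_0) (.leaf tc2t38_4)) (.leaf tc2t38_2)) (.node (.leaf tc2t38_1) (.leaf tc2t38_3)))
noncomputable def tc2d : Tr ℕ := (.node (.node (.node (.leaf tc2d_0) (.leaf tc2d_4)) (.leaf tc2d_2)) (.node (.leaf tc2d_1) (.leaf tc2d_3)))
noncomputable def tabs : List (Tr ℕ) := [t0,t1,t2,t3,t4,t5,t6,t7,t8,t9,t10,t11,t12,t13,t14,t15,t16,t17,t18,t19,t20,t21,t22,t23,t24,t25,t26,t27,t28,t29,t30,t31,t32,t33,t34,t35,t36,t37,t38,t39,t40]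
noncomputable abbrev app : ℕ → ℕ → ℕ := appB tabs t41 0xffffff
noncomputable def slpL : List (Bool × List ℕ) := [(false,[]),
  (false,[]),
  (false,[]),
  (false,[2,2,2,0,2,2]),
  (true,[3]),
  (false,[2,2,2,0,2]),
  (true,[5]),
  (false,[5,5,5,5,5,5,5,5,5,5,5,5,5,5,5]),
  (false,[3]),
  (true,[8]),
  (false,[3,3,6,2,4,0,4,0,2,7,1,0,3,0,3,1,5,4,4]),
  (false,[8,8,10,8]),
  (true,[11]),
  (false,[10,11,10]),
  (true,[13]),
  (false,[12,12,9,14]),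
  (true,[15]),
  (false,[16,16,12,14,15]),
  (true,[17]),
  (false,[14,11,11,11,16,13]),
  (true,[19]),
  (false,[14,9,12,14,8,13]),
  (true,[21]),
  (false,[19,17,17,19,17,19,17]),
  (true,[23]),
  (false,[22,19,18,18,18,22,20,21]),
  (true,[25]),
  (false,[18,19,21,20,17]),
  (true,[27]),
  (false,[27,26,23,28,24,24,25]),
  (true,[29]),
  (false,[23,23,26,28,25,24,24]),
  (true,[31]),
  (false,[23,26,28,26,26,28,23,25]),
  (true,[33]),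
  (false,[29]),
  (true,[35]),
  (false,[33,31,34,30]),
  (false,[26,27,24,27,24,28,23,33,33,31,30]),
  (false,[17,22,19,21,19,22,18,23,23,26,27,25,27,31,34,29]),
  (false,[12,13,13,9,9,15,17,21,21,18,19,24,28,24,25,27,29,33,31])]
noncomputable def slp (a : ℕ) : Bool × List ℕ := nth slpL (false, []) a
noncomputable def invL : List ℕ := [0,2,1,4,3,6,5,7,9,8,10,12,11,14,13,16,15,18,17,20,19,22,21,24,23,26,25,28,27,30,29,32,31,34,33,36,35,37,38,39,40]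
noncomputable def inv (a : ℕ) : ℕ := nth invL 41 a
noncomputable def bs : List ℕ := [884328,997872,1091784,884352]
noncomputable def mc0 : Lvl := ⟨884328, [8,9,10,11,12,13,14,15,16], 69615,
  fun i => lk2 mc0c 0xffffff (Nat.mul 24 i), fun i => lk2 mc0p 0xfffff (Nat.mul 20 i),
  fun i => lk2 mc0l 0xff (Nat.mul 8 i), fun i => lk2 mc0i 0xff (Nat.mul 8 i), fun x => lk2 mc0q 0xffffff x, 7⟩
noncomputable def mc1 : Lvl := ⟨997872, [17,18,19,20,21,22], 34560,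
  fun i => lk2 mc1c 0xffffff (Nat.mul 24 i), fun i => lk2 mc1p 0xffff (Nat.mul 16 i),
  fun i => lk2 mc1l 0xff (Nat.mul 8 i), fun i => lk2 mc1i 0xff (Nat.mul 8 i), fun x => lk2 mc1q 0xffffff x, 8⟩
noncomputable def mc2 : Lvl := ⟨1091784, [23,24,25,26,27,28], 8192,
  fun i => lk2 mc2c 0xffffff (Nat.mul 24 i), fun i => lk2 mc2p 0xffff (Nat.mul 16 i),
  fun i => look 0xff mc2l (Nat.mul 8 i), fun i => look 0xff mc2i (Nat.mul 8 i), fun x => lk2 mc2q 0xffffff x, 7⟩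
noncomputable def mc3 : Lvl := ⟨884352, [29,30,31,32,33,34], 168,
  fun i => look 0xffffff mc3c (Nat.mul 24 i), fun i => look 0xff mc3p (Nat.mul 8 i),
  fun i => look 0xff mc3l (Nat.mul 8 i), fun i => look 0xff mc3i (Nat.mul 8 i), fun x => lk2 mc3q 0xffffff x, 4⟩
noncomputable def mc : List Lvl := [mc0, mc1, mc2, mc3]
noncomputable def tcR : List (List ℕ) := [[35,36],
  [36,35],
  [37,37],
  [35,35,35,35,35,35,35],
  [35,37,35,37,35,37,35,37],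
  [37,35,35,37,35,35,37,35,35],
  [38,38],
  [38,37,38,37,38,37,38,37],
  [38,36,36,38,35,35,38,36,36,38,35,35],
  [38,36,37,38,37,35,38,36,37,38,37,35],
  [38,37,36,38,35,37,38,37,36,38,35,37],
  [38,36,38,36,38,35,35,38,36,38,36,38,35,35],
  [38,36,37,35,35,35,37,36,38,36,37,35,35,35,37,36],
  [38,37,36,36,38,35,35,37,38,37,36,36,38,35,35,37],
  [38,36,36,37,38,37,35,35,38,36,36,37,38,37,35,35],
  [38,36,36,38,35,38,37,38,36,38,35,35,38,36,37,35],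
  [38,36,37,35,38,36,37,35,38,36,37,35,38,36,37,35],
  [38,36,38,36,38,35,37,36,38,35,38,35,38,36,37,35],
  [38,36,38,36,38,36,38,36,38,36,36,38,35,38,36,36],
  [38,37,38,35,37,36,38,37,36,37,35,35,38,36,37,35,35],
  [38,37,38,36,37,35,38,37,35,37,36,36,38,35,37,36,36],
  [39,39],
  [39,37,39,37,39,37,39,37],
  [39,38,39,38,39,38,39,38],
  [39,36,36,37,35,35,39,36,36,37,35,35],
  [39,36,38,37,38,35,39,36,38,37,38,35],
  [39,38,35,37,36,38,39,38,35,37,36,38],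
  [39,37,36,39,35,37,39,37,36,39,35,37],
  [39,35,37,39,35,37,39,35,37,39,35,37],
  [39,36,38,36,37,35,38,35,39,36,38,36,37,35,38,35],
  [39,37,36,38,37,38,35,37,39,37,36,38,37,38,35,37],
  [39,35,37,36,38,36,38,35,39,36,38,35,38,35,37,36],
  [39,35,37,39,36,39,35,39,37,39,36,39,35,37,36],
  [35,37,38,35,39,38,36,36,38,35,38,35,39,38,36,36,38],
  [39,36,37,39,36,37,36,37,39,36,37,39,36,37,36,37],
  [39,35,37,39,35,38,35,35,38,39,37,39,38,36,36,38,36,37,36],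
  [39,35,37,36,37,35,38,36,36,36,39,37,35,38,35,37,38,36,38,37],
  [39,35,37,35,39,36,37,36,39,35,37,35,39,36,37,36],
  [39,36,37,35,39,36,37,35,39,36,37,35,39,36,37,35],
  [39,36,37,35,39,37,38,37,39,36,37,35,39,37,38,37],
  [39,36,37,35,39,36,38,35,39,36,37,35,39,36,37,38,37,35],
  [39,36,39,35,37,36,39,38,37,36,38,35,39,36,38,35,37,38,35],
  [39,38,37,38,39,35,37,39,35,38,39,38,36,37,36,38,35,37,36,37,38],
  [39,36,39,36,36,37,39,37,39,35,35,39,35,39,36,36,36,37,35,35,35],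
  [39,35,38,37,38,35,37,39,37,36,36,39,37,35,37,38,37,36,37,35,38,36],
  [39,35,38,36,39,36,37,35,39,35,38,36,39,36,36,38,35,37,38,37,35,38],
  [40,40],
  [40,35,40,35],
  [40,37,40,37],
  [40,38,40,38],
  [40,39,38,39,40,39,38,39,40,39,38,39,40,39,38,39],
  [40,39,40,39,38,40,39,40,38,39,40,39,40,38,36,39,38,39,35,38,39,36,38,35,39],
  [36,38,40,39,38,40,39,38,36,37,35,38,39,40,38,39,40,38,35,37],
  [40,39,38,39,35,38,35,37,38,36,39,38,39,40,36,36,36,37,35,35,38,35,38,35,35,37],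
  [40,39,35,39,40,39,37,39,40,39,36,39,40,35,38,35,38,36,37,35,38,39,35,37,36,39,36,38,36],
  [40,39,36,36,38,39,40,39,38,39,40,39,35,35,39,40,35,38,37,38,35,39,37,38,39,38,37,36,36],
  [40,39,40,39,35,38,37,38,36,39,40,39,40,36,36,37,36,38,37,38,36,36,38,35,38,37,39,37,38,37,39],
  [40,39,40,39,38,36,37,36,37,38,39,40,39,40,37,36,37,35,35,37,36,38,36,38,37,35,39,38,36,39,37,38],
  [40,39,37,39,35,38,39,37,35,37,39,40,39,40,36,36,37,35,38,36,37,36,37,35,35,39,35,37,38,39,35,39]]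
noncomputable def tc0T : List (Tr ℕ) := [.leaf 0,.leaf 0,.leaf 0,.leaf 0,.leaf 0,.leaf 0,.leaf 0,.leaf 0,.leaf 0,.leaf 0,.leaf 0,.leaf 0,.leaf 0,.leaf 0,.leaf 0,.leaf 0,.leaf 0,.leaf 0,.leaf 0,.leaf 0,.leaf 0,.leaf 0,.leaf 0,.leaf 0,.leaf 0,.leaf 0,.leaf 0,.leaf 0,.leaf 0,.leaf 0,.leaf 0,.leaf 0,.leaf 0,.leaf 0,.leaf 0,tc0t35,tc0t36,tc0t37,tc0t38,tc0t39,tc0t40]
noncomputable def tc0r : Tr Rule := (.node (.node (.node (.node (.node (.node (.node (.node (.node (.node (.leaf ⟨40,[40],46,1⟩) (.leaf ⟨35,[37,36,36,38,37,38,36,37,35,38,37,35,37,36,36,38],20,13⟩)) (.leaf ⟨39,[36,38,35,38,35,37,36,39,35,37,36,38,36,38,35],31,8⟩)) (.node (.node (.leaf ⟨37,[35,38,36,38,36,38,35,37,36,38,35,38,35,38,36],17,14⟩) (.leaf ⟨37,[38,36,39,40,39,40,36,36,37,36,38,37,38,36,36,38,35,38,37,39,37,38,37,39,40,39,40,39,35,38],56,6⟩)) (.leaf ⟨38,[37,38,36,37,35,38,37,35,37,36,36,38,35,37,36,36],20,0⟩)))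 (.node (.node (.node (.leaf ⟨37,[36,39,35,37,39,37,36,39,35,37,39],27,7⟩) (.leaf ⟨39,[35,38,37,38,35,37,39,37,36,36,39,37,35,37,38,37,36,37,35,38,36],44,0⟩)) (.leaf ⟨36,[37,36,38,35,37,36,37,38,39,38,37,38,39,35,37,39,35,38,39,38],42,12⟩)) (.node (.leaf ⟨38,[35,37,38,35,39,38,36,36,38,35,38,35,39,38,36,36],33,16⟩) (.leaf ⟨36,[39,37,35,37,38,37,36,37,35,38,36,39,35,38,37,38,35,37,39,37,36],44,10⟩)))) (.node (.node (.node (.node (.leaf ⟨35,[39,36,38,37,38,35,39,36,38,37,38],25,11⟩) (.leaf ⟨36,[36,38,35,35,37,38,37,36,36,38,35,35,37,38,37],13,10⟩)) (.leaf ⟨39,[37,36,38,37,38,35,37,39,37,36,38,37,38,35,37],30,8⟩)) (.node (.node (.leaf ⟨38,[36,38,36,38,35,35,38,36,38,36,38,35,35],11,7⟩) (.leaf ⟨39,[38,39,40,39,38,39,40,39,38,39,40,39,38,39,40],50,9⟩)) (.leaf ⟨39,[36,38,35,39,36,37,35,39,36,37,38,37,35,39,36,37,35],40,4⟩))) (.node (.node (.node (.leaf ⟨35,[37,35,35,37,35,35,37,35],5,2⟩)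 (.leaf ⟨37,[38,37,35,39,36,37,35,39,36,38,35,39,36,37,35,39,36],40,14⟩)) (.leaf ⟨38,[36,38,36,38,36,38,36,36,38,35,38,36,36,38,36],18,2⟩)) (.node (.leaf ⟨36,[38,36,38,35,35,38,36,38,36,38,35,35,38],11,1⟩) (.leaf ⟨37,[35,35,38,36,37,35,35,38,37,38,35,37,36,38,37,36],19,9⟩))))) (.node (.node (.node (.node (.node (.leaf ⟨35,[35,35,35,35,35,35],3,2⟩) (.leaf ⟨38,[37,35,35,38,36,36,37,38,37,35,35,38,36,36,37],14,4⟩)) (.leaf ⟨37,[35,37,38,37,36,37,35,38,36,39,35,38,37,38,35,37,39,37,36,36,39],44,12⟩)) (.node (.node (.leaf ⟨37,[35,38,36,36,38,35,38,37,38,36,38,35,35,38,36],15,14⟩) (.leaf ⟨40,[38,40,38],49,0⟩)) (.leaf ⟨35,[38,36,37,35,38,36,37,35,38,36,37,35,38,36,37],16,11⟩))) (.node (.node (.node (.leaf ⟨36,[39,35,39,37,39,36,39,35,37,36,39,35,37,39],32,4⟩) (.leaf ⟨36,[36,36,37,35,35,35,39,36,39,36,36,37,39,37,39,35,35,39,35,39],43,14⟩)) (.leaf ⟨37,[35,38,35,39,36,38,36,37,35,38,35,39,36,38,36],29,4⟩))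 (.node (.leaf ⟨39,[37,35,38,35,37,38,36,38,37,39,35,37,36,37,35,38,36,36,36],36,10⟩) (.leaf ⟨39,[35,37,35,39,36,37,36,39,35,37,35,39,36,37,36],37,0⟩)))) (.node (.node (.node (.node (.leaf ⟨36,[37,39,36,37,39,36,37,36,37,39,36,37,39,36,37],34,14⟩) (.leaf ⟨36,[39,38,39,40,36,36,36,37,35,35,38,35,38,35,35,37,40,39,38,39,35,38,35,37,38],53,9⟩)) (.leaf ⟨38,[37,38,35,39,36,38,37,38,35,39,36],25,2⟩)) (.node (.node (.leaf ⟨37,[35,39,36,37,38,37,35,39,36,37,35,39,36,38,35,39,36],40,10⟩) (.leaf ⟨35,[35,39,40,35,38,37,38,35,39,37,38,39,38,37,36,36,40,39,36,36,38,39,40,39,38,39,40,39],55,12⟩)) (.leaf ⟨36,[37,35,35,35,37,36,38,36,37,35,35,35,37,36,38],12,9⟩))) (.node (.node (.node (.leaf ⟨35,[39,36,39,35,37,36,39,38,37,36,38,35,39,36,38,35,37,38],41,18⟩) (.leaf ⟨36,[36,38,35,37,38,37,35,38,39,35,38,36,39,36,37,35,39,35,38,36,39],45,13⟩)) (.leaf ⟨39,[35,37,39,35,37,39,35,37,39,35,37],28,3⟩))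 (.node (.leaf ⟨37,[39,38,36,36,38,36,37,36,39,35,37,39,35,38,35,35,38,39],35,10⟩) (.leaf ⟨36,[38,40,39,38,40,39,38,36,37,35,38,39,40,38,39,40,38,35,37],52,0⟩)))))) (.node (.node (.node (.node (.node (.node (.leaf ⟨35,[37,35,37,35,37,35,37],4,6⟩) (.leaf ⟨38,[36,37,35,38,35,39,36,38,36,37,35,38,35,39,36],29,10⟩)) (.leaf ⟨36,[39,38,37,36,38,35,39,36,38,35,37,38,35,39,36,39,35,37],41,5⟩)) (.node (.node (.leaf ⟨35,[37,38,37,36,38,35,37,38,37,36,38],10,10⟩) (.leaf ⟨39,[37,39,35,38,39,37,35,37,39,40,39,40,36,36,37,35,38,36,37,36,37,35,35,39,35,37,38,39,35,39,40],58,1⟩)) (.leaf ⟨36,[37,39,36,37,36,37,39,36,37,39,36,37,36,37,39],34,1⟩))) (.node (.node (.node (.leaf ⟨35,[39,37,39,36,39,35,37,36,39,35,37,39,36,39],32,6⟩) (.leaf ⟨36,[38,36,38,35,39,36,38,35,38,35,37,36,39,35,37],31,3⟩)) (.leaf ⟨36,[38,36,37,35,35,35,37,36,38,36,37,35,35,35,37],12,15⟩)) (.node (.leaf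 ⟨35,[35,38,36,37,35,38,36,36,38,35,38,37,38,36,38],15,10⟩) (.leaf ⟨36,[37,35,39,35,38,36,39,36,36,38,35,37,38,37,35,38,39,35,38,36,39],45,5⟩)))) (.node (.node (.node (.node (.leaf ⟨36,[39,35,37,39,37,36,39,35,37,39,37],27,8⟩) (.leaf ⟨35,[39,36,38,35,37,38,35,39,36,39,35,37,36,39,38,37,36,38],41,11⟩)) (.leaf ⟨36,[37,35,39,37,38,37,39,36,37,35,39,37,38,37,39],39,9⟩)) (.node (.node (.leaf ⟨37,[38,37,38,37,38,37,38],7,3⟩) (.leaf ⟨39,[40,38,35,37,36,38,40,39,38,40,39,38,36,37,35,38,39,40,38],52,15⟩)) (.leaf ⟨37,[36,37,39,36,37,39,36,37,36,37,39,36,37,39,36],34,5⟩))) (.node (.node (.node (.leaf ⟨38,[36,38,35,39,36,38,35,38,35,37,36,39,35,37,36],31,4⟩) (.leaf ⟨36,[37,35,38,36,37,35,38,36,37,35,38,36,37,35,38],16,9⟩)) (.leaf ⟨36,[37,35,35,39,36,36,37,35,35,39,36],24,2⟩)) (.node (.leaf ⟨38,[37,36,38,35,37,38,37,36,38,35,37],10,6⟩) (.leaf ⟨39,[40,38,39,40,39,40,38,36,39,38,39,35,38,39,36,38,35,39,40,39,40,39,38,40],51,6⟩)))))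 (.node (.node (.node (.node (.node (.leaf ⟨35,[35,35,35,35,35,35],3,3⟩) (.leaf ⟨38,[37,35,35,38,36,36,37,38,37,35,35,38,36,36,37],14,12⟩)) (.leaf ⟨39,[36,36,37,35,35,39,36,36,37,35,35],24,6⟩)) (.node (.node (.leaf ⟨37,[38,35,37,36,38,37,36,37,35,35,38,36,37,35,35,38],19,1⟩) (.leaf ⟨40,[39,38,39,40,39,38,39,40,39,38,39,40,39,38,39],50,12⟩)) (.leaf ⟨36,[37,35,39,36,37,38,37,35,39,36,37,35,39,36,38,35,39],40,9⟩))) (.node (.node (.node (.leaf ⟨35,[37,35,39,36,37,36,39,35,37,35,39,36,37,36,39],37,9⟩) (.leaf ⟨37,[36,39,35,37,39,35,38,35,35,38,39,37,39,38,36,36,38,36],35,17⟩)) (.leaf ⟨36,[38,35,35,37,38,37,36,36,38,35,35,37,38,37,36],13,3⟩)) (.node (.leaf ⟨38,[36,38,35,37,36,38,35,38,35,38,36,37,35,38,36],17,2⟩) (.leaf ⟨36,[37,39,37,39,35,35,39,35,39,36,36,36,37,35,35,35,39,36,39,36],43,4⟩)))) (.node (.node (.node (.node (.leaf ⟨37,[40,37,40],48,3⟩) (.leaf ⟨36,[36,37,39,37,39,35,35,39,35,39,36,36,36,37,35,35,35,39,36,39],43,3⟩))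 (.leaf ⟨39,[35,37,39,36,39,35,39,37,39,36,39,35,37,36],32,0⟩)) (.node (.leaf ⟨38,[37,38,35,37,39,37,36,38,37,38,35,37,39,37,36],30,3⟩) (.leaf ⟨37,[38,39,35,37,39,35,38,39,38,36,37,36,38,35,37,36,37,38,39,38],42,2⟩))) (.node (.node (.node (.leaf ⟨35,[38,36,37,38,37,35,38,36,37,38,37],9,11⟩) (.leaf ⟨37,[39,40,39,36,39,40,35,38,35,38,36,37,35,38,39,35,37,36,39,36,38,36,40,39,35,39,40,39],54,6⟩)) (.leaf ⟨38,[36,38,36,38,36,36,38,35,38,36,36,38,36,38,36],18,4⟩)) (.node (.leaf ⟨37,[35,38,37,35,37,36,36,38,35,37,36,36,38,37,38,36],20,4⟩) (.leaf ⟨38,[36,37,35,38,36,37,35,38,36,37,35,38,36,37,35],16,8⟩))))))) (.node (.node (.node (.node (.node (.node (.node (.leaf ⟨37,[37],2,1⟩) (.leaf ⟨37,[36,36,38,35,35,37,38,37,36,36,38,35,35,37,38],13,1⟩)) (.leaf ⟨38,[36,36,38,35,37,38,35,39,38,36,36,38,35,38,35,39],33,13⟩)) (.node (.node (.leaf ⟨36,[38,35,37,36,36,38,37,38,36,37,35,38,37,35,37,36],20,11⟩)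 (.leaf ⟨39,[40,37,36,37,35,35,37,36,38,36,38,37,35,39,38,36,39,37,38,40,39,40,39,38,36,37,36,37,38,39,40],57,12⟩)) (.leaf ⟨36,[38,35,38,37,38,36,38,35,35,38,36,37,35,38,36],15,2⟩))) (.node (.node (.node (.leaf ⟨37,[36,39,35,37,39,37,36,39,35,37,39],27,1⟩) (.leaf ⟨38,[39,35,38,35,37,38,36,39,38,39,40,36,36,36,37,35,35,38,35,38,35,35,37,40,39],53,2⟩)) (.leaf ⟨35,[38,39,38,36,37,36,38,35,37,36,37,38,39,38,37,38,39,35,37,39],42,8⟩)) (.node (.leaf ⟨36,[36,38,35,38,36,36,38,36,38,36,38,36,38,36,38],18,9⟩) (.leaf ⟨39,[37,36,38,37,38,35,37,39,37,36,38,37,38,35,37],30,0⟩)))) (.node (.node (.node (.node (.leaf ⟨36,[38,36,38,35,35,38,36,38,36,38,35,35,38],11,8⟩) (.leaf ⟨35,[38,36,36,37,38,37,35,35,38,36,36,37,38,37,35],14,15⟩)) (.leaf ⟨35,[37,38,36,38,37,39,35,37,36,37,35,38,36,36,36,39,37,35,38],36,14⟩)) (.node (.node (.leaf ⟨38,[36,38,36,38,36,38,36,38,36,36,38,35,38,36,36],18,0⟩)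 (.leaf ⟨40,[39,38,39,40,39,38,39,40,39,38,39,40,39,38,39],50,0⟩)) (.leaf ⟨36,[38,37,38,35,37,39,37,36,38,37,38,35,37,39,37],30,2⟩))) (.node (.node (.node (.leaf ⟨38,[35,37,38,37,36,38,35,37,38,37,36],10,9⟩) (.leaf ⟨35,[38,36,39,35,38,37,38,35,37,39,37,36,36,39,37,35,37,38,37,36,37],44,19⟩)) (.leaf ⟨36,[38,37,38,35,39,36,38,37,38,35,39],25,1⟩)) (.node (.leaf ⟨38,[36,37,35,35,35,37,36,38,36,37,35,35,35,37,36],12,8⟩) (.leaf ⟨35,[39,36,37,35,39,36,37,38,37,35,39,36,37,35,39,36,38],40,7⟩))))) (.node (.node (.node (.node (.node (.leaf ⟨35,[38,36,38,36,38,35,35,38,36,38,36,38,35],11,13⟩) (.leaf ⟨35,[37,38,37,36,36,38,35,35,37,38,37,36,36,38,35],13,14⟩)) (.leaf ⟨38,[39,38,39,38,39,38,39],23,3⟩)) (.node (.node (.leaf ⟨35,[35,38,36,38,36,38,35,35,38,36,38,36,38],11,12⟩) (.leaf ⟨38,[39,40,39,38,39,40,39,38,39,40,39,38,39,40,39],50,6⟩)) (.leaf ⟨38,[36,36,38,35,38,36,36,38,36,38,36,38,36,38,36],18,8⟩)))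 (.node (.node (.node (.leaf ⟨38,[35,39,36,38,35,38,35,37,36,39,35,37,36,38,36],31,6⟩) (.leaf ⟨38,[36,37,36,39,35,37,39,35,38,35,35,38,39,37,39,38,36,36],35,15⟩)) (.leaf ⟨37,[36,36,39,37,35,37,38,37,36,37,35,38,36,39,35,38,37,38,35,37,39],44,8⟩)) (.node (.leaf ⟨37,[36,38,35,37,38,37,36,38,35,37,38],10,1⟩) (.leaf ⟨39,[38,39,38,39,38,39,38],23,0⟩)))) (.node (.node (.node (.node (.leaf ⟨37,[36,39,35,37,39,36,39,35,39,37,39,36,39,35],32,13⟩) (.leaf ⟨39,[35,38,36,39,36,37,35,39,35,38,36,39,36,36,38,35,37,38,37,35,38],45,0⟩)) (.leaf ⟨38,[36,36,38,35,38,35,39,38,36,36,38,35,37,38,35,39],33,5⟩)) (.node (.node (.leaf ⟨38,[35,38,35,37,36,39,35,37,36,38,36,38,35,39,36],31,10⟩) (.leaf ⟨38,[40,39,38,40,39,38,36,37,35,38,39,40,38,39,40,38,35,37,36],52,1⟩)) (.leaf ⟨39,[36,37,35,39,37,38,37,39,36,37,35,39,37,38,37],39,0⟩))) (.node (.node (.node (.leaf ⟨35,[37,35,37,35,37,35,37],4,0⟩)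 (.leaf ⟨39,[36,37,35,39,35,38,36,39,36,36,38,35,37,38,37,35,38,39,35,38,36],45,4⟩)) (.leaf ⟨38,[39,38,35,37,36,38,39,38,35,37,36],26,5⟩)) (.node (.leaf ⟨38,[37,38,35,37,39,37,36,38,37,38,35,37,39,37,36],30,11⟩) (.leaf ⟨39,[40,36,36,36,37,35,35,38,35,38,35,35,37,40,39,38,39,35,38,35,37,38,36,39,38],53,12⟩)))))) (.node (.node (.node (.node (.node (.node (.leaf ⟨37,[35,37,35,37,35,37,35],4,5⟩) (.leaf ⟨37,[36,37,35,38,36,36,36,39,37,35,38,35,37,38,36,38,37,39,35],36,2⟩)) (.leaf ⟨37,[38,35,39,38,36,36,38,35,38,35,39,38,36,36,38,35],33,1⟩)) (.node (.node (.leaf ⟨35,[38,37,35,37,36,36,38,35,37,36,36,38,37,38,36,37],20,5⟩) (.leaf ⟨40,[35,40,35],47,2⟩)) (.leaf ⟨39,[37,39,37,39,37,39,37],22,0⟩))) (.node (.node (.node (.leaf ⟨37,[35,39,36,37,35,39,36,37,35,39,36,37,35,39,36],38,10⟩) (.leaf ⟨37,[35,39,36,37,35,39,36,38,35,39,36,37,35,39,36,37,38],40,16⟩)) (.leaf ⟨38,[39,37,39,38,36,36,38,36,37,36,39,35,37,39,35,38,35,35],35,8⟩))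 (.node (.leaf ⟨38,[35,39,36,38,36,37,35,38,35,39,36,38,36,37,35],29,6⟩) (.leaf ⟨37,[39,37,36,38,37,38,35,37,39,37,36,38,37,38,35],30,7⟩)))) (.node (.node (.node (.node (.leaf ⟨37,[36,38,39,38,35,37,36,38,39,38,35],26,9⟩) (.leaf ⟨35,[35,39,35,39,36,36,36,37,35,35,35,39,36,39,36,36,37,39,37,39],43,9⟩)) (.leaf ⟨36,[37,35,35,38,36,37,35,35,38,37,38,35,37,36,38,37],19,8⟩)) (.node (.node (.leaf ⟨38,[35,37,38,37,36,38,35,37,38,37,36],10,3⟩) (.leaf ⟨38,[39,40,38,35,37,36,38,40,39,38,40,39,38,36,37,35,38,39,40],52,14⟩)) (.leaf ⟨36,[37,39,36,37,39,36,37,36,37,39,36,37,39,36,37],34,6⟩))) (.node (.node (.node (.leaf ⟨37,[38,36,38,37,39,35,37,36,37,35,38,36,36,36,39,37,35,38,35],36,15⟩) (.leaf ⟨36,[37,38,39,38,37,38,39,35,37,39,35,38,39,38,36,37,36,38,35,37],42,18⟩)) (.leaf ⟨35,[39,36,36,37,35,35,39,36,36,37,35],24,5⟩)) (.node (.leaf ⟨38,[35,37,36,38,39,38,35,37,36,38,39],26,7⟩)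 (.leaf ⟨38,[36,37,35,38,39,40,38,39,40,38,35,37,36,38,40,39,38,40,39],52,7⟩))))) (.node (.node (.node (.node (.node (.leaf ⟨37,[38,37,36,38,35,37,38,37,36,38,35],10,11⟩) (.leaf ⟨36,[37,35,39,36,37,35,39,36,37,35,39,36,37,35,39],38,13⟩)) (.leaf ⟨39,[38,35,37,36,38,39,38,35,37,36,38],26,0⟩)) (.node (.node (.leaf ⟨38,[36,38,35,35,38,36,37,35,38,36,36,38,35,38,37],15,7⟩) (.leaf ⟨35,[39,40,35,38,37,38,35,39,37,38,39,38,37,36,36,40,39,36,36,38,39,40,39,38,39,40,39,35],55,13⟩)) (.leaf ⟨38,[36,36,37,38,37,35,35,38,36,36,37,38,37,35,35],14,0⟩))) (.node (.node (.node (.leaf ⟨37,[39,35,35,39,35,39,36,36,36,37,35,35,35,39,36,39,36,36,37,39],43,7⟩) (.leaf ⟨39,[35,37,39,35,38,35,35,38,39,37,39,38,36,36,38,36,37,36],35,0⟩)) (.leaf ⟨39,[37,38,37,39,36,37,35,39,37,38,37,39,36,37,35],39,12⟩)) (.node (.leaf ⟨38,[35,35,37,38,37,36,36,38,35,35,37,38,37,36,36],13,4⟩) (.leaf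 ⟨39,[36,39,36,36,37,39,37,39,35,35,39,35,39,36,36,36,37,35,35,35],43,0⟩)))) (.node (.node (.node (.node (.leaf ⟨39,[37,39,37,39,37,39,37],22,6⟩) (.leaf ⟨39,[35,39,36,36,36,37,35,35,35,39,36,39,36,36,37,39,37,39,35,35],43,11⟩)) (.leaf ⟨39,[38,36,37,36,38,35,37,36,37,38,39,38,37,38,39,35,37,39,35,38],42,10⟩)) (.node (.leaf ⟨36,[38,35,38,35,38,36,37,35,38,36,38,36,38,35,37],17,7⟩) (.leaf ⟨39,[37,35,37,38,37,36,37,35,38,36,39,35,38,37,38,35,37,39,37,36,36],44,11⟩))) (.node (.node (.node (.leaf ⟨37,[38,36,38,35,35,38,36,37,35,38,36,36,38,35,38],15,6⟩) (.leaf ⟨38,[39,40,39,35,35,39,40,35,38,37,38,35,39,37,38,39,38,37,36,36,40,39,36,36,38,39,40,39],55,8⟩)) (.leaf ⟨35,[37,38,37,36,36,38,35,35,37,38,37,36,36,38,35],13,6⟩)) (.node (.leaf ⟨37,[35,39,36,37,35,39,36,37,35,39,36,37,35,39,36],38,6⟩) (.leaf ⟨38,[36,36,38,35,38,37,38,36,38,35,35,38,36,37,35],15,0⟩))))))))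 (.node (.node (.node (.node (.node (.node (.node (.node (.leaf ⟨36,[35],0,1⟩) (.leaf ⟨36,[39,35,37,39,35,38,35,35,38,39,37,39,38,36,36,38,36,37],35,18⟩)) (.leaf ⟨35,[37,36,38,36,38,35,39,36,38,35,38,35,37,36,39],31,1⟩)) (.node (.node (.leaf ⟨35,[35,38,36,37,35,35,38,37,38,35,37,36,38,37,36,37],19,10⟩) (.leaf ⟨36,[39,40,39,40,36,36,37,36,38,37,38,36,36,38,35,38,37,39,37,38,37,39,40,39,40,39,35,38,37,38],56,8⟩)) (.leaf ⟨36,[36,37,38,37,35,35,38,36,36,37,38,37,35,35,38],14,1⟩))) (.node (.node (.node (.leaf ⟨37,[39,37,39,37,39,37,39],22,7⟩) (.leaf ⟨39,[36,37,35,39,36,37,35,39,36,37,35,39,36,37,35],38,8⟩)) (.leaf ⟨37,[39,35,38,39,38,36,37,36,38,35,37,36,37,38,39,38,37,38,39,35],42,6⟩)) (.node (.leaf ⟨36,[38,35,38,35,39,38,36,36,38,35,37,38,35,39,38,36],33,7⟩) (.leaf ⟨38,[36,39,36,37,35,39,35,38,36,39,36,36,38,35,37,38,37,35,38,39,35],45,2⟩)))) (.node (.node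 (.node (.node (.leaf ⟨35,[35,37,35,35,37,35,35,37],5,4⟩) (.leaf ⟨39,[36,37,38,37,35,39,36,37,35,39,36,38,35,39,36,37,35],40,12⟩)) (.leaf ⟨39,[38,39,38,39,38,39,38],23,6⟩)) (.node (.node (.leaf ⟨38,[36,37,35,38,36,37,35,38,36,37,35,38,36,37,35],16,4⟩) (.leaf ⟨40,[39,38,39,40,39,38,39,40,39,38,39,40,39,38,39],50,4⟩)) (.leaf ⟨35,[39,36,38,35,38,35,37,36,39,35,37,36,38,36,38],31,7⟩))) (.node (.node (.node (.leaf ⟨38,[36,37,38,37,35,38,36,37,38,37,35],9,0⟩) (.leaf ⟨37,[35,39,36,37,35,39,36,37,35,39,36,37,35,39,36],38,2⟩)) (.leaf ⟨38,[35,37,36,36,38,37,38,36,37,35,38,37,35,37,36,36],20,12⟩)) (.node (.leaf ⟨36,[36,38,35,37,36,36,38,37,38,36,37,35,38,37,35,37],20,10⟩) (.leaf ⟨39,[36,37,36,37,39,36,37,39,36,37,36,37,39,36,37],34,11⟩))))) (.node (.node (.node (.node (.node (.leaf ⟨35,[37,35,37,35,37,35,37],4,2⟩) (.leaf ⟨36,[37,35,38,36,36,36,39,37,35,38,35,37,38,36,38,37,39,35,37],36,3⟩))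 (.leaf ⟨38,[36,39,36,36,38,35,37,38,37,35,38,39,35,38,36,39,36,37,35,39,35],45,10⟩)) (.node (.node (.leaf ⟨36,[36,38,37,38,36,37,35,38,37,35,37,36,36,38,35,37],20,15⟩) (.leaf ⟨40,[39,38,39,40,39,38,39,40,39,38,39,40,39,38,39],50,8⟩)) (.leaf ⟨37,[39,36,37,35,39,37,38,37,39,36,37,35,39,37,38],39,7⟩))) (.node (.node (.node (.leaf ⟨36,[37,36,37,39,36,37,39,36,37,36,37,39,36,37,39],34,12⟩) (.leaf ⟨35,[39,37,38,37,39,36,37,35,39,37,38,37,39,36,37],39,11⟩)) (.leaf ⟨37,[36,38,37,38,35,37,39,37,36,38,37,38,35,37,39],30,1⟩)) (.node (.leaf ⟨38,[37,35,38,36,37,38,37,35,38,36,37],9,3⟩) (.leaf ⟨39,[35,38,36,39,36,36,38,35,37,38,37,35,38,39,35,38,36,39,36,37,35],45,8⟩)))) (.node (.node (.node (.node (.leaf ⟨36,[39,35,37,39,36,39,35,39,37,39,36,39,35,37],32,14⟩) (.leaf ⟨38,[37,36,37,35,38,36,39,35,38,37,38,35,37,39,37,36,36,39,37,35,37],44,15⟩)) (.leaf ⟨37,[35,35,39,36,36,37,35,35,39,36,36],24,3⟩))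 (.node (.node (.leaf ⟨35,[37,38,35,39,36,39,35,37,36,39,38,37,36,38,35,39,36,38],41,15⟩) (.leaf ⟨38,[40,39,38,36,37,35,38,39,40,38,39,40,38,35,37,36,38,40,39],52,4⟩)) (.leaf ⟨39,[36,37,36,37,39,36,37,39,36,37,36,37,39,36,37],34,3⟩))) (.node (.node (.node (.leaf ⟨38,[37,38,37,38,37,38,37],7,4⟩) (.leaf ⟨35,[38,35,37,38,36,39,38,39,40,36,36,36,37,35,35,38,35,38,35,35,37,40,39,38,39],53,4⟩)) (.leaf ⟨36,[38,36,38,35,37,36,38,35,38,35,38,36,37,35,38],17,1⟩)) (.node (.leaf ⟨38,[35,35,38,36,37,35,38,36,36,38,35,38,37,38,36],15,9⟩) (.leaf ⟨35,[38,35,35,37,40,39,38,39,35,38,35,37,38,36,39,38,39,40,36,36,36,37,35,35,38],53,21⟩)))))) (.node (.node (.node (.node (.node (.node (.leaf ⟨37,[39,37,39,37,39,37,39],22,5⟩) (.leaf ⟨38,[36,36,38,36,37,36,39,35,37,39,35,38,35,35,38,39,37,39],35,12⟩)) (.leaf ⟨35,[37,36,38,36,37,35,35,35,37,36,38,36,37,35,35],12,5⟩)) (.node (.node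 (.leaf ⟨36,[38,35,37,38,37,36,38,35,37,38,37],10,2⟩) (.leaf ⟨40,[37,40,37],48,2⟩)) (.leaf ⟨37,[35,35,38,36,36,37,38,37,35,35,38,36,36,37,38],14,13⟩))) (.node (.node (.node (.leaf ⟨37,[35,39,36,37,36,39,35,37,35,39,36,37,36,39,35],37,10⟩) (.leaf ⟨37,[35,35,35,39,36,39,36,36,37,39,37,39,35,35,39,35,39,36,36,36],43,17⟩)) (.leaf ⟨35,[37,39,35,37,39,35,37,39,35,37,39],28,1⟩)) (.node (.leaf ⟨35,[37,39,35,38,35,35,38,39,37,39,38,36,36,38,36,37,36,39],35,1⟩) (.leaf ⟨38,[37,39,36,37,35,39,37,38,37,39,36,37,35,39,37],39,6⟩)))) (.node (.node (.node (.node (.leaf ⟨37,[39,37,36,39,35,37,39,37,36,39,35],27,11⟩) (.leaf ⟨35,[39,36,38,35,39,36,37,35,39,36,37,38,37,35,39,36,37],40,3⟩)) (.leaf ⟨37,[39,35,37,39,35,37,39,35,37,39,35],28,11⟩)) (.node (.node (.leaf ⟨38,[37,38,37,38,37,38,37],7,2⟩) (.leaf ⟨40,[38,35,37,36,38,40,39,38,40,39,38,36,37,35,38,39,40,38,39],52,16⟩))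 (.leaf ⟨39,[36,39,35,37,36,39,38,37,36,38,35,39,36,38,35,37,38,35],41,0⟩))) (.node (.node (.node (.leaf ⟨36,[38,36,37,36,39,35,37,39,35,38,35,35,38,39,37,39,38,36],35,14⟩) (.leaf ⟨35,[38,36,37,35,38,36,37,35,38,36,37,35,38,36,37],16,3⟩)) (.leaf ⟨39,[36,38,36,37,35,38,35,39,36,38,36,37,35,38,35],29,0⟩)) (.node (.leaf ⟨35,[38,36,36,38,35,35,38,36,36,38,35],8,5⟩) (.leaf ⟨38,[39,40,38,39,40,38,35,37,36,38,40,39,38,40,39,38,36,37,35],52,11⟩))))) (.node (.node (.node (.node (.node (.leaf ⟨36,[37,35,35,39,36,36,37,35,35,39,36],24,8⟩) (.leaf ⟨36,[37,35,38,36,38,36,38,35,37,36,38,35,38,35,38],17,13⟩)) (.leaf ⟨35,[37,39,35,37,39,35,37,39,35,37,39],28,4⟩)) (.node (.node (.leaf ⟨35,[37,38,37,36,38,35,37,38,37,36,38],10,4⟩) (.leaf ⟨39,[40,39,35,35,39,40,35,38,37,38,35,39,37,38,39,38,37,36,36,40,39,36,36,38,39,40,39,38],55,9⟩)) (.leaf ⟨36,[37,39,36,37,36,37,39,36,37,39,36,37,36,37,39],34,9⟩)))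 (.node (.node (.node (.leaf ⟨36,[37,36,39,35,37,35,39,36,37,36,39,35,37,35,39],37,13⟩) (.leaf ⟨35,[38,39,35,38,36,39,36,37,35,39,35,38,36,39,36,36,38,35,37,38,37],45,20⟩)) (.leaf ⟨35,[37,39,37,36,38,37,38,35,37,39,37,36,38,37,38],30,6⟩)) (.node (.leaf ⟨38,[37,36,36,38,35,35,37,38,37,36,36,38,35,35,37],13,8⟩) (.leaf ⟨37,[39,35,37,39,35,37,39,35,37,39,35],28,2⟩)))) (.node (.node (.node (.node (.leaf ⟨35,[37,35,35,37,35,35,37,35],5,8⟩) (.leaf ⟨39,[36,37,35,39,37,38,37,39,36,37,35,39,37,38,37],39,8⟩)) (.leaf ⟨39,[35,37,36,38,36,38,35,39,36,38,35,38,35,37,36],31,0⟩)) (.node (.leaf ⟨38,[36,38,35,35,38,36,38,36,38,35,35,38,36],11,9⟩) (.leaf ⟨39,[38,36,36,38,36,37,36,39,35,37,39,35,38,35,35,38,39,37],35,11⟩))) (.node (.node (.node (.leaf ⟨38,[39,38,39,38,39,38,39],23,7⟩) (.leaf ⟨37,[36,39,36,38,36,40,39,35,39,40,39,37,39,40,39,36,39,40,35,38,35,38,36,37,35,38,39,35],54,23⟩))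 (.leaf ⟨38,[36,37,35,35,38,37,38,35,37,36,38,37,36,37,35,35],19,12⟩)) (.node (.leaf ⟨37,[38,35,39,36,38,37,38,35,39,36,38],25,3⟩) (.leaf ⟨36,[38,35,37,36,38,35,38,35,38,36,37,35,38,36,38],17,3⟩))))))) (.node (.node (.node (.node (.node (.node (.node (.leaf ⟨35,[35,35,35,35,35,35],3,4⟩) (.leaf ⟨37,[36,38,36,37,35,35,35,37,36,38,36,37,35,35,35],12,6⟩)) (.leaf ⟨36,[36,38,35,38,35,39,38,36,36,38,35,37,38,35,39,38],33,6⟩)) (.node (.node (.leaf ⟨35,[35,35,35,35,35,35],3,6⟩) (.leaf ⟨39,[40,39,38,36,37,36,37,38,39,40,39,40,37,36,37,35,35,37,36,38,36,38,37,35,39,38,36,39,37,38,40],57,1⟩)) (.leaf ⟨36,[38,36,38,36,38,36,38,36,36,38,35,38,36,36,38],18,1⟩))) (.node (.node (.node (.leaf ⟨36,[39,35,37,39,37,36,39,35,37,39,37],27,2⟩) (.leaf ⟨38,[35,37,39,37,36,38,37,38,35,37,39,37,36,38,37],30,13⟩)) (.leaf ⟨37,[35,39,37,38,37,39,36,37,35,39,37,38,37,39,36],39,2⟩)) (.node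 (.leaf ⟨36,[38,36,38,36,36,38,35,38,36,36,38,36,38,36,38],18,5⟩) (.leaf ⟨37,[39,37,36,36,39,37,35,37,38,37,36,37,35,38,36,39,35,38,37,38,35],44,6⟩)))) (.node (.node (.node (.node (.leaf ⟨36,[38,37,38,35,39,36,38,37,38,35,39],25,7⟩) (.leaf ⟨35,[39,36,37,36,39,35,37,35,39,36,37,36,39,35,37],37,3⟩)) (.leaf ⟨35,[39,36,37,38,37,35,39,36,37,35,39,36,38,35,39,36,37],40,11⟩)) (.node (.node (.leaf ⟨36,[38,35,35,37,38,37,36,36,38,35,35,37,38,37,36],13,11⟩) (.leaf ⟨39,[38,36,37,35,38,39,40,38,39,40,38,35,37,36,38,40,39,38,40],52,6⟩)) (.leaf ⟨39,[35,38,35,35,38,39,37,39,38,36,36,38,36,37,36,39,35,37],35,3⟩))) (.node (.node (.node (.leaf ⟨37,[38,35,37,39,37,36,38,37,38,35,37,39,37,36,38],30,12⟩) (.leaf ⟨35,[39,36,37,35,39,36,38,35,39,36,37,35,39,36,37,38,37],40,17⟩)) (.leaf ⟨35,[38,39,37,39,38,36,36,38,36,37,36,39,35,37,39,35,38,35],35,7⟩)) (.node (.leaf ⟨37,[38,37,35,38,36,37,38,37,35,38,36],9,2⟩)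 (.leaf ⟨36,[39,36,36,37,39,37,39,35,35,39,35,39,36,36,36,37,35,35,35,39],43,1⟩))))) (.node (.node (.node (.node (.node (.leaf ⟨35,[37,36,38,39,38,35,37,36,38,39,38],26,8⟩) (.leaf ⟨35,[37,39,37,36,38,37,38,35,37,39,37,36,38,37,38],30,14⟩)) (.leaf ⟨38,[36,38,36,38,35,35,38,36,38,36,38,35,35],11,0⟩)) (.node (.node (.leaf ⟨38,[36,36,38,35,35,38,36,36,38,35,35],8,6⟩) (.leaf ⟨39,[38,39,40,39,38,39,40,39,38,39,40,39,38,39,40],50,5⟩)) (.leaf ⟨39,[36,37,39,36,37,36,37,39,36,37,39,36,37,36,37],34,8⟩))) (.node (.node (.node (.leaf ⟨37,[36,39,35,37,35,39,36,37,36,39,35,37,35,39,36],37,6⟩) (.leaf ⟨37,[35,38,39,35,38,36,39,36,37,35,39,35,38,36,39,36,36,38,35,37,38],45,19⟩)) (.leaf ⟨35,[35,37,36,38,36,37,35,35,35,37,36,38,36,37,35],12,4⟩)) (.node (.leaf ⟨38,[37,38,35,39,36,38,37,38,35,39,36],25,8⟩) (.leaf ⟨39,[35,37,39,35,38,39,38,36,37,36,38,35,37,36,37,38,39,38,37,38],42,4⟩))))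 (.node (.node (.node (.node (.leaf ⟨37,[39,36,39,35,39,37,39,36,39,35,37,36,39,35],32,2⟩) (.leaf ⟨38,[39,35,38,36,39,36,37,35,39,35,38,36,39,36,36,38,35,37,38,37,35],45,21⟩)) (.leaf ⟨38,[37,36,38,35,39,36,38,35,37,38,35,39,36,39,35,37,36,39],41,7⟩)) (.node (.node (.leaf ⟨38,[37,35,38,36,37,38,37,35,38,36,37],9,9⟩) (.leaf ⟨39,[40,39,38,40,39,40,38,39,40,39,40,38,36,39,38,39,35,38,39,36,38,35,39,40],51,1⟩)) (.leaf ⟨39,[37,36,36,39,37,35,37,38,37,36,37,35,38,36,39,35,38,37,38,35,37],44,7⟩))) (.node (.node (.node (.leaf ⟨36,[38,35,35,38,36,36,38,35,35,38,36],8,2⟩) (.leaf ⟨35,[35,37,40,39,38,39,35,38,35,37,38,36,39,38,39,40,36,36,36,37,35,35,38,35,38],53,23⟩)) (.leaf ⟨37,[39,35,38,35,35,38,39,37,39,38,36,36,38,36,37,36,39,35],35,2⟩)) (.node (.leaf ⟨37,[38,35,37,39,37,36,38,37,38,35,37,39,37,36,38],30,4⟩) (.leaf ⟨35,[35,38,37,38,35,37,36,38,37,36,37,35,35,38,36,37],19,15⟩))))))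 (.node (.node (.node (.node (.node (.node (.leaf ⟨37,[35,35,37,35,35,37,35,35],5,6⟩) (.leaf ⟨37,[35,38,36,37,35,38,36,37,35,38,36,37,35,38,36],16,14⟩)) (.leaf ⟨38,[37,38,39,35,37,39,35,38,39,38,36,37,36,38,35,37,36,37,38,39],42,1⟩)) (.node (.node (.leaf ⟨35,[35,35,35,35,35,35],3,1⟩) (.leaf ⟨37,[40,37,40],48,1⟩)) (.leaf ⟨39,[37,39,37,39,37,39,37],22,2⟩))) (.node (.node (.node (.leaf ⟨37,[39,35,37,39,35,37,39,35,37,39,35],28,5⟩) (.leaf ⟨35,[39,36,39,36,36,37,39,37,39,35,35,39,35,39,36,36,36,37,35,35],43,20⟩)) (.leaf ⟨36,[39,35,37,36,39,38,37,36,38,35,39,36,38,35,37,38,35,39],41,1⟩)) (.node (.leaf ⟨36,[36,38,36,38,36,38,36,38,36,38,36,36,38,35,38],18,14⟩) (.leaf ⟨37,[35,35,38,36,36,37,38,37,35,35,38,36,36,37,38],14,5⟩)))) (.node (.node (.node (.node (.leaf ⟨36,[36,37,35,35,39,36,36,37,35,35,39],24,7⟩) (.leaf ⟨37,[35,39,36,37,35,39,36,37,35,39,36,37,35,39,36],38,14⟩))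 (.leaf ⟨36,[38,36,37,35,38,35,39,36,38,36,37,35,38,35,39],29,1⟩)) (.node (.node (.leaf ⟨38,[35,37,38,35,39,36,39,35,37,36,39,38,37,36,38,35,39,36],41,14⟩) (.leaf ⟨38,[40,39,40,38,39,40,39,40,38,36,39,38,39,35,38,39,36,38,35,39,40,39,40,39],51,4⟩)) (.leaf ⟨38,[35,39,36,38,35,37,38,35,39,36,39,35,37,36,39,38,37,36],41,10⟩))) (.node (.node (.node (.leaf ⟨38,[37,39,36,37,35,39,37,38,37,39,36,37,35,39,37],39,14⟩) (.leaf ⟨36,[36,37,35,35,35,39,36,39,36,36,37,39,37,39,35,35,39,35,39,36],43,15⟩)) (.leaf ⟨37,[35,35,35,37,36,38,36,37,35,35,35,37,36,38,36],12,10⟩)) (.node (.leaf ⟨38,[36,37,35,38,36,36,38,35,38,37,38,36,38,35,35],15,12⟩) (.leaf ⟨36,[37,35,38,39,40,38,39,40,38,35,37,36,38,40,39,38,40,39,38],52,8⟩))))) (.node (.node (.node (.node (.node (.leaf ⟨35,[38,36,36,38,35,35,38,36,36,38,35],8,11⟩) (.leaf ⟨39,[37,38,37,39,36,37,35,39,37,38,37,39,36,37,35],39,4⟩))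 (.leaf ⟨35,[38,36,37,35,35,38,37,38,35,37,36,38,37,36,37,35],19,11⟩)) (.node (.node (.leaf ⟨37,[36,38,35,37,38,37,36,38,35,37,38],10,7⟩) (.leaf ⟨39,[36,39,40,35,38,35,38,36,37,35,38,39,35,37,36,39,36,38,36,40,39,35,39,40,39,37,39,40],54,9⟩)) (.leaf ⟨35,[37,36,36,38,35,37,36,36,38,37,38,36,37,35,38,37],20,8⟩))) (.node (.node (.node (.leaf ⟨38,[40,38,40],49,3⟩) (.leaf ⟨36,[37,35,38,36,37,35,38,36,37,35,38,36,37,35,38],16,1⟩)) (.leaf ⟨37,[36,36,38,35,37,36,36,38,37,38,36,37,35,38,37,35],20,9⟩)) (.node (.leaf ⟨38,[36,36,38,35,35,38,36,36,38,35,35],8,0⟩) (.leaf ⟨36,[38,35,39,36,37,35,39,36,37,38,37,35,39,36,37,35,39],40,5⟩)))) (.node (.node (.node (.node (.leaf ⟨35,[35,37,35,35,37,35,35,37],5,1⟩) (.leaf ⟨37,[36,37,35,38,36,39,35,38,37,38,35,37,39,37,36,36,39,37,35,37,38],44,16⟩)) (.leaf ⟨39,[38,39,38,39,38,39,38],23,4⟩)) (.node (.leaf ⟨36,[38,36,38,36,38,36,36,38,35,38,36,36,38,36,38],18,3⟩)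 (.leaf ⟨36,[38,35,37,38,35,39,36,39,35,37,36,39,38,37,36,38,35,39],41,13⟩))) (.node (.node (.node (.leaf ⟨36,[37,38,37,35,38,36,37,38,37,35,38],9,1⟩) (.leaf ⟨35,[40,35,40],47,1⟩)) (.leaf ⟨37,[36,38,37,36,37,35,35,38,36,37,35,35,38,37,38,35],19,4⟩)) (.node (.leaf ⟨37,[36,38,36,38,35,39,36,38,35,38,35,37,36,39,35],31,2⟩) (.leaf ⟨38,[36,37,35,38,36,37,35,38,36,37,35,38,36,37,35],16,0⟩))))))))) (.node (.node (.node (.node (.node (.node (.node (.node (.node (.leaf ⟨39,[39],21,1⟩) (.leaf ⟨36,[38,36,36,38,35,38,36,36,38,36,38,36,38,36,38],18,7⟩)) (.leaf ⟨36,[39,35,37,36,38,36,38,35,39,36,38,35,38,35,37],31,15⟩)) (.node (.node (.leaf ⟨36,[38,37,36,37,35,35,38,36,37,35,35,38,37,38,35,37],19,5⟩) (.leaf ⟨38,[37,39,40,39,40,39,35,38,37,38,36,39,40,39,40,36,36,37,36,38,37,38,36,36,38,35,38,37,39,37],56,28⟩)) (.leaf ⟨37,[38,37,35,35,38,36,36,37,38,37,35,35,38,36,36],14,11⟩)))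 (.node (.node (.node (.leaf ⟨37,[39,37,39,37,39,37,39],22,3⟩) (.leaf ⟨35,[38,36,36,37,38,37,35,35,38,36,36,37,38,37,35],14,7⟩)) (.leaf ⟨38,[37,39,35,37,36,37,35,38,36,36,36,39,37,35,38,35,37,38,36],36,18⟩)) (.node (.leaf ⟨35,[37,38,35,39,38,36,36,38,35,38,35,39,38,36,36,38],33,0⟩) (.leaf ⟨39,[36,37,35,39,36,38,35,39,36,37,35,39,36,37,38,37,35],40,0⟩)))) (.node (.node (.node (.node (.leaf ⟨35,[37,39,37,36,39,35,37,39,37,36,39],27,10⟩) (.leaf ⟨36,[37,35,38,36,36,38,35,38,37,38,36,38,35,35,38],15,13⟩)) (.leaf ⟨37,[38,37,39,36,37,35,39,37,38,37,39,36,37,35,39],39,13⟩)) (.node (.node (.leaf ⟨37,[35,37,36,36,38,35,37,36,36,38,37,38,36,37,35,38],20,7⟩) (.leaf ⟨39,[40,39,38,39,40,39,38,39,40,39,38,39,40,39,38],50,7⟩)) (.leaf ⟨39,[35,37,39,35,37,39,35,37,39,35,37],28,0⟩))) (.node (.node (.node (.leaf ⟨38,[35,39,36,38,37,38,35,39,36,38,37],25,10⟩) (.leaf ⟨38,[35,37,39,37,36,36,39,37,35,37,38,37,36,37,35,38,36,39,35,38,37],44,4⟩))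 (.leaf ⟨38,[37,36,36,38,35,35,37,38,37,36,36,38,35,35,37],13,0⟩)) (.node (.leaf ⟨37,[38,37,36,38,35,37,38,37,36,38,35],10,5⟩) (.leaf ⟨35,[38,37,38,35,37,36,38,37,36,37,35,35,38,36,37,35],19,16⟩))))) (.node (.node (.node (.node (.node (.leaf ⟨35,[35,37,35,35,37,35,35,37],5,7⟩) (.leaf ⟨36,[37,38,37,35,39,36,37,35,39,36,38,35,39,36,37,35,39],40,13⟩)) (.leaf ⟨35,[37,39,37,36,36,39,37,35,37,38,37,36,37,35,38,36,39,35,38,37,38],44,5⟩)) (.node (.node (.leaf ⟨37,[36,38,35,38,35,38,36,37,35,38,36,38,36,38,35],17,6⟩) (.leaf ⟨39,[38,40,39,38,36,37,35,38,39,40,38,39,40,38,35,37,36,38,40],52,3⟩)) (.leaf ⟨35,[35,35,37,36,38,36,37,35,35,35,37,36,38,36,37],12,11⟩))) (.node (.node (.node (.leaf ⟨37,[36,37,39,36,37,39,36,37,36,37,39,36,37,39,36],34,13⟩) (.leaf ⟨35,[39,36,37,35,39,36,37,35,39,36,37,35,39,36,37],38,11⟩)) (.leaf ⟨35,[38,35,38,36,37,35,38,36,38,36,38,35,37,36,38],17,9⟩))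 (.node (.leaf ⟨35,[38,35,39,38,36,36,38,35,37,38,35,39,38,36,36,38],33,9⟩) (.leaf ⟨35,[38,35,35,38,39,37,39,38,36,36,38,36,37,36,39,35,37,39],35,4⟩)))) (.node (.node (.node (.node (.leaf ⟨36,[36,38,35,37,38,35,39,38,36,36,38,35,38,35,39,38],33,14⟩) (.leaf ⟨35,[39,36,37,35,39,36,37,35,39,36,37,35,39,36,37],38,3⟩)) (.leaf ⟨35,[37,36,38,39,38,35,37,36,38,39,38],26,2⟩)) (.node (.node (.leaf ⟨37,[35,39,36,38,35,39,36,37,35,39,36,37,38,37,35,39,36],40,2⟩) (.leaf ⟨39,[38,39,40,39,38,39,40,39,38,39,40,39,38,39,40],50,1⟩)) (.leaf ⟨35,[38,36,37,35,38,36,37,35,38,36,37,35,38,36,37],16,15⟩))) (.node (.node (.node (.leaf ⟨39,[38,37,36,38,35,39,36,38,35,37,38,35,39,36,39,35,37,36],41,6⟩) (.leaf ⟨37,[38,37,35,38,39,35,38,36,39,36,37,35,39,35,38,36,39,36,36,38,35],45,17⟩)) (.leaf ⟨38,[37,36,37,35,35,38,36,37,35,35,38,37,38,35,37,36],19,6⟩)) (.node (.leaf ⟨38,[35,38,37,38,36,38,35,35,38,36,37,35,38,36,36],15,3⟩)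 (.leaf ⟨37,[38,36,39,38,39,40,36,36,36,37,35,35,38,35,38,35,35,37,40,39,38,39,35,38,35],53,7⟩)))))) (.node (.node (.node (.node (.node (.node (.leaf ⟨37,[38,37,38,37,38,37,38],7,5⟩) (.leaf ⟨37,[38,35,39,36,39,35,37,36,39,38,37,36,38,35,39,36,38,35],41,16⟩)) (.leaf ⟨38,[36,36,36,39,37,35,38,35,37,38,36,38,37,39,35,37,36,37,35],36,6⟩)) (.node (.node (.leaf ⟨38,[37,36,38,35,37,38,37,36,38,35,37],10,0⟩) (.leaf ⟨40,[35,40,35],47,0⟩)) (.leaf ⟨36,[38,36,37,35,38,35,39,36,38,36,37,35,38,35,39],29,9⟩))) (.node (.node (.node (.leaf ⟨37,[39,36,37,36,37,39,36,37,39,36,37,36,37,39,36],34,10⟩) (.leaf ⟨36,[37,35,39,36,38,35,39,36,37,35,39,36,37,38,37,35,39],40,1⟩)) (.leaf ⟨36,[37,35,38,37,35,37,36,36,38,35,37,36,36,38,37,38],20,3⟩)) (.node (.leaf ⟨36,[36,38,35,38,37,38,36,38,35,35,38,36,37,35,38],15,1⟩) (.leaf ⟨38,[39,38,39,38,39,38,39],23,1⟩)))) (.node (.node (.node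 (.node (.leaf ⟨37,[38,37,35,38,36,37,38,37,35,38,36],9,8⟩) (.leaf ⟨39,[36,37,39,36,37,36,37,39,36,37,39,36,37,36,37],34,0⟩)) (.leaf ⟨39,[35,37,35,39,36,37,36,39,35,37,35,39,36,37,36],37,8⟩)) (.node (.node (.leaf ⟨37,[35,38,36,37,38,37,35,38,36,37,38],9,10⟩) (.leaf ⟨38,[39,40,39,38,39,40,39,38,39,40,39,38,39,40,39],50,2⟩)) (.leaf ⟨36,[37,35,38,36,37,35,38,36,37,35,38,36,37,35,38],16,5⟩))) (.node (.node (.node (.leaf ⟨38,[35,38,35,39,38,36,36,38,35,37,38,35,39,38,36,36],33,8⟩) (.leaf ⟨35,[38,36,37,35,38,36,37,35,38,36,37,35,38,36,37],16,7⟩)) (.leaf ⟨38,[36,37,35,35,35,37,36,38,36,37,35,35,35,37,36],12,0⟩)) (.node (.leaf ⟨37,[35,38,36,37,38,37,35,38,36,37,38],9,4⟩) (.leaf ⟨37,[35,38,39,40,38,39,40,38,35,37,36,38,40,39,38,40,39,38,36],52,9⟩))))) (.node (.node (.node (.node (.node (.leaf ⟨36,[38,35,35,38,36,36,38,35,35,38,36],8,8⟩) (.leaf ⟨36,[38,37,39,35,37,36,37,35,38,36,36,36,39,37,35,38,35,37,38],36,17⟩))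 (.leaf ⟨39,[36,36,37,35,35,39,36,36,37,35,35],24,0⟩)) (.node (.node (.leaf ⟨38,[36,37,35,38,37,35,37,36,36,38,35,37,36,36,38,37],20,2⟩) (.leaf ⟨39,[40,39,38,39,40,39,38,39,40,39,38,39,40,39,38],50,11⟩)) (.leaf ⟨39,[35,37,36,39,38,37,36,38,35,39,36,38,35,37,38,35,39,36],41,2⟩))) (.node (.node (.node (.leaf ⟨36,[39,35,37,36,39,35,37,39,36,39,35,39,37,39],32,10⟩) (.leaf ⟨35,[37,38,36,39,38,39,40,36,36,36,37,35,35,38,35,38,35,35,37,40,39,38,39,35,38],53,6⟩)) (.leaf ⟨35,[38,36,36,38,35,38,37,38,36,38,35,35,38,36,37],15,15⟩)) (.node (.leaf ⟨37,[35,35,35,37,36,38,36,37,35,35,35,37,36,38,36],12,2⟩) (.leaf ⟨35,[38,37,38,35,37,39,37,36,36,39,37,35,37,38,37,36,37,35,38,36,39],44,1⟩)))) (.node (.node (.node (.node (.leaf ⟨37,[35,37,35,37,35,37,35],4,7⟩) (.leaf ⟨36,[37,35,35,35,37,36,38,36,37,35,35,35,37,36,38],12,1⟩)) (.leaf ⟨39,[36,37,35,39,36,37,35,39,36,37,35,39,36,37,35],38,4⟩))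 (.node (.leaf ⟨38,[35,38,36,37,35,38,36,38,36,38,35,37,36,38,35],17,10⟩) (.leaf ⟨38,[39,38,36,37,36,38,35,37,36,37,38,39,38,37,38,39,35,37,39,35],42,9⟩))) (.node (.node (.node (.leaf ⟨36,[37,38,37,35,38,36,37,38,37,35,38],9,7⟩) (.leaf ⟨39,[40,39,36,39,40,35,38,35,38,36,37,35,38,39,35,37,36,39,36,38,36,40,39,35,39,40,39,37],54,7⟩)) (.leaf ⟨37,[38,37,36,36,38,35,35,37,38,37,36,36,38,35,35],13,7⟩)) (.node (.leaf ⟨38,[35,39,36,37,35,39,36,37,38,37,35,39,36,37,35,39,36],40,6⟩) (.leaf ⟨35,[35,38,36,36,37,38,37,35,35,38,36,36,37,38,37],14,6⟩))))))) (.node (.node (.node (.node (.node (.node (.node (.leaf ⟨38,[38],6,1⟩) (.leaf ⟨36,[37,36,37,39,36,37,39,36,37,36,37,39,36,37,39],34,4⟩)) (.leaf ⟨37,[36,38,39,38,35,37,36,38,39,38,35],26,3⟩)) (.node (.node (.leaf ⟨36,[38,35,39,36,38,35,38,35,37,36,39,35,37,36,38],31,5⟩) (.leaf ⟨36,[37,38,39,40,39,40,37,36,37,35,35,37,36,38,36,38,37,35,39,38,36,39,37,38,40,39,40,39,38,36,37],57,7⟩))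 (.leaf ⟨39,[37,39,38,36,36,38,36,37,36,39,35,37,39,35,38,35,35,38],35,9⟩))) (.node (.node (.node (.leaf ⟨37,[35,35,37,35,35,37,35,35],5,3⟩) (.leaf ⟨36,[37,35,39,36,37,35,39,36,37,35,39,36,37,35,39],38,5⟩)) (.leaf ⟨36,[36,39,37,35,37,38,37,36,37,35,38,36,39,35,38,37,38,35,37,39,37],44,9⟩)) (.node (.leaf ⟨38,[35,38,36,36,38,36,38,36,38,36,38,36,38,36,36],18,11⟩) (.leaf ⟨39,[36,37,35,39,36,37,35,39,36,37,35,39,36,37,35],38,12⟩)))) (.node (.node (.node (.node (.leaf ⟨38,[39,38,35,37,36,38,39,38,35,37,36],26,11⟩) (.leaf ⟨35,[39,37,38,37,39,36,37,35,39,37,38,37,39,36,37],39,3⟩)) (.leaf ⟨38,[35,35,38,39,37,39,38,36,36,38,36,37,36,39,35,37,39,35],35,5⟩)) (.node (.node (.leaf ⟨38,[35,37,36,38,37,36,37,35,35,38,36,37,35,35,38,37],19,2⟩) (.leaf ⟨39,[38,39,40,39,38,39,40,39,38,39,40,39,38,39,40],50,13⟩)) (.leaf ⟨37,[36,38,35,39,36,38,35,37,38,35,39,36,39,35,37,36,39,38],41,8⟩)))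 (.node (.node (.node (.leaf ⟨37,[35,38,35,39,36,38,36,37,35,38,35,39,36,38,36],29,12⟩) (.leaf ⟨35,[39,36,37,35,39,36,37,35,39,36,37,35,39,36,37],38,7⟩)) (.leaf ⟨36,[36,38,36,37,36,39,35,37,39,35,38,35,35,38,39,37,39,38],35,13⟩)) (.node (.leaf ⟨35,[38,36,38,36,38,35,37,36,38,35,38,35,38,36,37],17,15⟩) (.leaf ⟨39,[35,35,39,35,39,36,36,36,37,35,35,35,39,36,39,36,36,37,39,37],43,8⟩))))) (.node (.node (.node (.node (.node (.leaf ⟨35,[35,39,36,36,37,35,35,39,36,36,37],24,10⟩) (.leaf ⟨37,[38,37,35,35,38,36,36,37,38,37,35,35,38,36,36],14,3⟩)) (.leaf ⟨39,[37,39,37,39,37,39,37],22,4⟩)) (.node (.node (.leaf ⟨38,[36,36,37,38,37,35,35,38,36,36,37,38,37,35,35],14,8⟩) (.leaf ⟨38,[39,40,39,38,39,40,39,38,39,40,39,38,39,40,39],50,14⟩)) (.leaf ⟨37,[38,37,39,36,37,35,39,37,38,37,39,36,37,35,39],39,5⟩))) (.node (.node (.node (.leaf ⟨39,[35,39,37,39,36,39,35,37,36,39,35,37,39,36],32,5⟩)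 (.leaf ⟨37,[38,35,37,39,37,36,36,39,37,35,37,38,37,36,37,35,38,36,39,35,38],44,3⟩)) (.leaf ⟨38,[36,38,37,39,35,37,36,37,35,38,36,36,36,39,37,35,38,35,37],36,16⟩)) (.node (.leaf ⟨36,[38,35,35,38,36,37,35,38,36,36,38,35,38,37,38],15,8⟩) (.leaf ⟨38,[36,39,35,38,37,38,35,37,39,37,36,36,39,37,35,37,38,37,36,37,35],44,20⟩)))) (.node (.node (.node (.node (.leaf ⟨39,[37,36,39,35,37,39,37,36,39,35,37],27,6⟩) (.leaf ⟨36,[37,35,38,36,39,35,38,37,38,35,37,39,37,36,36,39,37,35,37,38,37],44,17⟩)) (.leaf ⟨37,[39,36,39,35,37,36,39,35,37,39,36,39,35,39],32,8⟩)) (.node (.node (.leaf ⟨38,[35,39,36,38,37,38,35,39,36,38,37],25,4⟩) (.leaf ⟨39,[40,38,36,39,38,39,35,38,39,36,38,35,39,40,39,40,39,38,40,39,40,38,39,40],51,11⟩)) (.leaf ⟨36,[39,35,37,35,39,36,37,36,39,35,37,35,39,36,37],37,15⟩))) (.node (.node (.node (.leaf ⟨38,[35,35,38,36,38,36,38,35,35,38,36,38,36],11,11⟩) (.leaf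 ⟨39,[38,39,40,36,36,36,37,35,35,38,35,38,35,35,37,40,39,38,39,35,38,35,37,38,36],53,10⟩)) (.leaf ⟨35,[39,36,38,37,38,35,39,36,38,37,38],25,5⟩)) (.node (.leaf ⟨37,[36,39,38,37,36,38,35,39,36,38,35,37,38,35,39,36,39,35],41,4⟩) (.leaf ⟨39,[38,39,38,39,38,39,38],23,2⟩)))))) (.node (.node (.node (.node (.node (.node (.leaf ⟨35,[35,35,35,35,35,35],3,5⟩) (.leaf ⟨35,[35,38,36,36,37,38,37,35,35,38,36,36,37,38,37],14,14⟩)) (.leaf ⟨38,[36,37,36,38,35,37,36,37,38,39,38,37,38,39,35,37,39,35,38,39],42,11⟩)) (.node (.node (.leaf ⟨36,[38,36,37,35,35,35,37,36,38,36,37,35,35,35,37],12,7⟩) (.leaf ⟨38,[40,38,40],49,1⟩)) (.leaf ⟨39,[36,37,36,39,35,37,35,39,36,37,36,39,35,37,35],37,12⟩))) (.node (.node (.node (.leaf ⟨37,[35,39,37,38,37,39,36,37,35,39,37,38,37,39,36],39,10⟩) (.leaf ⟨36,[39,36,36,38,35,37,38,37,35,38,39,35,38,36,39,36,37,35,39,35,38],45,11⟩)) (.leaf ⟨37,[39,36,37,36,37,39,36,37,39,36,37,36,37,39,36],34,2⟩))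 (.node (.leaf ⟨36,[38,35,37,38,35,39,38,36,36,38,35,38,35,39,38,36],33,15⟩) (.leaf ⟨39,[36,38,36,37,35,38,35,39,36,38,36,37,35,38,35],29,8⟩)))) (.node (.node (.node (.node (.leaf ⟨35,[38,36,38,36,38,35,35,38,36,38,36,38,35],11,6⟩) (.leaf ⟨38,[39,40,36,36,36,37,35,35,38,35,38,35,35,37,40,39,38,39,35,38,35,37,38,36,39],53,11⟩)) (.leaf ⟨37,[39,36,37,39,36,37,36,37,39,36,37,39,36,37,36],34,7⟩)) (.node (.node (.leaf ⟨38,[35,39,38,36,36,38,35,38,35,39,38,36,36,38,35,37],33,2⟩) (.leaf ⟨40,[39,38,36,37,35,38,39,40,38,39,40,38,35,37,36,38,40,39,38],52,5⟩)) (.leaf ⟨35,[38,36,36,38,36,38,36,38,36,38,36,38,36,36,38],18,12⟩))) (.node (.node (.node (.leaf ⟨35,[38,36,36,36,39,37,35,38,35,37,38,36,38,37,39,35,37,36,37],36,5⟩) (.leaf ⟨39,[36,36,37,39,37,39,35,35,39,35,39,36,36,36,37,35,35,35,39,36],43,2⟩)) (.leaf ⟨38,[37,38,36,38,35,35,38,36,37,35,38,36,36,38,35],15,5⟩))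 (.node (.leaf ⟨39,[36,38,37,38,35,39,36,38,37,38,35],25,0⟩) (.leaf ⟨35,[38,39,40,38,39,40,38,35,37,36,38,40,39,38,40,39,38,36,37],52,10⟩))))) (.node (.node (.node (.node (.node (.leaf ⟨37,[38,35,39,36,38,37,38,35,39,36,38],25,9⟩) (.leaf ⟨36,[37,38,37,35,35,38,36,36,37,38,37,35,35,38,36],14,2⟩)) (.leaf ⟨36,[36,37,35,35,39,36,36,37,35,35,39],24,1⟩)) (.node (.node (.leaf ⟨38,[37,38,35,37,36,38,37,36,37,35,35,38,36,37,35,35],19,0⟩) (.leaf ⟨36,[39,40,35,38,35,38,36,37,35,38,39,35,37,36,39,36,38,36,40,39,35,39,40,39,37,39,40,39],54,10⟩)) (.leaf ⟨35,[39,38,36,36,38,35,37,38,35,39,38,36,36,38,35,38],33,11⟩))) (.node (.node (.node (.leaf ⟨35,[39,36,36,36,37,35,35,35,39,36,39,36,36,37,39,37,39,35,35,39],43,12⟩) (.leaf ⟨36,[37,35,39,36,37,35,39,36,37,35,39,36,37,35,39],38,9⟩)) (.leaf ⟨35,[39,36,38,36,37,35,38,35,39,36,38,36,37,35,38],29,7⟩)) (.node (.leaf ⟨37,[38,36,37,35,38,37,35,37,36,36,38,35,37,36,36,38],20,1⟩)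 (.leaf ⟨35,[38,35,39,36,38,36,37,35,38,35,39,36,38,36,37],29,5⟩)))) (.node (.node (.node (.node (.leaf ⟨37,[35,37,35,37,35,37,35],4,1⟩) (.leaf ⟨37,[39,37,39,35,35,39,35,39,36,36,36,37,35,35,35,39,36,39,36,36],43,5⟩)) (.leaf ⟨37,[38,39,38,37,38,39,35,37,39,35,38,39,38,36,37,36,38,35,37,36],42,19⟩)) (.node (.leaf ⟨35,[35,37,38,37,36,36,38,35,35,37,38,37,36,36,38],13,5⟩) (.leaf ⟨35,[39,38,36,36,38,35,38,35,39,38,36,36,38,35,37,38],33,3⟩))) (.node (.node (.node (.leaf ⟨37,[35,38,36,37,35,38,36,37,35,38,36,37,35,38,36],16,6⟩) (.leaf ⟨40,[39,36,36,38,39,40,39,38,39,40,39,35,35,39,40,35,38,37,38,35,39,37,38,39,38,37,36,36],55,0⟩)) (.leaf ⟨38,[35,37,36,38,39,38,35,37,36,38,39],26,1⟩)) (.node (.leaf ⟨37,[36,39,35,37,36,38,36,38,35,39,36,38,35,38,35],31,14⟩) (.leaf ⟨35,[37,36,38,35,38,35,38,36,37,35,38,36,38,36,38],17,5⟩)))))))) (.node (.node (.node (.node (.node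 (.node (.node (.node (.leaf ⟨35,[36],0,0⟩) (.leaf ⟨38,[35,37,38,36,38,37,39,35,37,36,37,35,38,36,36,36,39,37,35],36,13⟩)) (.leaf ⟨35,[37,36,39,38,37,36,38,35,39,36,38,35,37,38,35,39,36,39],41,3⟩)) (.node (.node (.leaf ⟨36,[37,35,35,38,37,38,35,37,36,38,37,36,37,35,35,38],19,13⟩) (.leaf ⟨35,[38,37,38,36,39,40,39,40,36,36,37,36,38,37,38,36,36,38,35,38,37,39,37,38,37,39,40,39,40,39],56,4⟩)) (.leaf ⟨36,[37,38,37,35,35,38,36,36,37,38,37,35,35,38,36],14,10⟩))) (.node (.node (.node (.leaf ⟨37,[39,37,36,39,35,37,39,37,36,39,35],27,5⟩) (.leaf ⟨39,[37,39,35,35,39,35,39,36,36,36,37,35,35,35,39,36,39,36,36,37],43,6⟩)) (.leaf ⟨38,[39,35,37,39,35,38,39,38,36,37,36,38,35,37,36,37,38,39,38,37],42,3⟩)) (.node (.leaf ⟨38,[36,38,35,35,38,36,38,36,38,35,35,38,36],11,2⟩) (.leaf ⟨38,[37,38,35,37,39,37,36,36,39,37,35,37,38,37,36,37,35,38,36,39,35],44,2⟩)))) (.node (.node (.node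 (.node (.leaf ⟨37,[39,35,37,39,35,37,39,35,37,39,35],28,8⟩) (.leaf ⟨35,[38,36,37,35,38,36,38,36,38,35,37,36,38,35,38],17,11⟩)) (.leaf ⟨39,[36,39,35,39,37,39,36,39,35,37,36,39,35,37],32,3⟩)) (.node (.node (.leaf ⟨37,[36,38,36,37,35,35,35,37,36,38,36,37,35,35,35],12,14⟩) (.leaf ⟨39,[40,39,38,39,40,39,38,39,40,39,38,39,40,39,38],50,15⟩)) (.leaf ⟨38,[35,38,35,38,36,37,35,38,36,38,36,38,35,37,36],17,8⟩))) (.node (.node (.node (.leaf ⟨38,[36,37,38,37,35,38,36,37,38,37,35],9,6⟩) (.leaf ⟨35,[38,36,39,36,37,35,39,35,38,36,39,36,36,38,35,37,38,37,35,38,39],45,1⟩)) (.leaf ⟨39,[38,35,37,36,38,39,38,35,37,36,38],26,6⟩)) (.node (.leaf ⟨36,[38,35,35,38,36,38,36,38,35,35,38,36,38],11,3⟩) (.leaf ⟨36,[39,36,37,35,39,35,38,36,39,36,36,38,35,37,38,37,35,38,39,35,38],45,3⟩))))) (.node (.node (.node (.node (.node (.leaf ⟨35,[35,38,36,36,38,35,35,38,36,36,38],8,10⟩) (.leaf ⟨39,[36,37,35,39,36,37,35,39,36,37,35,39,36,37,35],38,0⟩))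 (.leaf ⟨37,[35,39,35,38,36,39,36,36,38,35,37,38,37,35,38,39,35,38,36,39,36],45,6⟩)) (.node (.node (.leaf ⟨37,[35,35,37,35,35,37,35,35],5,0⟩) (.leaf ⟨39,[40,38,39,40,38,35,37,36,38,40,39,38,40,39,38,36,37,35,38],52,12⟩)) (.leaf ⟨38,[37,35,37,36,36,38,35,37,36,36,38,37,38,36,37,35],20,6⟩))) (.node (.node (.node (.leaf ⟨35,[37,35,39,36,37,36,39,35,37,35,39,36,37,36,39],37,1⟩) (.leaf ⟨37,[35,38,36,39,35,38,37,38,35,37,39,37,36,36,39,37,35,37,38,37,36],44,18⟩)) (.leaf ⟨38,[36,38,36,36,38,35,38,36,36,38,36,38,36,38,36],18,6⟩)) (.node (.leaf ⟨36,[38,37,38,36,37,35,38,37,35,37,36,36,38,35,37,36],20,16⟩) (.leaf ⟨35,[38,36,39,36,36,38,35,37,38,37,35,38,39,35,38,36,39,36,37,35,39],45,9⟩)))) (.node (.node (.node (.node (.leaf ⟨39,[37,39,36,39,35,37,36,39,35,37,39,36,39,35],32,7⟩) (.leaf ⟨38,[39,38,37,38,39,35,37,39,35,38,39,38,36,37,36,38,35,37,36,37],42,20⟩)) (.leaf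 ⟨35,[35,35,37,36,38,36,37,35,35,35,37,36,38,36,37],12,3⟩)) (.node (.node (.leaf ⟨36,[38,35,39,36,38,35,37,38,35,39,36,39,35,37,36,39,38,37],41,9⟩) (.leaf ⟨39,[40,39,38,39,40,39,38,39,40,39,38,39,40,39,38],50,3⟩)) (.leaf ⟨39,[36,37,36,39,35,37,35,39,36,37,36,39,35,37,35],37,4⟩))) (.node (.node (.node (.leaf ⟨36,[36,38,35,35,38,36,36,38,35,35,38],8,1⟩) (.leaf ⟨36,[38,35,37,36,37,38,39,38,37,38,39,35,37,39,35,38,39,38,36,37],42,14⟩)) (.leaf ⟨37,[35,38,35,37,38,36,38,37,39,35,37,36,37,35,38,36,36,36,39],36,11⟩)) (.node (.leaf ⟨35,[38,35,39,36,38,36,37,35,38,35,39,36,38,36,37],29,13⟩) (.leaf ⟨39,[35,38,35,37,38,36,39,38,39,40,36,36,36,37,35,35,38,35,38,35,35,37,40,39,38],53,3⟩)))))) (.node (.node (.node (.node (.node (.node (.leaf ⟨38,[39,38,39,38,39,38,39],23,5⟩) (.leaf ⟨37,[39,36,37,35,39,37,38,37,39,36,37,35,39,37,38],39,15⟩)) (.leaf ⟨35,[38,37,38,36,38,35,35,38,36,37,35,38,36,36,38],15,4⟩))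 (.node (.node (.leaf ⟨38,[36,37,35,38,36,38,36,38,35,37,36,38,35,38,35],17,12⟩) (.leaf ⟨40,[38,40,38],49,2⟩)) (.leaf ⟨35,[38,35,37,38,36,38,37,39,35,37,36,37,35,38,36,36,36,39,37],36,12⟩))) (.node (.node (.node (.leaf ⟨37,[36,39,35,37,35,39,36,37,36,39,35,37,35,39,36],37,14⟩) (.leaf ⟨39,[36,37,35,39,36,37,38,37,35,39,36,37,35,39,36,38,35],40,8⟩)) (.leaf ⟨35,[37,39,37,36,39,35,37,39,37,36,39],27,4⟩)) (.node (.leaf ⟨38,[35,35,38,36,36,38,35,35,38,36,36],8,9⟩) (.leaf ⟨38,[36,38,36,38,35,37,36,38,35,38,35,38,36,37,35],17,0⟩)))) (.node (.node (.node (.node (.leaf ⟨36,[38,35,37,38,37,36,38,35,37,38,37],10,8⟩) (.leaf ⟨37,[36,38,37,38,35,37,39,37,36,38,37,38,35,37,39],30,9⟩)) (.leaf ⟨36,[38,37,38,35,37,39,37,36,38,37,38,35,37,39,37],30,10⟩)) (.node (.node (.leaf ⟨35,[37,39,35,37,39,35,37,39,35,37,39],28,10⟩) (.leaf ⟨39,[38,40,39,40,38,39,40,39,40,38,36,39,38,39,35,38,39,36,38,35,39,40,39,40],51,3⟩))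 (.leaf ⟨38,[35,37,36,38,35,38,35,38,36,37,35,38,36,38,36],17,4⟩))) (.node (.node (.node (.leaf ⟨35,[35,38,39,37,39,38,36,36,38,36,37,36,39,35,37,39,35,38],35,6⟩) (.leaf ⟨36,[37,35,39,36,37,35,39,36,37,35,39,36,37,35,39],38,1⟩)) (.leaf ⟨37,[35,35,38,37,38,35,37,36,38,37,36,37,35,35,38,36],19,14⟩)) (.node (.leaf ⟨35,[35,38,36,36,38,35,35,38,36,36,38],8,4⟩) (.leaf ⟨37,[36,38,40,39,38,40,39,38,36,37,35,38,39,40,38,39,40,38,35],52,19⟩))))) (.node (.node (.node (.node (.node (.leaf ⟨37,[35,37,35,37,35,37,35],4,3⟩) (.leaf ⟨38,[36,36,38,36,38,36,38,36,38,36,38,36,36,38,35],18,13⟩)) (.leaf ⟨39,[35,37,39,37,36,39,35,37,39,37,36],27,9⟩)) (.node (.node (.leaf ⟨36,[38,35,38,36,36,38,36,38,36,38,36,38,36,38,36],18,10⟩) (.leaf ⟨39,[35,39,40,39,37,39,40,39,36,39,40,35,38,35,38,36,37,35,38,39,35,37,36,39,36,38,36,40],54,1⟩)) (.leaf ⟨39,[36,38,35,37,38,35,39,36,39,35,37,36,39,38,37,36,38,35],41,12⟩)))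 (.node (.node (.node (.leaf ⟨39,[35,37,36,39,35,37,39,36,39,35,39,37,39,36],32,11⟩) (.leaf ⟨39,[36,36,38,35,37,38,37,35,38,39,35,38,36,39,36,37,35,39,35,38,36],45,12⟩)) (.leaf ⟨39,[35,37,36,37,35,38,36,36,36,39,37,35,38,35,37,38,36,38,37],36,0⟩)) (.node (.leaf ⟨37,[38,37,38,37,38,37,38],7,1⟩) (.leaf ⟨35,[37,36,39,35,37,39,36,39,35,39,37,39,36,39],32,12⟩)))) (.node (.node (.node (.node (.leaf ⟨37,[35,35,39,36,36,37,35,35,39,36,36],24,9⟩) (.leaf ⟨35,[39,36,37,35,39,36,37,35,39,36,37,35,39,36,37],38,15⟩)) (.leaf ⟨36,[39,35,37,35,39,36,37,36,39,35,37,35,39,36,37],37,7⟩)) (.node (.leaf ⟨38,[35,35,38,36,36,38,35,35,38,36,36],8,3⟩) (.leaf ⟨35,[39,35,39,36,36,36,37,35,35,35,39,36,39,36,36,37,39,37,39,35],43,10⟩))) (.node (.node (.node (.leaf ⟨35,[35,37,38,37,36,36,38,35,35,37,38,37,36,36,38],13,13⟩) (.leaf ⟨40,[35,38,37,38,35,39,37,38,39,38,37,36,36,40,39,36,36,38,39,40,39,38,39,40,39,35,35,39],55,15⟩))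 (.leaf ⟨36,[36,39,37,35,38,35,37,38,36,38,37,39,35,37,36,37,35,38,36],36,8⟩)) (.node (.leaf ⟨35,[38,36,37,35,38,36,36,38,35,38,37,38,36,38,35],15,11⟩) (.leaf ⟨36,[36,37,38,37,35,35,38,36,36,37,38,37,35,35,38],14,9⟩))))))) (.node (.node (.node (.node (.node (.node (.node (.leaf ⟨35,[37,35,37,35,37,35,37],4,4⟩) (.leaf ⟨38,[35,39,36,39,35,37,36,39,38,37,36,38,35,39,36,38,35,37],41,17⟩)) (.leaf ⟨35,[39,36,38,36,37,35,38,35,39,36,38,36,37,35,38],29,15⟩)) (.node (.node (.leaf ⟨36,[36,38,35,35,38,36,36,38,35,35,38],8,7⟩) (.leaf ⟨37,[35,37,39,40,39,40,36,36,37,35,38,36,37,36,37,35,35,39,35,37,38,39,35,39,40,39,37,39,35,38,39],58,7⟩)) (.leaf ⟨36,[37,35,39,37,38,37,39,36,37,35,39,37,38,37,39],39,1⟩))) (.node (.node (.node (.leaf ⟨39,[36,39,35,37,36,39,35,37,39,36,39,35,39,37],32,9⟩) (.leaf ⟨39,[36,36,36,37,35,35,35,39,36,39,36,36,37,39,37,39,35,35,39,35],43,13⟩))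 (.leaf ⟨39,[35,37,39,37,36,39,35,37,39,37,36],27,3⟩)) (.node (.leaf ⟨38,[35,35,37,38,37,36,36,38,35,35,37,38,37,36,36],13,12⟩) (.leaf ⟨35,[39,35,38,36,39,36,36,38,35,37,38,37,35,38,39,35,38,36,39,36,37],45,7⟩)))) (.node (.node (.node (.node (.leaf ⟨36,[38,39,38,35,37,36,38,39,38,35,37],26,10⟩) (.leaf ⟨36,[37,35,38,36,37,35,38,36,37,35,38,36,37,35,38],16,13⟩)) (.leaf ⟨35,[35,39,36,36,37,35,35,39,36,36,37],24,4⟩)) (.node (.node (.leaf ⟨37,[36,36,38,37,38,36,37,35,38,37,35,37,36,36,38,35],20,14⟩) (.leaf ⟨40,[39,38,40,39,38,36,37,35,38,39,40,38,39,40,38,35,37,36,38],52,2⟩)) (.leaf ⟨38,[36,37,35,38,35,39,36,38,36,37,35,38,35,39,36],29,2⟩))) (.node (.node (.node (.leaf ⟨38,[35,37,36,39,35,37,36,38,36,38,35,39,36,38,35],31,12⟩) (.leaf ⟨38,[36,37,35,38,36,37,35,38,36,37,35,38,36,37,35],16,12⟩)) (.leaf ⟨36,[38,36,38,36,38,36,38,36,38,36,36,38,35,38,36],18,15⟩))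 (.node (.leaf ⟨35,[35,38,36,38,36,38,35,35,38,36,38,36,38],11,5⟩) (.leaf ⟨38,[39,40,39,38,39,40,39,38,39,40,39,38,39,40,39],50,10⟩))))) (.node (.node (.node (.node (.node (.leaf ⟨35,[37,39,35,37,39,35,37,39,35,37,39],28,7⟩) (.leaf ⟨37,[35,38,36,37,35,38,36,37,35,38,36,37,35,38,36],16,2⟩)) (.leaf ⟨39,[37,36,39,35,37,39,37,36,39,35,37],27,0⟩)) (.node (.node (.leaf ⟨37,[38,37,38,37,38,37,38],7,7⟩) (.leaf ⟨40,[38,39,40,38,35,37,36,38,40,39,38,40,39,38,36,37,35,38,39],52,13⟩)) (.leaf ⟨35,[39,36,37,36,39,35,37,35,39,36,37,36,39,35,37],37,11⟩))) (.node (.node (.node (.leaf ⟨37,[35,39,36,37,36,39,35,37,35,39,36,37,36,39,35],37,2⟩) (.leaf ⟨38,[35,37,38,37,35,38,39,35,38,36,39,36,37,35,39,35,38,36,39,36,36],45,15⟩)) (.leaf ⟨35,[37,36,37,35,38,36,36,36,39,37,35,38,35,37,38,36,38,37,39],36,1⟩)) (.node (.leaf ⟨36,[38,35,35,38,36,38,36,38,35,35,38,36,38],11,10⟩) (.leaf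 ⟨35,[37,38,37,36,37,35,38,36,39,35,38,37,38,35,37,39,37,36,36,39,37],44,13⟩)))) (.node (.node (.node (.node (.leaf ⟨35,[40,35,40],47,3⟩) (.leaf ⟨37,[38,37,36,37,35,38,36,39,35,38,37,38,35,37,39,37,36,36,39,37,35],44,14⟩)) (.leaf ⟨39,[36,38,37,38,35,39,36,38,37,38,35],25,6⟩)) (.node (.leaf ⟨38,[35,37,39,37,36,38,37,38,35,37,39,37,36,38,37],30,5⟩) (.leaf ⟨39,[38,37,38,39,35,37,39,35,38,39,38,36,37,36,38,35,37,36,37,38],42,0⟩))) (.node (.node (.node (.leaf ⟨36,[38,39,38,35,37,36,38,39,38,35,37],26,4⟩) (.leaf ⟨35,[37,38,37,35,38,39,35,38,36,39,36,37,35,39,35,38,36,39,36,36,38],45,16⟩)) (.leaf ⟨36,[38,35,38,35,37,36,39,35,37,36,38,36,38,35,39],31,9⟩)) (.node (.leaf ⟨38,[35,39,38,36,36,38,35,37,38,35,39,38,36,36,38,35],33,10⟩) (.leaf ⟨38,[35,39,36,38,36,37,35,38,35,39,36,38,36,37,35],29,14⟩)))))) (.node (.node (.node (.node (.node (.node (.leaf ⟨35,[37,35,35,37,35,35,37,35],5,5⟩)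 (.leaf ⟨37,[39,35,37,36,37,35,38,36,36,36,39,37,35,38,35,37,38,36,38],36,19⟩)) (.leaf ⟨35,[37,39,35,38,39,38,36,37,36,38,35,37,36,37,38,39,38,37,38,39],42,5⟩)) (.node (.node (.leaf ⟨35,[35,37,36,38,36,37,35,35,35,37,36,38,36,37,35],12,12⟩) (.leaf ⟨40,[37,40,37],48,0⟩)) (.leaf ⟨36,[36,38,35,35,37,38,37,36,36,38,35,35,37,38,37],13,2⟩))) (.node (.node (.node (.leaf ⟨39,[35,37,39,35,37,39,35,37,39,35,37],28,6⟩) (.leaf ⟨37,[39,36,37,39,36,37,36,37,39,36,37,39,36,37,36],34,15⟩)) (.leaf ⟨36,[39,37,35,38,35,37,38,36,38,37,39,35,37,36,37,35,38,36,36],36,9⟩)) (.node (.leaf ⟨35,[37,36,38,37,36,37,35,35,38,36,37,35,35,38,37,38],19,3⟩) (.leaf ⟨39,[35,38,39,38,36,37,36,38,35,37,36,37,38,39,38,37,38,39,35,37],42,7⟩)))) (.node (.node (.node (.node (.leaf ⟨36,[37,35,38,35,39,36,38,36,37,35,38,35,39,36,38],29,11⟩) (.leaf ⟨36,[39,35,38,37,38,35,37,39,37,36,36,39,37,35,37,38,37,36,37,35,38],44,21⟩))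 (.leaf ⟨35,[37,36,38,36,37,35,35,35,37,36,38,36,37,35,35],12,13⟩)) (.node (.node (.leaf ⟨37,[35,38,36,37,35,38,36,37,35,38,36,37,35,38,36],16,10⟩) (.leaf ⟨40,[38,39,40,39,40,38,36,39,38,39,35,38,39,36,38,35,39,40,39,40,39,38,40,39],51,7⟩)) (.leaf ⟨36,[37,35,38,35,39,36,38,36,37,35,38,35,39,36,38],29,3⟩))) (.node (.node (.node (.leaf ⟨38,[37,35,39,36,37,35,39,36,38,35,39,36,37,35,39,36,37],40,15⟩) (.leaf ⟨36,[38,35,37,38,37,35,38,39,35,38,36,39,36,37,35,39,35,38,36,39,36],45,14⟩)) (.leaf ⟨39,[38,36,36,38,35,37,38,35,39,38,36,36,38,35,38,35],33,12⟩)) (.node (.leaf ⟨39,[38,36,36,38,35,38,35,39,38,36,36,38,35,37,38,35],33,4⟩) (.leaf ⟨35,[37,36,38,40,39,38,40,39,38,36,37,35,38,39,40,38,39,40,38],52,18⟩))))) (.node (.node (.node (.node (.node (.leaf ⟨35,[39,36,36,37,35,35,39,36,36,37,35],24,11⟩) (.leaf ⟨38,[35,37,36,38,40,39,38,40,39,38,36,37,35,38,39,40,38,39,40],52,17⟩))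 (.leaf ⟨35,[37,39,36,39,35,39,37,39,36,39,35,37,36,39],32,1⟩)) (.node (.node (.leaf ⟨38,[37,38,37,38,37,38,37],7,0⟩) (.leaf ⟨40,[39,38,39,40,39,35,35,39,40,35,38,37,38,35,39,37,38,39,38,37,36,36,40,39,36,36,38,39],55,6⟩)) (.leaf ⟨35,[37,36,39,35,37,36,38,36,38,35,39,36,38,35,38],31,13⟩))) (.node (.node (.node (.leaf ⟨38,[37,38,37,38,37,38,37],7,6⟩) (.leaf ⟨36,[37,36,39,35,37,39,35,38,35,35,38,39,37,39,38,36,36,38],35,16⟩)) (.leaf ⟨37,[35,38,36,36,36,39,37,35,38,35,37,38,36,38,37,39,35,37,36],36,4⟩)) (.node (.leaf ⟨38,[35,35,38,36,38,36,38,35,35,38,36,38,36],11,4⟩) (.leaf ⟨37,[36,37,35,35,38,36,37,35,35,38,37,38,35,37,36,38],19,7⟩)))) (.node (.node (.node (.node (.leaf ⟨39,[35,37,39,35,37,39,35,37,39,35,37],28,9⟩) (.leaf ⟨36,[37,36,39,35,37,35,39,36,37,36,39,35,37,35,39],37,5⟩)) (.leaf ⟨37,[36,36,38,35,35,37,38,37,36,36,38,35,35,37,38],13,9⟩)) (.node (.leaf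 ⟨35,[38,35,37,36,39,35,37,36,38,36,38,35,39,36,38],31,11⟩) (.leaf ⟨37,[39,37,39,37,39,37,39],22,1⟩))) (.node (.node (.node (.leaf ⟨35,[38,36,37,38,37,35,38,36,37,38,37],9,5⟩) (.leaf ⟨39,[40,36,36,37,36,38,37,38,36,36,38,35,38,37,39,37,38,37,39,40,39,40,39,35,38,37,38,36,39,40],56,11⟩)) (.leaf ⟨37,[38,37,36,36,38,35,35,37,38,37,36,36,38,35,35],13,15⟩)) (.node (.leaf ⟨36,[36,36,39,37,35,38,35,37,38,36,38,37,39,35,37,36,37,35,38],36,7⟩) (.leaf ⟨37,[39,37,36,38,37,38,35,37,39,37,36,38,37,38,35],30,15⟩))))))))))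
noncomputable def tc0 : TCL := ⟨[35,36,37,38,39,40], [35,36,37,38,39], 69615, 44, 0x3fffff, 22, 0x3ff,
  fun a x => appB tc0T (.leaf 0) 0xfffffffffff a x, fun x => lk2 tc0d 0xfffffffffff x, tc0r⟩
noncomputable def tc1T : List (Tr ℕ) := [.leaf 0,.leaf 0,.leaf 0,.leaf 0,.leaf 0,.leaf 0,.leaf 0,.leaf 0,.leaf 0,.leaf 0,.leaf 0,.leaf 0,.leaf 0,.leaf 0,.leaf 0,.leaf 0,.leaf 0,.leaf 0,.leaf 0,.leaf 0,.leaf 0,.leaf 0,.leaf 0,.leaf 0,.leaf 0,.leaf 0,.leaf 0,.leaf 0,.leaf 0,.leaf 0,.leaf 0,.leaf 0,.leaf 0,.leaf 0,.leaf 0,tc1t35,tc1t36,tc1t37,tc1t38,tc1t39]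
noncomputable def tc1r : Tr Rule := (.node (.node (.node (.node (.node (.node (.node (.node (.node (.node (.leaf ⟨39,[39],21,1⟩) (.leaf ⟨36,[38,35,39,36,38,35,37,38,35,39,36,39,35,37,36,39,38,37],41,9⟩)) (.leaf ⟨37,[36,37,39,36,37,39,36,37,36,37,39,36,37,39,36],34,5⟩)) (.node (.leaf ⟨38,[36,36,38,35,37,38,35,39,38,36,36,38,35,38,35,39],33,13⟩) (.leaf ⟨39,[37,39,38,36,36,38,36,37,36,39,35,37,39,35,38,35,35,38],35,9⟩))) (.node (.node (.node (.leaf ⟨39,[35,37,39,35,37,39,35,37,39,35,37],28,6⟩) (.leaf ⟨37,[35,38,36,39,35,38,37,38,35,37,39,37,36,36,39,37,35,37,38,37,36],44,18⟩)) (.leaf ⟨37,[36,38,37,38,35,37,39,37,36,38,37,38,35,37,39],30,1⟩)) (.node (.leaf ⟨35,[37,39,35,38,35,35,38,39,37,39,38,36,36,38,36,37,36,39],35,1⟩) (.leaf ⟨35,[37,38,37,36,36,38,35,35,37,38,37,36,36,38,35],13,6⟩)))) (.node (.node (.node (.node (.leaf ⟨38,[37,38,37,38,37,38,37],7,4⟩)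 (.leaf ⟨37,[35,38,36,37,35,38,36,37,35,38,36,37,35,38,36],16,2⟩)) (.leaf ⟨35,[37,39,35,38,39,38,36,37,36,38,35,37,36,37,38,39,38,37,38,39],42,5⟩)) (.node (.leaf ⟨38,[35,38,37,38,36,38,35,35,38,36,37,35,38,36,36],15,3⟩) (.leaf ⟨38,[36,37,35,38,36,37,35,38,36,37,35,38,36,37,35],16,12⟩))) (.node (.node (.leaf ⟨38,[35,38,36,36,38,36,38,36,38,36,38,36,38,36,36],18,11⟩) (.leaf ⟨36,[39,37,35,38,35,37,38,36,38,37,39,35,37,36,37,35,38,36,36],36,9⟩)) (.node (.leaf ⟨36,[36,38,35,35,38,36,36,38,35,35,38],8,1⟩) (.leaf ⟨36,[39,35,38,37,38,35,37,39,37,36,36,39,37,35,37,38,37,36,37,35,38],44,21⟩))))) (.node (.node (.node (.node (.node (.leaf ⟨35,[35,38,36,36,38,35,35,38,36,36,38],8,10⟩) (.leaf ⟨37,[35,39,37,38,37,39,36,37,35,39,37,38,37,39,36],39,2⟩)) (.leaf ⟨38,[35,39,36,38,35,37,38,35,39,36,39,35,37,36,39,38,37,36],41,10⟩)) (.node (.leaf ⟨37,[35,35,38,36,37,35,35,38,37,38,35,37,36,38,37,36],19,9⟩)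 (.leaf ⟨37,[36,38,37,38,35,37,39,37,36,38,37,38,35,37,39],30,9⟩))) (.node (.node (.node (.leaf ⟨35,[38,36,37,35,35,38,37,38,35,37,36,38,37,36,37,35],19,11⟩) (.leaf ⟨39,[36,37,35,39,35,38,36,39,36,36,38,35,37,38,37,35,38,39,35,38,36],45,4⟩)) (.leaf ⟨39,[36,39,35,37,36,39,38,37,36,38,35,39,36,38,35,37,38,35],41,0⟩)) (.node (.leaf ⟨35,[35,38,36,38,36,38,35,35,38,36,38,36,38],11,5⟩) (.leaf ⟨37,[39,35,35,39,35,39,36,36,36,37,35,35,35,39,36,39,36,36,37,39],43,7⟩)))) (.node (.node (.node (.node (.leaf ⟨35,[39,36,38,37,38,35,39,36,38,37,38],25,5⟩) (.leaf ⟨37,[35,39,36,37,35,39,36,37,35,39,36,37,35,39,36],38,2⟩)) (.leaf ⟨37,[36,38,36,37,35,35,35,37,36,38,36,37,35,35,35],12,6⟩)) (.node (.leaf ⟨36,[38,36,38,35,39,36,38,35,38,35,37,36,39,35,37],31,3⟩) (.leaf ⟨38,[36,36,37,38,37,35,35,38,36,36,37,38,37,35,35],14,8⟩))) (.node (.node (.leaf ⟨36,[36,38,35,37,38,35,39,38,36,36,38,35,38,35,39,38],33,14⟩)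 (.leaf ⟨38,[36,37,35,38,36,37,35,38,36,37,35,38,36,37,35],16,8⟩)) (.node (.leaf ⟨37,[36,39,35,37,36,38,36,38,35,39,36,38,35,38,35],31,14⟩) (.leaf ⟨39,[35,37,35,39,36,37,36,39,35,37,35,39,36,37,36],37,0⟩)))))) (.node (.node (.node (.node (.node (.node (.leaf ⟨37,[38,37,38,37,38,37,38],7,5⟩) (.leaf ⟨35,[37,35,39,36,37,36,39,35,37,35,39,36,37,36,39],37,1⟩)) (.leaf ⟨38,[35,39,36,37,35,39,36,37,38,37,35,39,36,37,35,39,36],40,6⟩)) (.node (.leaf ⟨36,[38,35,38,35,39,38,36,36,38,35,37,38,35,39,38,36],33,7⟩) (.leaf ⟨35,[38,36,37,35,38,36,38,36,38,35,37,36,38,35,38],17,11⟩))) (.node (.node (.node (.leaf ⟨35,[38,35,39,36,38,36,37,35,38,35,39,36,38,36,37],29,5⟩) (.leaf ⟨38,[36,39,36,36,38,35,37,38,37,35,38,39,35,38,36,39,36,37,35,39,35],45,10⟩)) (.leaf ⟨38,[37,39,35,37,36,37,35,38,36,36,36,39,37,35,38,35,37,38,36],36,18⟩)) (.node (.leaf ⟨35,[35,37,36,38,36,37,35,35,35,37,36,38,36,37,35],12,4⟩)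 (.leaf ⟨35,[37,39,37,36,38,37,38,35,37,39,37,36,38,37,38],30,6⟩)))) (.node (.node (.node (.node (.leaf ⟨37,[35,37,35,37,35,37,35],4,3⟩) (.leaf ⟨37,[38,35,39,38,36,36,38,35,38,35,39,38,36,36,38,35],33,1⟩)) (.leaf ⟨39,[37,39,37,39,37,39,37],22,4⟩)) (.node (.leaf ⟨38,[35,38,36,37,35,38,36,38,36,38,35,37,36,38,35],17,10⟩) (.leaf ⟨36,[38,36,37,35,35,35,37,36,38,36,37,35,35,35,37],12,7⟩))) (.node (.node (.leaf ⟨39,[37,39,36,39,35,37,36,39,35,37,39,36,39,35],32,7⟩) (.leaf ⟨38,[35,35,37,38,37,36,36,38,35,35,37,38,37,36,36],13,4⟩)) (.node (.leaf ⟨38,[36,37,35,38,35,39,36,38,36,37,35,38,35,39,36],29,10⟩) (.leaf ⟨35,[39,36,38,35,39,36,37,35,39,36,37,38,37,35,39,36,37],40,3⟩))))) (.node (.node (.node (.node (.node (.leaf ⟨37,[38,37,35,38,36,37,38,37,35,38,36],9,8⟩) (.leaf ⟨36,[38,35,35,37,38,37,36,36,38,35,35,37,38,37,36],13,3⟩)) (.leaf ⟨39,[37,35,38,35,37,38,36,38,37,39,35,37,36,37,35,38,36,36,36],36,10⟩))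 (.node (.leaf ⟨37,[35,35,38,37,38,35,37,36,38,37,36,37,35,35,38,36],19,14⟩) (.leaf ⟨37,[39,37,36,38,37,38,35,37,39,37,36,38,37,38,35],30,15⟩))) (.node (.node (.node (.leaf ⟨38,[35,35,38,36,38,36,38,35,35,38,36,38,36],11,11⟩) (.leaf ⟨38,[37,35,38,39,35,38,36,39,36,37,35,39,35,38,36,39,36,36,38,35,37],45,18⟩)) (.leaf ⟨35,[35,38,37,38,35,37,36,38,37,36,37,35,35,38,36,37],19,15⟩)) (.node (.leaf ⟨38,[36,36,38,35,35,38,36,36,38,35,35],8,6⟩) (.leaf ⟨35,[37,39,37,36,36,39,37,35,37,38,37,36,37,35,38,36,39,35,38,37,38],44,5⟩)))) (.node (.node (.node (.node (.leaf ⟨35,[38,36,37,38,37,35,38,36,37,38,37],9,5⟩) (.leaf ⟨37,[39,37,39,35,35,39,35,39,36,36,36,37,35,35,35,39,36,39,36,36],43,5⟩)) (.leaf ⟨35,[37,36,38,36,37,35,35,35,37,36,38,36,37,35,35],12,13⟩)) (.node (.leaf ⟨37,[38,37,35,35,38,36,36,37,38,37,35,35,38,36,36],14,3⟩) (.leaf ⟨39,[35,37,36,38,36,38,35,39,36,38,35,38,35,37,36],31,0⟩)))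 (.node (.node (.leaf ⟨38,[39,38,39,38,39,38,39],23,7⟩) (.leaf ⟨37,[38,37,36,36,38,35,35,37,38,37,36,36,38,35,35],13,15⟩)) (.node (.leaf ⟨35,[39,36,38,36,37,35,38,35,39,36,38,36,37,35,38],29,15⟩) (.leaf ⟨39,[36,37,36,37,39,36,37,39,36,37,36,37,39,36,37],34,11⟩))))))) (.node (.node (.node (.node (.node (.node (.node (.leaf ⟨38,[38],6,1⟩) (.leaf ⟨38,[36,37,35,38,36,36,38,35,38,37,38,36,38,35,35],15,12⟩)) (.leaf ⟨37,[35,39,37,38,37,39,36,37,35,39,37,38,37,39,36],39,10⟩)) (.node (.leaf ⟨36,[36,38,36,38,36,38,36,38,36,38,36,36,38,35,38],18,14⟩) (.leaf ⟨39,[35,37,39,35,37,39,35,37,39,35,37],28,0⟩))) (.node (.node (.node (.leaf ⟨37,[35,37,35,37,35,37,35],4,1⟩) (.leaf ⟨37,[36,37,38,39,38,37,38,39,35,37,39,35,38,39,38,36,37,36,38,35],42,17⟩)) (.leaf ⟨39,[38,36,36,38,35,37,38,35,39,38,36,36,38,35,38,35],33,12⟩)) (.node (.leaf ⟨35,[38,36,36,36,39,37,35,38,35,37,38,36,38,37,39,35,37,36,37],36,5⟩)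 (.leaf ⟨39,[36,37,35,39,37,38,37,39,36,37,35,39,37,38,37],39,0⟩)))) (.node (.node (.node (.node (.leaf ⟨36,[36,37,35,35,39,36,36,37,35,35,39],24,7⟩) (.leaf ⟨35,[38,36,37,35,38,36,37,35,38,36,37,35,38,36,37],16,15⟩)) (.leaf ⟨38,[37,38,39,35,37,39,35,38,39,38,36,37,36,38,35,37,36,37,38,39],42,1⟩)) (.node (.leaf ⟨37,[38,36,37,35,38,37,35,37,36,36,38,35,37,36,36,38],20,1⟩) (.leaf ⟨38,[35,37,36,36,38,37,38,36,37,35,38,37,35,37,36,36],20,12⟩))) (.node (.node (.leaf ⟨39,[36,39,35,37,36,39,35,37,39,36,39,35,39,37],32,9⟩) (.leaf ⟨39,[35,37,39,37,36,39,35,37,39,37,36],27,3⟩)) (.node (.leaf ⟨38,[35,35,38,36,38,36,38,35,35,38,36,38,36],11,4⟩) (.leaf ⟨39,[35,38,37,38,35,37,39,37,36,36,39,37,35,37,38,37,36,37,35,38,36],44,0⟩))))) (.node (.node (.node (.node (.node (.leaf ⟨37,[38,37,36,38,35,37,38,37,36,38,35],10,11⟩) (.leaf ⟨36,[37,35,38,36,37,35,38,36,37,35,38,36,37,35,38],16,5⟩))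 (.leaf ⟨39,[38,35,37,36,38,39,38,35,37,36,38],26,6⟩)) (.node (.leaf ⟨38,[35,39,36,38,37,38,35,39,36,38,37],25,10⟩) (.leaf ⟨37,[39,36,37,35,39,37,38,37,39,36,37,35,39,37,38],39,15⟩))) (.node (.node (.node (.leaf ⟨38,[35,39,36,38,35,38,35,37,36,39,35,37,36,38,36],31,6⟩) (.leaf ⟨37,[38,37,35,38,39,35,38,36,39,36,37,35,39,35,38,36,39,36,36,38,35],45,17⟩)) (.leaf ⟨38,[37,36,37,35,35,38,36,37,35,35,38,37,38,35,37,36],19,6⟩)) (.node (.leaf ⟨38,[35,37,38,37,36,38,35,37,38,37,36],10,3⟩) (.leaf ⟨36,[36,37,39,37,39,35,35,39,35,39,36,36,36,37,35,35,35,39,36,39],43,3⟩)))) (.node (.node (.node (.node (.leaf ⟨38,[39,38,35,37,36,38,39,38,35,37,36],26,5⟩) (.leaf ⟨39,[37,39,35,35,39,35,39,36,36,36,37,35,35,35,39,36,39,36,36,37],43,6⟩)) (.leaf ⟨38,[37,36,38,35,39,36,38,35,37,38,35,39,36,39,35,37,36,39],41,7⟩)) (.node (.leaf ⟨36,[38,35,38,35,38,36,37,35,38,36,38,36,38,35,37],17,7⟩)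 (.leaf ⟨37,[36,36,38,35,35,37,38,37,36,36,38,35,35,37,38],13,1⟩))) (.node (.node (.leaf ⟨38,[36,37,38,37,35,38,36,37,38,37,35],9,0⟩) (.leaf ⟨39,[38,35,37,36,38,39,38,35,37,36,38],26,0⟩)) (.node (.leaf ⟨38,[36,36,36,39,37,35,38,35,37,38,36,38,37,39,35,37,36,37,35],36,6⟩) (.leaf ⟨35,[39,37,38,37,39,36,37,35,39,37,38,37,39,36,37],39,11⟩)))))) (.node (.node (.node (.node (.node (.node (.leaf ⟨35,[37,35,35,37,35,35,37,35],5,5⟩) (.leaf ⟨38,[36,37,35,38,35,39,36,38,36,37,35,38,35,39,36],29,2⟩)) (.leaf ⟨37,[36,38,35,39,36,38,35,37,38,35,39,36,39,35,37,36,39,38],41,8⟩)) (.node (.leaf ⟨37,[36,38,36,37,35,35,35,37,36,38,36,37,35,35,35],12,14⟩) (.leaf ⟨37,[35,39,36,37,36,39,35,37,35,39,36,37,36,39,35],37,2⟩))) (.node (.node (.node (.leaf ⟨35,[37,36,36,38,37,38,36,37,35,38,37,35,37,36,36,38],20,13⟩) (.leaf ⟨35,[39,35,38,36,39,36,36,38,35,37,38,37,35,38,39,35,38,36,39,36,37],45,7⟩))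 (.leaf ⟨39,[35,37,36,39,38,37,36,38,35,39,36,38,35,37,38,35,39,36],41,2⟩)) (.node (.leaf ⟨38,[37,38,37,38,37,38,37],7,2⟩) (.leaf ⟨39,[38,37,38,39,35,37,39,35,38,39,38,36,37,36,38,35,37,36,37,38],42,0⟩)))) (.node (.node (.node (.node (.leaf ⟨35,[35,39,36,36,37,35,35,39,36,36,37],24,10⟩) (.leaf ⟨36,[37,35,39,36,37,35,39,36,37,35,39,36,37,35,39],38,9⟩)) (.leaf ⟨38,[35,35,38,39,37,39,38,36,36,38,36,37,36,39,35,37,39,35],35,5⟩)) (.node (.leaf ⟨36,[36,38,37,38,36,37,35,38,37,35,37,36,36,38,35,37],20,15⟩) (.leaf ⟨37,[35,39,36,37,35,39,36,37,35,39,36,37,35,39,36],38,6⟩))) (.node (.node (.leaf ⟨39,[36,39,35,39,37,39,36,39,35,37,36,39,35,37],32,3⟩) (.leaf ⟨37,[36,36,38,37,38,36,37,35,38,37,35,37,36,36,38,35],20,14⟩)) (.node (.leaf ⟨35,[35,38,36,37,35,35,38,37,38,35,37,36,38,37,36,37],19,10⟩) (.leaf ⟨39,[36,38,35,39,36,37,35,39,36,37,38,37,35,39,36,37,35],40,4⟩)))))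 (.node (.node (.node (.node (.node (.leaf ⟨36,[38,36,38,36,38,36,38,36,38,36,36,38,35,38,36],18,15⟩) (.leaf ⟨37,[36,37,35,35,38,36,37,35,35,38,37,38,35,37,36,38],19,7⟩)) (.leaf ⟨36,[38,36,38,36,38,36,38,36,36,38,35,38,36,36,38],18,1⟩)) (.node (.leaf ⟨37,[38,37,38,37,38,37,38],7,7⟩) (.leaf ⟨38,[36,36,37,38,37,35,35,38,36,36,37,38,37,35,35],14,0⟩))) (.node (.node (.node (.leaf ⟨37,[35,35,37,35,35,37,35,35],5,3⟩) (.leaf ⟨35,[38,36,39,36,37,35,39,35,38,36,39,36,36,38,35,37,38,37,35,38,39],45,1⟩)) (.leaf ⟨36,[36,39,37,35,38,35,37,38,36,38,37,39,35,37,36,37,35,38,36],36,8⟩)) (.node (.leaf ⟨36,[37,35,38,37,35,37,36,36,38,35,37,36,36,38,37,38],20,3⟩) (.leaf ⟨36,[39,37,35,37,38,37,36,37,35,38,36,39,35,38,37,38,35,37,39,37,36],44,10⟩)))) (.node (.node (.node (.node (.leaf ⟨37,[39,37,36,39,35,37,39,37,36,39,35],27,5⟩) (.leaf ⟨36,[38,35,37,36,37,38,39,38,37,38,39,35,37,39,35,38,39,38,36,37],42,14⟩))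 (.leaf ⟨35,[39,36,38,36,37,35,38,35,39,36,38,36,37,35,38],29,7⟩)) (.node (.leaf ⟨37,[39,36,37,39,36,37,36,37,39,36,37,39,36,37,36],34,7⟩) (.leaf ⟨37,[35,35,38,36,36,37,38,37,35,35,38,36,36,37,38],14,5⟩))) (.node (.node (.leaf ⟨36,[38,35,39,36,38,35,38,35,37,36,39,35,37,36,38],31,5⟩) (.leaf ⟨36,[38,36,36,38,35,38,36,36,38,36,38,36,38,36,38],18,7⟩)) (.node (.leaf ⟨35,[39,36,37,36,39,35,37,35,39,36,37,36,39,35,37],37,11⟩) (.leaf ⟨35,[38,35,38,36,37,35,38,36,38,36,38,35,37,36,38],17,9⟩)))))))) (.node (.node (.node (.node (.node (.node (.node (.node (.leaf ⟨35,[36],0,0⟩) (.leaf ⟨36,[37,35,39,36,37,38,37,35,39,36,37,35,39,36,38,35,39],40,9⟩)) (.leaf ⟨37,[35,39,36,37,35,39,36,37,35,39,36,37,35,39,36],38,10⟩)) (.node (.leaf ⟨35,[38,36,37,35,38,36,36,38,35,38,37,38,36,38,35],15,11⟩) (.leaf ⟨36,[37,35,39,36,37,35,39,36,37,35,39,36,37,35,39],38,5⟩))) (.node (.node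 (.node (.leaf ⟨39,[37,39,37,39,37,39,37],22,6⟩) (.leaf ⟨38,[39,38,37,38,39,35,37,39,35,38,39,38,36,37,36,38,35,37,36,37],42,20⟩)) (.leaf ⟨39,[36,36,37,35,35,39,36,36,37,35,35],24,6⟩)) (.node (.leaf ⟨37,[36,39,35,37,39,37,36,39,35,37,39],27,1⟩) (.leaf ⟨36,[36,38,35,35,37,38,37,36,36,38,35,35,37,38,37],13,10⟩)))) (.node (.node (.node (.node (.leaf ⟨38,[35,37,38,37,36,38,35,37,38,37,36],10,9⟩) (.leaf ⟨36,[37,35,39,37,38,37,39,36,37,35,39,37,38,37,39],39,9⟩)) (.leaf ⟨39,[35,37,39,35,38,39,38,36,37,36,38,35,37,36,37,38,39,38,37,38],42,4⟩)) (.node (.leaf ⟨37,[36,36,38,35,37,36,36,38,37,38,36,37,35,38,37,35],20,9⟩) (.leaf ⟨38,[37,36,36,38,35,35,37,38,37,36,36,38,35,35,37],13,8⟩))) (.node (.node (.leaf ⟨38,[35,38,35,38,36,37,35,38,36,38,36,38,35,37,36],17,8⟩) (.leaf ⟨35,[38,37,38,35,37,36,38,37,36,37,35,35,38,36,37,35],19,16⟩)) (.node (.leaf ⟨37,[35,38,36,37,38,37,35,38,36,37,38],9,4⟩)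 (.leaf ⟨35,[38,37,38,35,37,39,37,36,36,39,37,35,37,38,37,36,37,35,38,36,39],44,1⟩))))) (.node (.node (.node (.node (.node (.leaf ⟨36,[38,35,35,38,36,36,38,35,35,38,36],8,8⟩) (.leaf ⟨35,[39,36,37,35,39,36,37,38,37,35,39,36,37,35,39,36,38],40,7⟩)) (.leaf ⟨35,[39,36,39,35,37,36,39,38,37,36,38,35,39,36,38,35,37,38],41,18⟩)) (.node (.leaf ⟨37,[35,38,36,37,35,38,36,37,35,38,36,37,35,38,36],16,10⟩) (.leaf ⟨36,[37,39,36,37,36,37,39,36,37,39,36,37,36,37,39],34,9⟩))) (.node (.node (.node (.leaf ⟨38,[36,38,35,39,36,38,35,38,35,37,36,39,35,37,36],31,4⟩) (.leaf ⟨38,[35,37,38,37,35,38,39,35,38,36,39,36,37,35,39,35,38,36,39,36,36],45,15⟩)) (.leaf ⟨36,[38,37,38,35,39,36,38,37,38,35,39],25,1⟩)) (.node (.leaf ⟨37,[38,37,36,38,35,37,38,37,36,38,35],10,5⟩) (.leaf ⟨35,[39,35,39,36,36,36,37,35,35,35,39,36,39,36,36,37,39,37,39,35],43,10⟩)))) (.node (.node (.node (.node (.leaf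 ⟨38,[35,37,36,38,39,38,35,37,36,38,39],26,7⟩) (.leaf ⟨36,[37,35,39,36,37,35,39,36,37,35,39,36,37,35,39],38,1⟩)) (.leaf ⟨36,[36,37,35,35,39,36,36,37,35,35,39],24,1⟩)) (.node (.leaf ⟨38,[36,37,35,35,35,37,36,38,36,37,35,35,35,37,36],12,8⟩) (.leaf ⟨35,[39,36,37,36,39,35,37,35,39,36,37,36,39,35,37],37,3⟩))) (.node (.node (.leaf ⟨38,[35,39,38,36,36,38,35,38,35,39,38,36,36,38,35,37],33,2⟩) (.leaf ⟨36,[39,35,37,36,39,38,37,36,38,35,39,36,38,35,37,38,35,39],41,1⟩)) (.node (.leaf ⟨36,[36,38,35,38,35,39,38,36,36,38,35,37,38,35,39,38],33,6⟩) (.leaf ⟨36,[37,36,37,39,36,37,39,36,37,36,37,39,36,37,39],34,4⟩)))))) (.node (.node (.node (.node (.node (.node (.leaf ⟨35,[35,35,35,35,35,35],3,5⟩) (.leaf ⟨37,[35,39,36,37,35,39,36,38,35,39,36,37,35,39,36,37,38],40,16⟩)) (.leaf ⟨37,[35,39,36,38,35,39,36,37,35,39,36,37,38,37,35,39,36],40,2⟩)) (.node (.leaf ⟨37,[38,35,39,36,38,37,38,35,39,36,38],25,3⟩)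 (.leaf ⟨38,[37,35,35,38,36,36,37,38,37,35,35,38,36,36,37],14,12⟩))) (.node (.node (.node (.leaf ⟨37,[38,36,38,35,35,38,36,37,35,38,36,36,38,35,38],15,6⟩) (.leaf ⟨36,[36,38,35,37,38,37,35,38,39,35,38,36,39,36,37,35,39,35,38,36,39],45,13⟩)) (.leaf ⟨37,[39,35,38,35,35,38,39,37,39,38,36,36,38,36,37,36,39,35],35,2⟩)) (.node (.leaf ⟨35,[37,36,38,37,36,37,35,35,38,36,37,35,35,38,37,38],19,3⟩) (.leaf ⟨38,[39,38,36,37,36,38,35,37,36,37,38,39,38,37,38,39,35,37,39,35],42,9⟩)))) (.node (.node (.node (.node (.leaf ⟨35,[35,35,35,35,35,35],3,3⟩) (.leaf ⟨35,[39,36,37,35,39,36,38,35,39,36,37,35,39,36,37,38,37],40,17⟩)) (.leaf ⟨37,[38,35,37,39,37,36,38,37,38,35,37,39,37,36,38],30,4⟩)) (.node (.leaf ⟨36,[38,36,37,35,35,35,37,36,38,36,37,35,35,35,37],12,15⟩) (.leaf ⟨36,[36,38,35,35,37,38,37,36,36,38,35,35,37,38,37],13,2⟩))) (.node (.node (.leaf ⟨39,[35,39,37,39,36,39,35,37,36,39,35,37,39,36],32,5⟩)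 (.leaf ⟨36,[39,35,37,39,35,38,35,35,38,39,37,39,38,36,36,38,36,37],35,18⟩)) (.node (.leaf ⟨35,[38,35,37,38,36,38,37,39,35,37,36,37,35,38,36,36,36,39,37],36,12⟩) (.leaf ⟨37,[39,37,39,37,39,37,39],22,1⟩))))) (.node (.node (.node (.node (.node (.leaf ⟨35,[38,36,38,36,38,35,35,38,36,38,36,38,35],11,6⟩) (.leaf ⟨39,[36,37,38,37,35,39,36,37,35,39,36,38,35,39,36,37,35],40,12⟩)) (.leaf ⟨36,[39,35,37,36,38,36,38,35,39,36,38,35,38,35,37],31,15⟩)) (.node (.leaf ⟨38,[37,38,36,37,35,38,37,35,37,36,36,38,35,37,36,36],20,0⟩) (.leaf ⟨38,[36,38,36,38,35,37,36,38,35,38,35,38,36,37,35],17,0⟩))) (.node (.node (.node (.leaf ⟨35,[35,35,35,35,35,35],3,1⟩) (.leaf ⟨35,[38,39,35,38,36,39,36,37,35,39,35,38,36,39,36,36,38,35,37,38,37],45,20⟩)) (.leaf ⟨36,[37,35,35,39,36,36,37,35,35,39,36],24,2⟩)) (.node (.leaf ⟨35,[35,35,35,35,35,35],3,6⟩) (.leaf ⟨39,[37,36,36,39,37,35,37,38,37,36,37,35,38,36,39,35,38,37,38,35,37],44,7⟩))))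 (.node (.node (.node (.node (.leaf ⟨35,[37,39,37,36,39,35,37,39,37,36,39],27,4⟩) (.leaf ⟨36,[37,35,38,36,37,35,38,36,37,35,38,36,37,35,38],16,13⟩)) (.leaf ⟨36,[37,35,35,35,37,36,38,36,37,35,35,35,37,36,38],12,9⟩)) (.node (.leaf ⟨36,[37,39,36,37,39,36,37,36,37,39,36,37,39,36,37],34,6⟩) (.leaf ⟨35,[39,36,37,38,37,35,39,36,37,35,39,36,38,35,39,36,37],40,11⟩))) (.node (.node (.leaf ⟨37,[36,38,35,38,35,38,36,37,35,38,36,38,36,38,35],17,6⟩) (.leaf ⟨39,[37,36,38,37,38,35,37,39,37,36,38,37,38,35,37],30,0⟩)) (.node (.leaf ⟨37,[35,39,36,37,36,39,35,37,35,39,36,37,36,39,35],37,10⟩) (.leaf ⟨38,[36,37,35,38,36,37,35,38,36,37,35,38,36,37,35],16,0⟩))))))) (.node (.node (.node (.node (.node (.node (.node (.leaf ⟨35,[37,35,37,35,37,35,37],4,4⟩) (.leaf ⟨39,[37,38,37,39,36,37,35,39,37,38,37,39,36,37,35],39,4⟩)) (.leaf ⟨37,[39,36,37,35,39,37,38,37,39,36,37,35,39,37,38],39,7⟩))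 (.node (.leaf ⟨35,[38,36,36,37,38,37,35,35,38,36,36,37,38,37,35],14,7⟩) (.leaf ⟨36,[38,37,39,35,37,36,37,35,38,36,36,36,39,37,35,38,35,37,38],36,17⟩))) (.node (.node (.node (.leaf ⟨37,[35,38,35,39,36,38,36,37,35,38,35,39,36,38,36],29,12⟩) (.leaf ⟨35,[37,36,37,38,39,38,37,38,39,35,37,39,35,38,39,38,36,37,36,38],42,16⟩)) (.leaf ⟨36,[38,35,37,36,38,35,38,35,38,36,37,35,38,36,38],17,3⟩)) (.node (.leaf ⟨38,[37,36,38,35,37,38,37,36,38,35,37],10,0⟩) (.leaf ⟨38,[35,37,36,38,35,38,35,38,36,37,35,38,36,38,36],17,4⟩)))) (.node (.node (.node (.node (.leaf ⟨35,[39,36,36,37,35,35,39,36,36,37,35],24,5⟩) (.leaf ⟨37,[36,39,35,37,39,35,38,35,35,38,39,37,39,38,36,36,38,36],35,17⟩)) (.leaf ⟨39,[37,36,39,35,37,39,37,36,39,35,37],27,0⟩)) (.node (.leaf ⟨35,[37,38,37,36,38,35,37,38,37,36,38],10,4⟩) (.leaf ⟨37,[36,36,38,35,35,37,38,37,36,36,38,35,35,37,38],13,9⟩))) (.node (.node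 (.leaf ⟨36,[39,35,39,37,39,36,39,35,37,36,39,35,37,39],32,4⟩) (.leaf ⟨35,[38,36,36,38,36,38,36,38,36,38,36,38,36,36,38],18,12⟩)) (.node (.leaf ⟨35,[39,36,36,37,35,35,39,36,36,37,35],24,11⟩) (.leaf ⟨38,[37,38,35,37,39,37,36,36,39,37,35,37,38,37,36,37,35,38,36,39,35],44,2⟩))))) (.node (.node (.node (.node (.node (.leaf ⟨35,[35,38,36,38,36,38,35,35,38,36,38,36,38],11,12⟩) (.leaf ⟨39,[36,37,35,39,36,38,35,39,36,37,35,39,36,37,38,37,35],40,0⟩)) (.leaf ⟨39,[36,38,35,38,35,37,36,39,35,37,36,38,36,38,35],31,8⟩)) (.node (.leaf ⟨37,[38,37,38,37,38,37,38],7,3⟩) (.leaf ⟨37,[39,36,37,39,36,37,36,37,39,36,37,39,36,37,36],34,15⟩))) (.node (.node (.node (.leaf ⟨35,[37,35,37,35,37,35,37],4,0⟩) (.leaf ⟨37,[35,38,39,35,38,36,39,36,37,35,39,35,38,36,39,36,36,38,35,37,38],45,19⟩)) (.leaf ⟨39,[38,39,38,39,38,39,38],23,6⟩)) (.node (.leaf ⟨37,[38,37,35,35,38,36,36,37,38,37,35,35,38,36,36],14,11⟩)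 (.leaf ⟨36,[39,36,36,37,39,37,39,35,35,39,35,39,36,36,36,37,35,35,35,39],43,1⟩)))) (.node (.node (.node (.node (.leaf ⟨35,[37,35,35,37,35,35,37,35],5,2⟩) (.leaf ⟨36,[36,36,37,35,35,35,39,36,39,36,36,37,39,37,39,35,35,39,35,39],43,14⟩)) (.leaf ⟨38,[37,38,35,39,36,38,37,38,35,39,36],25,2⟩)) (.node (.leaf ⟨35,[37,36,38,36,37,35,35,35,37,36,38,36,37,35,35],12,5⟩) (.leaf ⟨36,[37,35,38,36,36,38,35,38,37,38,36,38,35,35,38],15,13⟩))) (.node (.node (.leaf ⟨35,[38,36,37,38,37,35,38,36,37,38,37],9,11⟩) (.leaf ⟨37,[35,35,35,37,36,38,36,37,35,35,35,37,36,38,36],12,10⟩)) (.node (.leaf ⟨38,[35,39,38,36,36,38,35,37,38,35,39,38,36,36,38,35],33,10⟩) (.leaf ⟨39,[38,39,38,39,38,39,38],23,0⟩)))))) (.node (.node (.node (.node (.node (.node (.leaf ⟨35,[35,37,35,35,37,35,35,37],5,7⟩) (.leaf ⟨36,[37,35,39,36,37,35,39,36,37,35,39,36,37,35,39],38,13⟩)) (.leaf ⟨38,[35,37,38,35,39,36,39,35,37,36,39,38,37,36,38,35,39,36],41,14⟩))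 (.node (.leaf ⟨35,[38,36,38,36,38,35,37,36,38,35,38,35,38,36,37],17,15⟩) (.leaf ⟨35,[38,39,37,39,38,36,36,38,36,37,36,39,35,37,39,35,38,35],35,7⟩))) (.node (.node (.node (.leaf ⟨38,[37,38,35,37,39,37,36,38,37,38,35,37,39,37,36],30,11⟩) (.leaf ⟨35,[38,36,39,36,36,38,35,37,38,37,35,38,39,35,38,36,39,36,37,35,39],45,9⟩)) (.leaf ⟨37,[39,37,36,38,37,38,35,37,39,37,36,38,37,38,35],30,7⟩)) (.node (.leaf ⟨38,[35,37,36,38,37,36,37,35,35,38,36,37,35,35,38,37],19,2⟩) (.leaf ⟨37,[39,35,37,39,35,37,39,35,37,39,35],28,2⟩)))) (.node (.node (.node (.node (.leaf ⟨37,[38,35,39,36,38,37,38,35,39,36,38],25,9⟩) (.leaf ⟨35,[39,36,37,35,39,36,37,35,39,36,37,35,39,36,37],38,3⟩)) (.leaf ⟨36,[38,37,38,35,37,39,37,36,38,37,38,35,37,39,37],30,10⟩)) (.node (.leaf ⟨38,[37,38,35,37,36,38,37,36,37,35,35,38,36,37,35,35],19,0⟩) (.leaf ⟨39,[35,37,39,35,37,39,35,37,39,35,37],28,3⟩))) (.node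 (.node (.leaf ⟨39,[35,37,39,36,39,35,39,37,39,36,39,35,37,36],32,0⟩) (.leaf ⟨35,[38,36,37,35,38,36,37,35,38,36,37,35,38,36,37],16,11⟩)) (.node (.leaf ⟨38,[35,39,36,38,37,38,35,39,36,38,37],25,4⟩) (.leaf ⟨39,[36,37,39,36,37,36,37,39,36,37,39,36,37,36,37],34,0⟩))))) (.node (.node (.node (.node (.node (.leaf ⟨35,[35,37,35,35,37,35,35,37],5,4⟩) (.leaf ⟨37,[38,37,35,39,36,37,35,39,36,38,35,39,36,37,35,39,36],40,14⟩)) (.leaf ⟨36,[37,38,37,35,39,36,37,35,39,36,38,35,39,36,37,35,39],40,13⟩)) (.node (.leaf ⟨38,[37,36,38,35,37,38,37,36,38,35,37],10,6⟩) (.leaf ⟨37,[39,36,37,36,37,39,36,37,39,36,37,36,37,39,36],34,2⟩))) (.node (.node (.leaf ⟨35,[35,37,38,37,36,36,38,35,35,37,38,37,36,36,38],13,13⟩) (.leaf ⟨38,[37,39,36,37,35,39,37,38,37,39,36,37,35,39,37],39,14⟩)) (.node (.leaf ⟨37,[36,38,35,37,38,37,36,38,35,37,38],10,1⟩) (.leaf ⟨37,[36,36,39,37,35,37,38,37,36,37,35,38,36,39,35,38,37,38,35,37,39],44,8⟩))))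 (.node (.node (.node (.node (.leaf ⟨37,[39,35,37,39,35,37,39,35,37,39,35],28,8⟩) (.leaf ⟨37,[36,37,35,38,36,39,35,38,37,38,35,37,39,37,36,36,39,37,35,37,38],44,16⟩)) (.leaf ⟨37,[35,38,35,39,36,38,36,37,35,38,35,39,36,38,36],29,4⟩)) (.node (.leaf ⟨35,[35,38,39,37,39,38,36,36,38,36,37,36,39,35,37,39,35,38],35,6⟩) (.leaf ⟨38,[35,35,38,36,37,35,38,36,36,38,35,38,37,38,36],15,9⟩))) (.node (.node (.leaf ⟨38,[36,38,35,35,38,36,38,36,38,35,35,38,36],11,9⟩) (.leaf ⟨39,[37,39,37,39,37,39,37],22,0⟩)) (.node (.leaf ⟨36,[37,36,39,35,37,35,39,36,37,36,39,35,37,35,39],37,5⟩) (.leaf ⟨39,[36,37,36,39,35,37,35,39,36,37,36,39,35,37,35],37,4⟩))))))))) (.node (.node (.node (.node (.node (.node (.node (.node (.node (.leaf ⟨36,[35],0,1⟩) (.leaf ⟨36,[39,35,37,35,39,36,37,36,39,35,37,35,39,36,37],37,15⟩)) (.leaf ⟨39,[35,37,36,39,35,37,39,36,39,35,39,37,39,36],32,11⟩)) (.node (.leaf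 ⟨38,[39,38,39,38,39,38,39],23,3⟩) (.leaf ⟨35,[37,36,38,36,38,35,39,36,38,35,38,35,37,36,39],31,1⟩))) (.node (.node (.node (.leaf ⟨37,[39,35,37,39,35,37,39,35,37,39,35],28,5⟩) (.leaf ⟨36,[37,35,35,35,39,36,39,36,36,37,39,37,39,35,35,39,35,39,36,36],43,16⟩)) (.leaf ⟨36,[38,35,38,37,38,36,38,35,35,38,36,37,35,38,36],15,2⟩)) (.node (.leaf ⟨37,[39,38,36,36,38,36,37,36,39,35,37,39,35,38,35,35,38,39],35,10⟩) (.leaf ⟨36,[39,35,37,39,36,39,35,39,37,39,36,39,35,37],32,14⟩)))) (.node (.node (.node (.node (.leaf ⟨38,[36,37,38,37,35,38,36,37,38,37,35],9,6⟩) (.leaf ⟨35,[38,36,37,35,38,36,37,35,38,36,37,35,38,36,37],16,3⟩)) (.leaf ⟨38,[39,35,37,39,35,38,39,38,36,37,36,38,35,37,36,37,38,39,38,37],42,3⟩)) (.node (.leaf ⟨37,[36,38,37,36,37,35,35,38,36,37,35,35,38,37,38,35],19,4⟩) (.leaf ⟨38,[36,37,35,38,37,35,37,36,36,38,35,37,36,36,38,37],20,2⟩))) (.node (.node (.leaf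 ⟨35,[38,37,35,37,36,36,38,35,37,36,36,38,37,38,36,37],20,5⟩) (.leaf ⟨37,[39,35,37,36,37,35,38,36,36,36,39,37,35,38,35,37,38,36,38],36,19⟩)) (.node (.leaf ⟨38,[36,38,35,35,38,36,38,36,38,35,35,38,36],11,2⟩) (.leaf ⟨37,[38,35,37,39,37,36,36,39,37,35,37,38,37,36,37,35,38,36,39,35,38],44,3⟩))))) (.node (.node (.node (.node (.node (.leaf ⟨35,[38,36,38,36,38,35,35,38,36,38,36,38,35],11,13⟩) (.leaf ⟨39,[36,37,35,39,36,37,35,39,36,37,35,39,36,37,35],38,4⟩)) (.leaf ⟨36,[39,38,37,36,38,35,39,36,38,35,37,38,35,39,36,39,35,37],41,5⟩)) (.node (.leaf ⟨35,[38,35,37,36,39,35,37,36,38,36,38,35,39,36,38],31,11⟩) (.leaf ⟨35,[39,38,36,36,38,35,38,35,39,38,36,36,38,35,37,38],33,3⟩))) (.node (.node (.node (.leaf ⟨38,[35,37,36,39,35,37,36,38,36,38,35,39,36,38,35],31,12⟩) (.leaf ⟨36,[37,35,39,35,38,36,39,36,36,38,35,37,38,37,35,38,39,35,38,36,39],45,5⟩)) (.leaf ⟨37,[39,35,37,39,35,37,39,35,37,39,35],28,11⟩))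 (.node (.leaf ⟨38,[36,36,38,35,35,38,36,36,38,35,35],8,0⟩) (.leaf ⟨39,[36,36,36,37,35,35,35,39,36,39,36,36,37,39,37,39,35,35,39,35],43,13⟩)))) (.node (.node (.node (.node (.leaf ⟨37,[36,38,39,38,35,37,36,38,39,38,35],26,9⟩) (.leaf ⟨35,[39,36,37,35,39,36,37,35,39,36,37,35,39,36,37],38,15⟩)) (.leaf ⟨38,[35,37,39,37,36,38,37,38,35,37,39,37,36,38,37],30,5⟩)) (.node (.leaf ⟨35,[35,35,37,36,38,36,37,35,35,35,37,36,38,36,37],12,3⟩) (.leaf ⟨38,[39,37,39,38,36,36,38,36,37,36,39,35,37,39,35,38,35,35],35,8⟩))) (.node (.node (.leaf ⟨35,[37,38,35,39,38,36,36,38,35,38,35,39,38,36,36,38],33,0⟩) (.leaf ⟨36,[38,37,38,36,37,35,38,37,35,37,36,36,38,35,37,36],20,16⟩)) (.node (.leaf ⟨37,[36,38,36,38,35,39,36,38,35,38,35,37,36,39,35],31,2⟩) (.leaf ⟨38,[36,38,35,37,36,38,35,38,35,38,36,37,35,38,36],17,2⟩)))))) (.node (.node (.node (.node (.node (.node (.leaf ⟨37,[35,37,35,37,35,37,35],4,5⟩)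 (.leaf ⟨38,[39,38,39,38,39,38,39],23,1⟩)) (.leaf ⟨37,[35,39,36,37,38,37,35,39,36,37,35,39,36,38,35,39,36],40,10⟩)) (.node (.leaf ⟨38,[35,35,38,36,36,38,35,35,38,36,36],8,9⟩) (.leaf ⟨35,[38,37,38,36,38,35,35,38,36,37,35,38,36,36,38],15,4⟩))) (.node (.node (.node (.leaf ⟨37,[39,37,36,39,35,37,39,37,36,39,35],27,11⟩) (.leaf ⟨37,[35,39,35,38,36,39,36,36,38,35,37,38,37,35,38,39,35,38,36,39,36],45,6⟩)) (.leaf ⟨37,[38,39,38,37,38,39,35,37,39,35,38,39,38,36,37,36,38,35,37,36],42,19⟩)) (.node (.leaf ⟨35,[35,38,36,36,37,38,37,35,35,38,36,36,37,38,37],14,14⟩) (.leaf ⟨37,[35,38,36,36,36,39,37,35,38,35,37,38,36,38,37,39,35,37,36],36,4⟩)))) (.node (.node (.node (.node (.leaf ⟨37,[35,37,35,37,35,37,35],4,7⟩) (.leaf ⟨39,[37,38,37,39,36,37,35,39,37,38,37,39,36,37,35],39,12⟩)) (.leaf ⟨35,[37,39,35,37,39,35,37,39,35,37,39],28,4⟩)) (.node (.leaf ⟨38,[36,38,36,38,35,35,38,36,38,36,38,35,35],11,7⟩)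 (.leaf ⟨39,[38,36,36,38,36,37,36,39,35,37,39,35,38,35,35,38,39,37],35,11⟩))) (.node (.node (.leaf ⟨37,[36,39,35,37,39,36,39,35,39,37,39,36,39,35],32,13⟩) (.leaf ⟨38,[36,36,38,35,38,37,38,36,38,35,35,38,36,37,35],15,0⟩)) (.node (.leaf ⟨35,[37,39,35,37,39,35,37,39,35,37,39],28,10⟩) (.leaf ⟨39,[36,38,35,37,38,35,39,36,39,35,37,36,39,38,37,36,38,35],41,12⟩))))) (.node (.node (.node (.node (.node (.leaf ⟨36,[38,35,37,38,37,36,38,35,37,38,37],10,8⟩) (.leaf ⟨36,[37,38,37,35,35,38,36,36,37,38,37,35,35,38,36],14,2⟩)) (.leaf ⟨35,[39,36,38,35,38,35,37,36,39,35,37,36,38,36,38],31,7⟩)) (.node (.leaf ⟨35,[37,36,36,38,35,37,36,36,38,37,38,36,37,35,38,37],20,8⟩) (.leaf ⟨39,[38,39,38,39,38,39,38],23,2⟩))) (.node (.node (.node (.leaf ⟨36,[36,38,35,37,36,36,38,37,38,36,37,35,38,37,35,37],20,10⟩) (.leaf ⟨38,[36,39,36,37,35,39,35,38,36,39,36,36,38,35,37,38,37,35,38,39,35],45,2⟩))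 (.leaf ⟨36,[37,35,38,35,39,36,38,36,37,35,38,35,39,36,38],29,3⟩)) (.node (.leaf ⟨36,[38,36,38,35,35,38,36,38,36,38,35,35,38],11,1⟩) (.leaf ⟨35,[37,38,37,36,37,35,38,36,39,35,38,37,38,35,37,39,37,36,36,39,37],44,13⟩)))) (.node (.node (.node (.node (.leaf ⟨36,[39,35,37,39,37,36,39,35,37,39,37],27,8⟩) (.leaf ⟨36,[37,35,38,36,39,35,38,37,38,35,37,39,37,36,36,39,37,35,37,38,37],44,17⟩)) (.leaf ⟨39,[37,36,39,35,37,39,37,36,39,35,37],27,6⟩)) (.node (.leaf ⟨37,[39,36,37,36,37,39,36,37,39,36,37,36,37,39,36],34,10⟩) (.leaf ⟨38,[35,37,38,36,38,37,39,35,37,36,37,35,38,36,36,36,39,37,35],36,13⟩))) (.node (.node (.leaf ⟨35,[35,38,36,37,35,38,36,36,38,35,38,37,38,36,38],15,10⟩) (.leaf ⟨38,[36,38,37,39,35,37,36,37,35,38,36,36,36,39,37,35,38,35,37],36,16⟩)) (.node (.leaf ⟨35,[37,36,39,35,37,36,38,36,38,35,39,36,38,35,38],31,13⟩) (.leaf ⟨36,[37,36,39,35,37,35,39,36,37,36,39,35,37,35,39],37,13⟩)))))))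 (.node (.node (.node (.node (.node (.node (.node (.leaf ⟨35,[35,35,35,35,35,35],3,4⟩) (.leaf ⟨35,[35,38,36,36,37,38,37,35,35,38,36,36,37,38,37],14,6⟩)) (.leaf ⟨38,[37,39,36,37,35,39,37,38,37,39,36,37,35,39,37],39,6⟩)) (.node (.leaf ⟨36,[36,37,38,37,35,35,38,36,36,37,38,37,35,35,38],14,1⟩) (.leaf ⟨38,[37,35,35,38,36,36,37,38,37,35,35,38,36,36,37],14,4⟩))) (.node (.node (.node (.leaf ⟨36,[39,35,37,39,37,36,39,35,37,39,37],27,2⟩) (.leaf ⟨35,[39,36,39,36,36,37,39,37,39,35,35,39,35,39,36,36,36,37,35,35],43,20⟩)) (.leaf ⟨35,[38,39,38,36,37,36,38,35,37,36,37,38,39,38,37,38,39,35,37,39],42,8⟩)) (.node (.leaf ⟨36,[38,35,35,38,36,36,38,35,35,38,36],8,2⟩) (.leaf ⟨36,[36,37,38,37,35,35,38,36,36,37,38,37,35,35,38],14,9⟩)))) (.node (.node (.node (.node (.leaf ⟨36,[37,35,35,39,36,36,37,35,35,39,36],24,8⟩) (.leaf ⟨38,[36,37,36,39,35,37,39,35,38,35,35,38,39,37,39,38,36,36],35,15⟩))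 (.leaf ⟨39,[38,39,38,39,38,39,38],23,4⟩)) (.node (.leaf ⟨37,[38,35,37,36,38,37,36,37,35,35,38,36,37,35,35,38],19,1⟩) (.leaf ⟨38,[36,37,35,35,35,37,36,38,36,37,35,35,35,37,36],12,0⟩))) (.node (.node (.leaf ⟨35,[39,37,39,36,39,35,37,36,39,35,37,39,36,39],32,6⟩) (.leaf ⟨37,[36,37,35,38,36,36,36,39,37,35,38,35,37,38,36,38,37,39,35],36,2⟩)) (.node (.leaf ⟨38,[35,35,38,36,36,38,35,35,38,36,36],8,3⟩) (.leaf ⟨38,[36,39,35,38,37,38,35,37,39,37,36,36,39,37,35,37,38,37,36,37,35],44,20⟩))))) (.node (.node (.node (.node (.node (.leaf ⟨36,[38,35,35,38,36,38,36,38,35,35,38,36,38],11,10⟩) (.leaf ⟨39,[37,36,38,37,38,35,37,39,37,36,38,37,38,35,37],30,8⟩)) (.leaf ⟨39,[36,38,37,38,35,39,36,38,37,38,35],25,6⟩)) (.node (.leaf ⟨38,[36,38,35,35,38,36,37,35,38,36,36,38,35,38,37],15,7⟩) (.leaf ⟨39,[36,37,36,39,35,37,35,39,36,37,36,39,35,37,35],37,12⟩))) (.node (.node (.node (.leaf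 ⟨36,[38,39,38,35,37,36,38,39,38,35,37],26,10⟩) (.leaf ⟨36,[39,36,37,35,39,35,38,36,39,36,36,38,35,37,38,37,35,38,39,35,38],45,3⟩)) (.leaf ⟨39,[36,38,37,38,35,39,36,38,37,38,35],25,0⟩)) (.node (.leaf ⟨37,[38,37,35,38,36,37,38,37,35,38,36],9,2⟩) (.leaf ⟨35,[35,39,35,39,36,36,36,37,35,35,35,39,36,39,36,36,37,39,37,39],43,9⟩)))) (.node (.node (.node (.node (.leaf ⟨36,[38,39,38,35,37,36,38,39,38,35,37],26,4⟩) (.leaf ⟨39,[35,39,36,36,36,37,35,35,35,39,36,39,36,36,37,39,37,39,35,35],43,11⟩)) (.leaf ⟨36,[38,36,37,35,38,35,39,36,38,36,37,35,38,35,39],29,1⟩)) (.node (.leaf ⟨37,[35,38,37,35,37,36,36,38,35,37,36,36,38,37,38,36],20,4⟩) (.leaf ⟨35,[38,36,37,35,38,36,37,35,38,36,37,35,38,36,37],16,7⟩))) (.node (.node (.leaf ⟨35,[38,36,36,38,35,35,38,36,36,38,35],8,5⟩) (.leaf ⟨35,[37,39,35,37,39,35,37,39,35,37,39],28,1⟩)) (.node (.leaf ⟨37,[35,38,36,37,35,38,36,37,35,38,36,37,35,38,36],16,14⟩)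 (.leaf ⟨37,[35,38,35,37,38,36,38,37,39,35,37,36,37,35,38,36,36,36,39],36,11⟩)))))) (.node (.node (.node (.node (.node (.node (.leaf ⟨35,[35,35,35,35,35,35],3,2⟩) (.leaf ⟨36,[37,36,39,35,37,39,35,38,35,35,38,39,37,39,38,36,36,38],35,16⟩)) (.leaf ⟨39,[38,37,36,38,35,39,36,38,35,37,38,35,39,36,39,35,37,36],41,6⟩)) (.node (.leaf ⟨36,[37,38,37,35,35,38,36,36,37,38,37,35,35,38,36],14,10⟩) (.leaf ⟨35,[39,36,37,35,39,36,37,35,39,36,37,35,39,36,37],38,7⟩))) (.node (.node (.node (.leaf ⟨37,[38,35,37,39,37,36,38,37,38,35,37,39,37,36,38],30,12⟩) (.leaf ⟨36,[39,36,36,38,35,37,38,37,35,38,39,35,38,36,39,36,37,35,39,35,38],45,11⟩)) (.leaf ⟨36,[38,35,38,35,37,36,39,35,37,36,38,36,38,35,39],31,9⟩)) (.node (.leaf ⟨35,[35,38,36,36,38,35,35,38,36,36,38],8,4⟩) (.leaf ⟨39,[35,38,39,38,36,37,36,38,35,37,36,37,38,39,38,37,38,39,35,37],42,7⟩)))) (.node (.node (.node (.node (.leaf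 ⟨37,[35,38,36,36,38,35,38,37,38,36,38,35,35,38,36],15,14⟩) (.leaf ⟨35,[39,36,37,35,39,36,37,35,39,36,37,35,39,36,37],38,11⟩)) (.leaf ⟨35,[39,38,36,36,38,35,37,38,35,39,38,36,36,38,35,38],33,11⟩)) (.node (.leaf ⟨38,[36,36,38,36,38,36,38,36,38,36,38,36,36,38,35],18,13⟩) (.leaf ⟨38,[36,38,36,38,36,38,36,36,38,35,38,36,36,38,36],18,2⟩))) (.node (.node (.leaf ⟨37,[39,36,39,35,39,37,39,36,39,35,37,36,39,35],32,2⟩) (.leaf ⟨35,[37,39,37,36,39,35,37,39,37,36,39],27,10⟩)) (.node (.leaf ⟨39,[38,36,36,38,35,38,35,39,38,36,36,38,35,37,38,35],33,4⟩) (.leaf ⟨38,[37,35,39,36,37,35,39,36,38,35,39,36,37,35,39,36,37],40,15⟩))))) (.node (.node (.node (.node (.node (.leaf ⟨37,[39,37,39,37,39,37,39],22,5⟩) (.leaf ⟨39,[35,37,39,35,38,35,35,38,39,37,39,38,36,36,38,36,37,36],35,0⟩)) (.leaf ⟨38,[36,36,38,35,38,35,39,38,36,36,38,35,37,38,35,39],33,5⟩)) (.node (.leaf ⟨37,[35,38,36,37,38,37,35,38,36,37,38],9,10⟩)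 (.leaf ⟨38,[35,39,36,38,36,37,35,38,35,39,36,38,36,37,35],29,14⟩))) (.node (.node (.node (.leaf ⟨36,[38,35,35,37,38,37,36,36,38,35,35,37,38,37,36],13,11⟩) (.leaf ⟨39,[35,38,36,39,36,37,35,39,35,38,36,39,36,36,38,35,37,38,37,35,38],45,0⟩)) (.leaf ⟨38,[36,37,35,35,38,37,38,35,37,36,38,37,36,37,35,35],19,12⟩)) (.node (.leaf ⟨35,[38,35,39,38,36,36,38,35,37,38,35,39,38,36,36,38],33,9⟩) (.leaf ⟨39,[37,35,37,38,37,36,37,35,38,36,39,35,38,37,38,35,37,39,37,36,36],44,11⟩)))) (.node (.node (.node (.node (.leaf ⟨37,[39,37,39,37,39,37,39],22,3⟩) (.leaf ⟨39,[36,36,37,39,37,39,35,35,39,35,39,36,36,36,37,35,35,35,39,36],43,2⟩)) (.leaf ⟨39,[35,38,35,35,38,39,37,39,38,36,36,38,36,37,36,39,35,37],35,3⟩)) (.node (.leaf ⟨36,[37,36,37,39,36,37,39,36,37,36,37,39,36,37,39],34,12⟩) (.leaf ⟨36,[36,38,36,37,36,39,35,37,39,35,38,35,35,38,39,37,39,38],35,13⟩))) (.node (.node (.leaf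 ⟨35,[37,38,37,36,38,35,37,38,37,36,38],10,10⟩) (.leaf ⟨38,[37,38,35,37,39,37,36,38,37,38,35,37,39,37,36],30,3⟩)) (.node (.leaf ⟨35,[37,35,39,36,37,36,39,35,37,35,39,36,37,36,39],37,9⟩) (.leaf ⟨39,[35,37,36,37,35,38,36,36,36,39,37,35,38,35,37,38,36,38,37],36,0⟩)))))))) (.node (.node (.node (.node (.node (.node (.node (.node (.leaf ⟨37,[37],2,1⟩) (.leaf ⟨38,[36,37,35,38,36,37,35,38,36,37,35,38,36,37,35],16,4⟩)) (.leaf ⟨37,[36,39,35,37,35,39,36,37,36,39,35,37,35,39,36],37,14⟩)) (.node (.leaf ⟨35,[37,36,38,35,38,35,38,36,37,35,38,36,38,36,38],17,5⟩) (.leaf ⟨39,[36,37,36,37,39,36,37,39,36,37,36,37,39,36,37],34,3⟩))) (.node (.node (.node (.leaf ⟨37,[39,37,39,37,39,37,39],22,7⟩) (.leaf ⟨36,[37,38,39,38,37,38,39,35,37,39,35,38,39,38,36,37,36,38,35,37],42,18⟩)) (.leaf ⟨37,[36,39,38,37,36,38,35,39,36,38,35,37,38,35,39,36,39,35],41,4⟩)) (.node (.leaf ⟨37,[38,36,38,37,39,35,37,36,37,35,38,36,36,36,39,37,35,38,35],36,15⟩)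 (.leaf ⟨37,[38,37,36,36,38,35,35,37,38,37,36,36,38,35,35],13,7⟩)))) (.node (.node (.node (.node (.leaf ⟨37,[35,35,39,36,36,37,35,35,39,36,36],24,9⟩) (.leaf ⟨35,[39,37,38,37,39,36,37,35,39,37,38,37,39,36,37],39,3⟩)) (.leaf ⟨39,[38,36,37,36,38,35,37,36,37,38,39,38,37,38,39,35,37,39,35,38],42,10⟩)) (.node (.leaf ⟨38,[36,38,36,36,38,35,38,36,36,38,36,38,36,38,36],18,6⟩) (.leaf ⟨36,[38,35,39,36,37,35,39,36,37,38,37,35,39,36,37,35,39],40,5⟩))) (.node (.node (.leaf ⟨36,[38,37,36,37,35,35,38,36,37,35,35,38,37,38,35,37],19,5⟩) (.leaf ⟨35,[37,36,37,35,38,36,36,36,39,37,35,38,35,37,38,36,38,37,39],36,1⟩)) (.node (.leaf ⟨36,[38,35,35,38,36,38,36,38,35,35,38,36,38],11,3⟩) (.leaf ⟨38,[35,37,39,37,36,36,39,37,35,37,38,37,36,37,35,38,36,39,35,38,37],44,4⟩))))) (.node (.node (.node (.node (.node (.leaf ⟨36,[38,36,38,35,35,38,36,38,36,38,35,35,38],11,8⟩) (.leaf ⟨38,[37,36,36,38,35,35,37,38,37,36,36,38,35,35,37],13,0⟩))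 (.leaf ⟨35,[37,36,39,38,37,36,38,35,39,36,38,35,37,38,35,39,36,39],41,3⟩)) (.node (.leaf ⟨38,[37,35,38,36,37,38,37,35,38,36,37],9,3⟩) (.leaf ⟨36,[37,39,36,37,36,37,39,36,37,39,36,37,36,37,39],34,1⟩))) (.node (.node (.node (.leaf ⟨38,[35,38,35,37,36,39,35,37,36,38,36,38,35,39,36],31,10⟩) (.leaf ⟨35,[37,38,37,35,38,39,35,38,36,39,36,37,35,39,35,38,36,39,36,36,38],45,16⟩)) (.leaf ⟨39,[36,38,36,37,35,38,35,39,36,38,36,37,35,38,35],29,8⟩)) (.node (.leaf ⟨38,[37,38,37,38,37,38,37],7,0⟩) (.leaf ⟨36,[37,39,37,39,35,35,39,35,39,36,36,36,37,35,35,35,39,36,39,36],43,4⟩)))) (.node (.node (.node (.node (.leaf ⟨35,[37,36,38,39,38,35,37,36,38,39,38],26,8⟩) (.leaf ⟨39,[35,35,39,35,39,36,36,36,37,35,35,35,39,36,39,36,36,37,39,37],43,8⟩)) (.leaf ⟨37,[39,36,39,35,37,36,39,35,37,39,36,39,35,39],32,8⟩)) (.node (.leaf ⟨38,[36,38,36,38,36,38,36,38,36,36,38,35,38,36,36],18,0⟩)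 (.leaf ⟨37,[35,39,36,37,35,39,36,37,35,39,36,37,35,39,36],38,14⟩))) (.node (.node (.leaf ⟨36,[36,38,35,35,38,36,36,38,35,35,38],8,7⟩) (.leaf ⟨37,[35,37,36,36,38,35,37,36,36,38,37,38,36,37,35,38],20,7⟩)) (.node (.leaf ⟨36,[36,36,39,37,35,38,35,37,38,36,38,37,39,35,37,36,37,35,38],36,7⟩) (.leaf ⟨39,[36,37,39,36,37,36,37,39,36,37,39,36,37,36,37],34,8⟩)))))) (.node (.node (.node (.node (.node (.node (.leaf ⟨37,[35,35,37,35,35,37,35,35],5,6⟩) (.leaf ⟨38,[35,39,36,39,35,37,36,39,38,37,36,38,35,39,36,38,35,37],41,17⟩)) (.leaf ⟨38,[35,39,36,38,36,37,35,38,35,39,36,38,36,37,35],29,6⟩)) (.node (.leaf ⟨38,[37,35,38,36,37,38,37,35,38,36,37],9,9⟩) (.leaf ⟨36,[38,35,37,36,36,38,37,38,36,37,35,38,37,35,37,36],20,11⟩))) (.node (.node (.node (.leaf ⟨37,[35,38,36,38,36,38,35,37,36,38,35,38,35,38,36],17,14⟩) (.leaf ⟨39,[35,38,36,39,36,36,38,35,37,38,37,35,38,39,35,38,36,39,36,37,35],45,8⟩))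 (.leaf ⟨37,[39,35,38,39,38,36,37,36,38,35,37,36,37,38,39,38,37,38,39,35],42,6⟩)) (.node (.leaf ⟨37,[38,37,38,37,38,37,38],7,1⟩) (.leaf ⟨37,[38,39,35,37,39,35,38,39,38,36,37,36,38,35,37,36,37,38,39,38],42,2⟩)))) (.node (.node (.node (.node (.leaf ⟨35,[35,37,35,35,37,35,35,37],5,1⟩) (.leaf ⟨39,[36,37,35,39,36,37,35,39,36,37,35,39,36,37,35],38,0⟩)) (.leaf ⟨35,[37,39,36,39,35,39,37,39,36,39,35,37,36,39],32,1⟩)) (.node (.leaf ⟨36,[37,35,35,38,36,37,35,35,38,37,38,35,37,36,38,37],19,8⟩) (.leaf ⟨38,[36,38,36,38,36,36,38,35,38,36,36,38,36,38,36],18,4⟩))) (.node (.node (.leaf ⟨35,[37,36,39,35,37,39,36,39,35,39,37,39,36,39],32,12⟩) (.leaf ⟨39,[36,36,37,35,35,39,36,36,37,35,35],24,0⟩)) (.node (.leaf ⟨38,[35,37,38,35,39,38,36,36,38,35,38,35,39,38,36,36],33,16⟩) (.leaf ⟨39,[36,37,35,39,36,37,35,39,36,37,35,39,36,37,35],38,12⟩))))) (.node (.node (.node (.node (.node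 (.leaf ⟨36,[37,38,37,35,38,36,37,38,37,35,38],9,7⟩) (.leaf ⟨36,[38,35,37,38,35,39,36,39,35,37,36,39,38,37,36,38,35,39],41,13⟩)) (.leaf ⟨37,[35,35,39,36,36,37,35,35,39,36,36],24,3⟩)) (.node (.leaf ⟨35,[35,35,37,36,38,36,37,35,35,35,37,36,38,36,37],12,11⟩) (.leaf ⟨36,[37,35,35,35,37,36,38,36,37,35,35,35,37,36,38],12,1⟩))) (.node (.node (.node (.leaf ⟨37,[35,35,37,35,35,37,35,35],5,0⟩) (.leaf ⟨38,[39,35,38,36,39,36,37,35,39,35,38,36,39,36,36,38,35,37,38,37,35],45,21⟩)) (.leaf ⟨36,[38,36,38,35,37,36,38,35,38,35,38,36,37,35,38],17,1⟩)) (.node (.leaf ⟨36,[38,35,35,38,36,37,35,38,36,36,38,35,38,37,38],15,8⟩) (.leaf ⟨36,[36,39,37,35,37,38,37,36,37,35,38,36,39,35,38,37,38,35,37,39,37],44,9⟩)))) (.node (.node (.node (.node (.leaf ⟨37,[36,39,35,37,39,37,36,39,35,37,39],27,7⟩) (.leaf ⟨37,[35,35,35,39,36,39,36,36,37,39,37,39,35,35,39,35,39,36,36,36],43,17⟩)) (.leaf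 ⟨35,[35,37,36,38,36,37,35,35,35,37,36,38,36,37,35],12,12⟩)) (.node (.leaf ⟨37,[36,37,39,36,37,39,36,37,36,37,39,36,37,39,36],34,13⟩) (.leaf ⟨36,[37,35,39,36,38,35,39,36,37,35,39,36,37,38,37,35,39],40,1⟩))) (.node (.node (.leaf ⟨36,[38,36,38,36,36,38,35,38,36,36,38,36,38,36,38],18,5⟩) (.leaf ⟨35,[38,35,35,38,39,37,39,38,36,36,38,36,37,36,39,35,37,39],35,4⟩)) (.node (.leaf ⟨37,[36,39,35,37,35,39,36,37,36,39,35,37,35,39,36],37,6⟩) (.leaf ⟨35,[39,36,38,35,37,38,35,39,36,39,35,37,36,39,38,37,36,38],41,11⟩))))))) (.node (.node (.node (.node (.node (.node (.node (.leaf ⟨35,[37,35,37,35,37,35,37],4,6⟩) (.leaf ⟨36,[37,35,38,36,36,36,39,37,35,38,35,37,38,36,38,37,39,35,37],36,3⟩)) (.leaf ⟨37,[38,37,39,36,37,35,39,37,38,37,39,36,37,35,39],39,5⟩)) (.node (.leaf ⟨37,[35,38,36,37,35,38,36,37,35,38,36,37,35,38,36],16,6⟩) (.leaf ⟨35,[38,36,36,37,38,37,35,35,38,36,36,37,38,37,35],14,15⟩)))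 (.node (.node (.node (.leaf ⟨36,[37,35,38,35,39,36,38,36,37,35,38,35,39,36,38],29,11⟩) (.leaf ⟨38,[37,36,37,35,38,36,39,35,38,37,38,35,37,39,37,36,36,39,37,35,37],44,15⟩)) (.leaf ⟨36,[37,36,38,35,37,36,37,38,39,38,37,38,39,35,37,39,35,38,39,38],42,12⟩)) (.node (.leaf ⟨38,[37,38,37,38,37,38,37],7,6⟩) (.leaf ⟨36,[37,35,38,36,38,36,38,35,37,36,38,35,38,35,38],17,13⟩)))) (.node (.node (.node (.node (.leaf ⟨35,[35,39,36,36,37,35,35,39,36,36,37],24,4⟩) (.leaf ⟨35,[35,37,38,37,36,36,38,35,35,37,38,37,36,36,38],13,5⟩)) (.leaf ⟨39,[35,37,39,35,37,39,35,37,39,35,37],28,9⟩)) (.node (.leaf ⟨36,[38,35,37,38,37,36,38,35,37,38,37],10,2⟩) (.leaf ⟨35,[37,38,36,38,37,39,35,37,36,37,35,38,36,36,36,39,37,35,38],36,14⟩))) (.node (.node (.leaf ⟨36,[39,35,37,36,39,35,37,39,36,39,35,39,37,39],32,10⟩) (.leaf ⟨37,[35,35,35,37,36,38,36,37,35,35,35,37,36,38,36],12,2⟩)) (.node (.leaf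 ⟨36,[37,39,36,37,39,36,37,36,37,39,36,37,39,36,37],34,14⟩) (.leaf ⟨39,[37,39,37,39,37,39,37],22,2⟩))))) (.node (.node (.node (.node (.node (.leaf ⟨35,[38,36,36,38,35,35,38,36,36,38,35],8,11⟩) (.leaf ⟨36,[36,38,35,38,37,38,36,38,35,35,38,36,37,35,38],15,1⟩)) (.leaf ⟨37,[36,38,39,38,35,37,36,38,39,38,35],26,3⟩)) (.node (.leaf ⟨37,[36,38,35,37,38,37,36,38,35,37,38],10,7⟩) (.leaf ⟨37,[38,37,39,36,37,35,39,37,38,37,39,36,37,35,39],39,13⟩))) (.node (.node (.node (.leaf ⟨35,[37,35,35,37,35,35,37,35],5,8⟩) (.leaf ⟨36,[38,35,37,38,37,35,38,39,35,38,36,39,36,37,35,39,35,38,36,39,36],45,14⟩)) (.leaf ⟨38,[35,37,36,38,39,38,35,37,36,38,39],26,1⟩)) (.node (.leaf ⟨38,[36,36,38,35,38,36,36,38,36,38,36,38,36,38,36],18,8⟩) (.leaf ⟨37,[35,37,38,37,36,37,35,38,36,39,35,38,37,38,35,37,39,37,36,36,39],44,12⟩)))) (.node (.node (.node (.node (.leaf ⟨36,[37,38,37,35,38,36,37,38,37,35,38],9,1⟩)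 (.leaf ⟨35,[35,39,36,39,36,36,37,39,37,39,35,35,39,35,39,36,36,36,37,35],43,19⟩)) (.leaf ⟨35,[37,36,38,39,38,35,37,36,38,39,38],26,2⟩)) (.node (.leaf ⟨38,[37,38,36,38,35,35,38,36,37,35,38,36,36,38,35],15,5⟩) (.leaf ⟨36,[37,35,35,38,37,38,35,37,36,38,37,36,37,35,35,38],19,13⟩))) (.node (.node (.leaf ⟨38,[39,38,35,37,36,38,39,38,35,37,36],26,11⟩) (.leaf ⟨35,[38,36,36,38,35,38,37,38,36,38,35,35,38,36,37],15,15⟩)) (.node (.leaf ⟨36,[38,35,37,38,35,39,38,36,36,38,35,38,35,39,38,36],33,15⟩) (.leaf ⟨38,[36,36,38,36,37,36,39,35,37,39,35,38,35,35,38,39,37,39],35,12⟩)))))) (.node (.node (.node (.node (.node (.node (.leaf ⟨35,[37,35,37,35,37,35,37],4,2⟩) (.leaf ⟨37,[35,35,38,36,36,37,38,37,35,35,38,36,36,37,38],14,13⟩)) (.leaf ⟨37,[38,35,39,36,39,35,37,36,39,38,37,36,38,35,39,36,38,35],41,16⟩)) (.node (.leaf ⟨36,[38,36,38,36,38,36,36,38,35,38,36,36,38,36,38],18,3⟩)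 (.leaf ⟨35,[37,39,37,36,38,37,38,35,37,39,37,36,38,37,38],30,14⟩))) (.node (.node (.node (.leaf ⟨38,[35,37,39,37,36,38,37,38,35,37,39,37,36,38,37],30,13⟩) (.leaf ⟨39,[36,36,38,35,37,38,37,35,38,39,35,38,36,39,36,37,35,39,35,38,36],45,12⟩)) (.leaf ⟨38,[36,37,35,38,36,38,36,38,35,37,36,38,35,38,35],17,12⟩)) (.node (.leaf ⟨38,[37,38,35,39,36,38,37,38,35,39,36],25,8⟩) (.leaf ⟨35,[39,36,36,36,37,35,35,35,39,36,39,36,36,37,39,37,39,35,35,39],43,12⟩)))) (.node (.node (.node (.node (.leaf ⟨36,[38,37,38,35,39,36,38,37,38,35,39],25,7⟩) (.leaf ⟨39,[36,37,35,39,36,37,35,39,36,37,35,39,36,37,35],38,8⟩)) (.leaf ⟨39,[35,37,39,37,36,39,35,37,39,37,36],27,9⟩)) (.node (.leaf ⟨36,[38,36,37,35,38,35,39,36,38,36,37,35,38,35,39],29,9⟩) (.leaf ⟨36,[37,35,39,37,38,37,39,36,37,35,39,37,38,37,39],39,1⟩))) (.node (.node (.leaf ⟨38,[35,38,35,39,38,36,36,38,35,37,38,35,39,38,36,36],33,8⟩)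 (.leaf ⟨36,[38,37,38,35,37,39,37,36,38,37,38,35,37,39,37],30,2⟩)) (.node (.leaf ⟨35,[38,35,39,36,38,36,37,35,38,35,39,36,38,36,37],29,13⟩) (.leaf ⟨39,[36,37,35,39,36,37,38,37,35,39,36,37,35,39,36,38,35],40,8⟩))))) (.node (.node (.node (.node (.node (.leaf ⟨38,[39,38,39,38,39,38,39],23,5⟩) (.leaf ⟨39,[36,37,35,39,37,38,37,39,36,37,35,39,37,38,37],39,8⟩)) (.leaf ⟨38,[36,37,36,38,35,37,36,37,38,39,38,37,38,39,35,37,39,35,38,39],42,11⟩)) (.node (.leaf ⟨35,[37,38,37,36,36,38,35,35,37,38,37,36,36,38,35],13,14⟩) (.leaf ⟨36,[38,35,38,36,36,38,36,38,36,38,36,38,36,38,36],18,10⟩))) (.node (.node (.leaf ⟨36,[36,38,35,38,36,36,38,36,38,36,38,36,38,36,38],18,9⟩) (.leaf ⟨38,[37,35,37,36,36,38,35,37,36,36,38,37,38,36,37,35],20,6⟩)) (.node (.leaf ⟨38,[36,38,36,38,35,35,38,36,38,36,38,35,35],11,0⟩) (.leaf ⟨37,[39,37,36,36,39,37,35,37,38,37,36,37,35,38,36,39,35,38,37,38,35],44,6⟩))))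 (.node (.node (.node (.node (.leaf ⟨35,[37,39,35,37,39,35,37,39,35,37,39],28,7⟩) (.leaf ⟨39,[36,39,36,36,37,39,37,39,35,35,39,35,39,36,36,36,37,35,35,35],43,0⟩)) (.leaf ⟨39,[36,38,36,37,35,38,35,39,36,38,36,37,35,38,35],29,0⟩)) (.node (.leaf ⟨36,[38,36,37,36,39,35,37,39,35,38,35,35,38,39,37,39,38,36],35,14⟩) (.leaf ⟨38,[35,35,37,38,37,36,36,38,35,35,37,38,37,36,36],13,12⟩))) (.node (.node (.leaf ⟨35,[39,36,38,37,38,35,39,36,38,37,38],25,11⟩) (.leaf ⟨35,[37,38,35,39,36,39,35,37,36,39,38,37,36,38,35,39,36,38],41,15⟩)) (.node (.leaf ⟨36,[39,35,37,35,39,36,37,36,39,35,37,35,39,36,37],37,7⟩) (.leaf ⟨39,[35,37,35,39,36,37,36,39,35,37,35,39,36,37,36],37,8⟩))))))))))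
noncomputable def tc1 : TCL := ⟨[35,36,37,38,39], [35,36,37,38], 34560, 44, 0x1fffff, 21, 0x3ff,
  fun a x => appB tc1T (.leaf 0) 0xfffffffffff a x, fun x => lk2 tc1d 0xfffffffffff x, tc1r⟩
noncomputable def tc2T : List (Tr ℕ) := [.leaf 0,.leaf 0,.leaf 0,.leaf 0,.leaf 0,.leaf 0,.leaf 0,.leaf 0,.leaf 0,.leaf 0,.leaf 0,.leaf 0,.leaf 0,.leaf 0,.leaf 0,.leaf 0,.leaf 0,.leaf 0,.leaf 0,.leaf 0,.leaf 0,.leaf 0,.leaf 0,.leaf 0,.leaf 0,.leaf 0,.leaf 0,.leaf 0,.leaf 0,.leaf 0,.leaf 0,.leaf 0,.leaf 0,.leaf 0,.leaf 0,tc2t35,tc2t36,tc2t37,tc2t38]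
noncomputable def tc2r : Tr Rule := (.node (.node (.node (.node (.node (.node (.node (.node (.leaf ⟨38,[38],6,1⟩) (.leaf ⟨36,[38,36,36,38,35,38,36,36,38,36,38,36,38,36,38],18,7⟩)) (.node (.leaf ⟨36,[37,38,37,35,35,38,36,36,37,38,37,35,35,38,36],14,10⟩) (.leaf ⟨38,[36,37,35,38,36,37,35,38,36,37,35,38,36,37,35],16,12⟩))) (.node (.node (.leaf ⟨37,[38,37,38,37,38,37,38],7,3⟩) (.leaf ⟨38,[37,38,35,37,36,38,37,36,37,35,35,38,36,37,35,35],19,0⟩)) (.leaf ⟨37,[38,37,35,38,36,37,38,37,35,38,36],9,2⟩))) (.node (.node (.node (.leaf ⟨35,[35,35,35,35,35,35],3,3⟩) (.leaf ⟨38,[36,36,38,35,35,38,36,36,38,35,35],8,6⟩)) (.leaf ⟨36,[36,38,35,38,37,38,36,38,35,35,38,36,37,35,38],15,1⟩)) (.node (.node (.leaf ⟨35,[37,35,35,37,35,35,37,35],5,2⟩) (.leaf ⟨37,[36,36,38,35,37,36,36,38,37,38,36,37,35,38,37,35],20,9⟩)) (.leaf ⟨38,[36,38,36,38,35,37,36,38,35,38,35,38,36,37,35],17,0⟩))))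 (.node (.node (.node (.node (.leaf ⟨35,[35,37,35,35,37,35,35,37],5,7⟩) (.leaf ⟨36,[36,38,36,38,36,38,36,38,36,38,36,36,38,35,38],18,14⟩)) (.leaf ⟨36,[38,35,35,38,36,37,35,38,36,36,38,35,38,37,38],15,8⟩)) (.node (.node (.leaf ⟨37,[35,35,35,37,36,38,36,37,35,35,35,37,36,38,36],12,10⟩) (.leaf ⟨38,[37,35,37,36,36,38,35,37,36,36,38,37,38,36,37,35],20,6⟩)) (.leaf ⟨38,[35,38,35,38,36,37,35,38,36,38,36,38,35,37,36],17,8⟩))) (.node (.node (.node (.leaf ⟨37,[35,38,36,37,38,37,35,38,36,37,38],9,4⟩) (.leaf ⟨37,[36,38,37,36,37,35,35,38,36,37,35,35,38,37,38,35],19,4⟩)) (.leaf ⟨36,[36,38,35,35,38,36,36,38,35,35,38],8,1⟩)) (.node (.node (.leaf ⟨35,[37,36,38,36,37,35,35,35,37,36,38,36,37,35,35],12,13⟩) (.leaf ⟨38,[37,38,37,38,37,38,37],7,6⟩)) (.leaf ⟨35,[37,35,35,37,35,35,37,35],5,8⟩))))) (.node (.node (.node (.node (.node (.leaf ⟨35,[35,35,35,35,35,35],3,4⟩) (.leaf ⟨38,[36,36,38,36,38,36,38,36,38,36,38,36,36,38,35],18,13⟩))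 (.node (.leaf ⟨36,[38,36,38,35,35,38,36,38,36,38,35,35,38],11,1⟩) (.leaf ⟨38,[35,37,36,36,38,37,38,36,37,35,38,37,35,37,36,36],20,12⟩))) (.node (.node (.leaf ⟨36,[38,35,35,38,36,38,36,38,35,35,38,36,38],11,10⟩) (.leaf ⟨37,[35,38,36,36,38,35,38,37,38,36,38,35,35,38,36],15,14⟩)) (.leaf ⟨35,[38,35,38,36,37,35,38,36,38,36,38,35,37,36,38],17,9⟩))) (.node (.node (.node (.leaf ⟨35,[35,38,36,36,38,35,35,38,36,36,38],8,4⟩) (.leaf ⟨38,[37,36,37,35,35,38,36,37,35,35,38,37,38,35,37,36],19,6⟩)) (.leaf ⟨38,[37,38,37,38,37,38,37],7,4⟩)) (.node (.node (.leaf ⟨35,[38,36,37,38,37,35,38,36,37,38,37],9,11⟩) (.leaf ⟨36,[38,37,38,36,37,35,38,37,35,37,36,36,38,35,37,36],20,16⟩)) (.leaf ⟨36,[37,38,37,35,38,36,37,38,37,35,38],9,1⟩)))) (.node (.node (.node (.node (.leaf ⟨37,[35,35,37,35,35,37,35,35],5,6⟩) (.leaf ⟨38,[35,35,38,36,36,38,35,35,38,36,36],8,3⟩)) (.leaf ⟨38,[35,38,37,38,36,38,35,35,38,36,37,35,38,36,36],15,3⟩))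 (.node (.node (.leaf ⟨35,[35,35,35,35,35,35],3,1⟩) (.leaf ⟨36,[36,38,35,37,36,36,38,37,38,36,37,35,38,37,35,37],20,10⟩)) (.leaf ⟨38,[35,37,36,38,35,38,35,38,36,37,35,38,36,38,36],17,4⟩))) (.node (.node (.node (.leaf ⟨36,[38,35,37,38,37,36,38,35,37,38,37],10,8⟩) (.leaf ⟨36,[38,37,36,37,35,35,38,36,37,35,35,38,37,38,35,37],19,5⟩)) (.leaf ⟨35,[38,36,37,35,38,36,37,35,38,36,37,35,38,36,37],16,7⟩)) (.node (.node (.leaf ⟨36,[36,38,35,35,37,38,37,36,36,38,35,35,37,38,37],13,10⟩) (.leaf ⟨37,[38,37,38,37,38,37,38],7,1⟩)) (.leaf ⟨36,[36,38,35,38,36,36,38,36,38,36,38,36,38,36,38],18,9⟩)))))) (.node (.node (.node (.node (.node (.node (.leaf ⟨35,[36],0,0⟩) (.leaf ⟨36,[38,35,38,36,36,38,36,38,36,38,36,38,36,38,36],18,10⟩)) (.node (.leaf ⟨37,[38,37,35,35,38,36,36,37,38,37,35,35,38,36,36],14,11⟩) (.leaf ⟨37,[36,37,35,35,38,36,37,35,35,38,37,38,35,37,36,38],19,7⟩))) (.node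 (.node (.leaf ⟨36,[38,36,38,35,35,38,36,38,36,38,35,35,38],11,8⟩) (.leaf ⟨38,[37,35,38,36,37,38,37,35,38,36,37],9,9⟩)) (.leaf ⟨37,[36,38,36,37,35,35,35,37,36,38,36,37,35,35,35],12,6⟩))) (.node (.node (.node (.leaf ⟨35,[38,36,36,38,35,35,38,36,36,38,35],8,5⟩) (.leaf ⟨36,[37,35,38,36,37,35,38,36,37,35,38,36,37,35,38],16,5⟩)) (.leaf ⟨36,[37,35,38,36,36,38,35,38,37,38,36,38,35,35,38],15,13⟩)) (.node (.node (.leaf ⟨35,[35,38,36,38,36,38,35,35,38,36,38,36,38],11,12⟩) (.leaf ⟨36,[37,35,38,37,35,37,36,36,38,35,37,36,36,38,37,38],20,3⟩)) (.leaf ⟨36,[37,35,38,36,38,36,38,35,37,36,38,35,38,35,38],17,13⟩)))) (.node (.node (.node (.node (.leaf ⟨35,[37,35,35,37,35,35,37,35],5,5⟩) (.leaf ⟨38,[36,38,36,38,36,38,36,38,36,36,38,35,38,36,36],18,0⟩)) (.leaf ⟨38,[36,38,35,35,38,36,37,35,38,36,36,38,35,38,37],15,7⟩)) (.node (.node (.leaf ⟨36,[38,36,37,35,35,35,37,36,38,36,37,35,35,35,37],12,7⟩)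 (.leaf ⟨35,[37,36,36,38,35,37,36,36,38,37,38,36,37,35,38,37],20,8⟩)) (.leaf ⟨36,[38,35,37,36,38,35,38,35,38,36,37,35,38,36,38],17,3⟩))) (.node (.node (.node (.leaf ⟨37,[38,37,38,37,38,37,38],7,7⟩) (.leaf ⟨37,[35,35,38,37,38,35,37,36,38,37,36,37,35,35,38,36],19,14⟩)) (.leaf ⟨38,[35,35,38,36,38,36,38,35,35,38,36,38,36],11,4⟩)) (.node (.node (.leaf ⟨37,[36,38,36,37,35,35,35,37,36,38,36,37,35,35,35],12,14⟩) (.leaf ⟨38,[37,38,37,38,37,38,37],7,0⟩)) (.leaf ⟨38,[36,38,35,35,38,36,38,36,38,35,35,38,36],11,2⟩))))) (.node (.node (.node (.node (.node (.leaf ⟨35,[37,35,37,35,37,35,37],4,6⟩) (.leaf ⟨36,[38,36,38,36,38,36,36,38,35,38,36,36,38,36,38],18,3⟩)) (.leaf ⟨37,[38,36,38,35,35,38,36,37,35,38,36,36,38,35,38],15,6⟩)) (.node (.node (.leaf ⟨36,[38,35,35,38,36,36,38,35,35,38,36],8,2⟩) (.leaf ⟨37,[35,38,36,38,36,38,35,37,36,38,35,38,35,38,36],17,14⟩)) (.leaf ⟨35,[38,36,37,35,38,36,38,36,38,35,37,36,38,35,38],17,11⟩)))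 (.node (.node (.node (.leaf ⟨35,[38,36,37,38,37,35,38,36,37,38,37],9,5⟩) (.leaf ⟨35,[38,36,37,35,35,38,37,38,35,37,36,38,37,36,37,35],19,11⟩)) (.leaf ⟨38,[36,36,38,35,35,38,36,36,38,35,35],8,0⟩)) (.node (.node (.leaf ⟨37,[36,38,35,37,38,37,36,38,35,37,38],10,1⟩) (.leaf ⟨38,[36,37,35,38,37,35,37,36,36,38,35,37,36,36,38,37],20,2⟩)) (.leaf ⟨38,[35,35,38,36,38,36,38,35,35,38,36,38,36],11,11⟩)))) (.node (.node (.node (.node (.leaf ⟨37,[38,37,38,37,38,37,38],7,5⟩) (.leaf ⟨38,[36,38,36,38,35,35,38,36,38,36,38,35,35],11,0⟩)) (.leaf ⟨35,[38,36,37,35,38,36,36,38,35,38,37,38,36,38,35],15,11⟩)) (.node (.node (.leaf ⟨37,[35,37,35,37,35,37,35],4,7⟩) (.leaf ⟨37,[36,36,38,37,38,36,37,35,38,37,35,37,36,36,38,35],20,14⟩)) (.leaf ⟨36,[38,36,38,35,37,36,38,35,38,35,38,36,37,35,38],17,1⟩))) (.node (.node (.node (.leaf ⟨37,[36,38,35,37,38,37,36,38,35,37,38],10,7⟩) (.leaf ⟨35,[38,37,38,35,37,36,38,37,36,37,35,35,38,36,37,35],19,16⟩))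 (.leaf ⟨36,[37,35,38,36,37,35,38,36,37,35,38,36,37,35,38],16,9⟩)) (.node (.node (.leaf ⟨37,[36,36,38,35,35,37,38,37,36,36,38,35,35,37,38],13,9⟩) (.leaf ⟨37,[38,37,36,36,38,35,35,37,38,37,36,36,38,35,35],13,15⟩)) (.leaf ⟨38,[35,38,36,36,38,36,38,36,38,36,38,36,38,36,36],18,11⟩))))))) (.node (.node (.node (.node (.node (.node (.node (.leaf ⟨36,[35],0,1⟩) (.leaf ⟨36,[38,36,38,36,36,38,35,38,36,36,38,36,38,36,38],18,5⟩)) (.node (.leaf ⟨35,[35,38,36,36,37,38,37,35,35,38,36,36,37,38,37],14,6⟩) (.leaf ⟨38,[36,36,37,38,37,35,35,38,36,36,37,38,37,35,35],14,8⟩))) (.node (.node (.leaf ⟨35,[38,36,36,38,35,35,38,36,36,38,35],8,11⟩) (.leaf ⟨35,[37,35,37,35,37,35,37],4,0⟩)) (.leaf ⟨38,[37,35,38,36,37,38,37,35,38,36,37],9,3⟩))) (.node (.node (.node (.leaf ⟨36,[36,38,35,35,38,36,36,38,35,35,38],8,7⟩) (.leaf ⟨37,[35,35,38,36,36,37,38,37,35,35,38,36,36,37,38],14,13⟩)) (.leaf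 ⟨38,[36,36,38,35,38,37,38,36,38,35,35,38,36,37,35],15,0⟩)) (.node (.node (.leaf ⟨35,[38,36,38,36,38,35,35,38,36,38,36,38,35],11,13⟩) (.leaf ⟨35,[38,37,35,37,36,36,38,35,37,36,36,38,37,38,36,37],20,5⟩)) (.leaf ⟨35,[38,36,38,36,38,35,37,36,38,35,38,35,38,36,37],17,15⟩)))) (.node (.node (.node (.node (.leaf ⟨35,[37,35,37,35,37,35,37],4,2⟩) (.leaf ⟨35,[38,36,36,38,36,38,36,38,36,38,36,38,36,36,38],18,12⟩)) (.leaf ⟨35,[35,38,36,37,35,38,36,36,38,35,38,37,38,36,38],15,10⟩)) (.node (.node (.leaf ⟨35,[37,36,38,36,37,35,35,35,37,36,38,36,37,35,35],12,5⟩) (.leaf ⟨35,[37,36,36,38,37,38,36,37,35,38,37,35,37,36,36,38],20,13⟩)) (.leaf ⟨38,[36,37,35,38,36,38,36,38,35,37,36,38,35,38,35],17,12⟩))) (.node (.node (.node (.leaf ⟨37,[35,37,35,37,35,37,35],4,3⟩) (.leaf ⟨38,[36,37,35,35,38,37,38,35,37,36,38,37,36,37,35,35],19,12⟩)) (.leaf ⟨38,[37,36,38,35,37,38,37,36,38,35,37],10,6⟩))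 (.node (.node (.leaf ⟨36,[38,35,37,38,37,36,38,35,37,38,37],10,2⟩) (.leaf ⟨38,[36,37,38,37,35,38,36,37,38,37,35],9,0⟩)) (.leaf ⟨37,[35,35,37,35,35,37,35,35],5,0⟩))))) (.node (.node (.node (.node (.node (.leaf ⟨35,[37,35,37,35,37,35,37],4,4⟩) (.leaf ⟨38,[36,38,36,38,36,38,36,36,38,35,38,36,36,38,36],18,2⟩)) (.leaf ⟨38,[35,35,38,36,37,35,38,36,36,38,35,38,37,38,36],15,9⟩)) (.node (.node (.leaf ⟨35,[35,38,36,38,36,38,35,35,38,36,38,36,38],11,5⟩) (.leaf ⟨35,[35,38,36,37,35,35,38,37,38,35,37,36,38,37,36,37],19,10⟩)) (.leaf ⟨37,[36,38,35,38,35,38,36,37,35,38,36,38,36,38,35],17,6⟩))) (.node (.node (.node (.leaf ⟨36,[37,38,37,35,38,36,37,38,37,35,38],9,7⟩) (.leaf ⟨36,[37,35,35,38,37,38,35,37,36,38,37,36,37,35,35,38],19,13⟩)) (.leaf ⟨38,[37,38,37,38,37,38,37],7,2⟩)) (.node (.node (.leaf ⟨37,[35,38,36,37,38,37,35,38,36,37,38],9,10⟩) (.leaf ⟨38,[37,38,36,37,35,38,37,35,37,36,36,38,35,37,36,36],20,0⟩))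 (.leaf ⟨38,[36,38,36,38,35,35,38,36,38,36,38,35,35],11,7⟩)))) (.node (.node (.node (.node (.leaf ⟨37,[35,37,35,37,35,37,35],4,5⟩) (.leaf ⟨38,[36,37,38,37,35,38,36,37,38,37,35],9,6⟩)) (.leaf ⟨36,[38,35,38,37,38,36,38,35,35,38,36,37,35,38,36],15,2⟩)) (.node (.node (.leaf ⟨37,[35,37,35,37,35,37,35],4,1⟩) (.leaf ⟨37,[35,38,37,35,37,36,36,38,35,37,36,36,38,37,38,36],20,4⟩)) (.leaf ⟨38,[35,38,36,37,35,38,36,38,36,38,35,37,36,38,35],17,10⟩))) (.node (.node (.node (.leaf ⟨35,[37,38,37,36,38,35,37,38,37,36,38],10,4⟩) (.leaf ⟨35,[37,36,38,37,36,37,35,35,38,36,37,35,35,38,37,38],19,3⟩)) (.leaf ⟨37,[35,38,36,37,35,38,36,37,35,38,36,37,35,38,36],16,6⟩)) (.node (.node (.leaf ⟨35,[37,38,37,36,36,38,35,35,37,38,37,36,36,38,35],13,6⟩) (.leaf ⟨38,[37,36,36,38,35,35,37,38,37,36,36,38,35,35,37],13,0⟩)) (.leaf ⟨38,[36,38,36,36,38,35,38,36,36,38,36,38,36,38,36],18,6⟩))))))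 (.node (.node (.node (.node (.node (.node (.leaf ⟨37,[37],2,1⟩) (.leaf ⟨38,[36,38,36,38,36,36,38,35,38,36,36,38,36,38,36],18,4⟩)) (.node (.leaf ⟨37,[35,35,38,36,36,37,38,37,35,35,38,36,36,37,38],14,5⟩) (.leaf ⟨35,[35,37,38,37,36,36,38,35,35,37,38,37,36,36,38],13,13⟩))) (.node (.node (.leaf ⟨35,[38,36,38,36,38,35,35,38,36,38,36,38,35],11,6⟩) (.leaf ⟨38,[37,36,38,35,37,38,37,36,38,35,37],10,0⟩)) (.leaf ⟨36,[37,35,35,35,37,36,38,36,37,35,35,35,37,36,38],12,1⟩))) (.node (.node (.node (.leaf ⟨36,[38,35,35,38,36,36,38,35,35,38,36],8,8⟩) (.leaf ⟨35,[35,38,36,36,37,38,37,35,35,38,36,36,37,38,37],14,14⟩)) (.leaf ⟨35,[38,36,36,38,35,38,37,38,36,38,35,35,38,36,37],15,15⟩)) (.node (.node (.leaf ⟨35,[37,38,37,36,38,35,37,38,37,36,38],10,10⟩) (.leaf ⟨36,[36,38,37,38,36,37,35,38,37,35,37,36,36,38,35,37],20,15⟩)) (.leaf ⟨38,[35,35,38,36,36,38,35,35,38,36,36],8,9⟩))))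 (.node (.node (.node (.node (.leaf ⟨35,[35,35,35,35,35,35],3,2⟩) (.leaf ⟨38,[36,38,35,35,38,36,38,36,38,35,35,38,36],11,9⟩)) (.leaf ⟨35,[38,37,38,36,38,35,35,38,36,37,35,38,36,36,38],15,4⟩)) (.node (.node (.leaf ⟨35,[35,35,37,36,38,36,37,35,35,35,37,36,38,36,37],12,11⟩) (.leaf ⟨36,[38,35,37,36,36,38,37,38,36,37,35,38,37,35,37,36],20,11⟩)) (.leaf ⟨35,[37,36,38,35,38,35,38,36,37,35,38,36,38,36,38],17,5⟩))) (.node (.node (.node (.leaf ⟨35,[35,38,36,36,38,35,35,38,36,36,38],8,10⟩) (.leaf ⟨37,[38,35,37,36,38,37,36,37,35,35,38,36,37,35,35,38],19,1⟩)) (.leaf ⟨37,[35,38,36,37,35,38,36,37,35,38,36,37,35,38,36],16,10⟩)) (.node (.node (.leaf ⟨37,[35,35,37,35,35,37,35,35],5,3⟩) (.leaf ⟨38,[35,37,38,37,36,38,35,37,38,37,36],10,3⟩)) (.leaf ⟨38,[36,37,35,35,35,37,36,38,36,37,35,35,35,37,36],12,0⟩))))) (.node (.node (.node (.node (.node (.leaf ⟨35,[35,35,35,35,35,35],3,5⟩)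 (.leaf ⟨36,[38,36,38,36,38,36,38,36,38,36,36,38,35,38,36],18,15⟩)) (.leaf ⟨38,[36,37,35,38,36,36,38,35,38,37,38,36,38,35,35],15,12⟩)) (.node (.node (.leaf ⟨35,[35,37,36,38,36,37,35,35,35,37,36,38,36,37,35],12,12⟩) (.leaf ⟨38,[36,37,35,35,35,37,36,38,36,37,35,35,35,37,36],12,8⟩)) (.leaf ⟨36,[38,35,38,35,38,36,37,35,38,36,38,36,38,35,37],17,7⟩))) (.node (.node (.node (.leaf ⟨37,[38,37,35,38,36,37,38,37,35,38,36],9,8⟩) (.leaf ⟨37,[35,35,38,36,37,35,35,38,37,38,35,37,36,38,37,36],19,9⟩)) (.leaf ⟨38,[35,37,38,37,36,38,35,37,38,37,36],10,9⟩)) (.node (.node (.leaf ⟨37,[38,37,36,38,35,37,38,37,36,38,35],10,11⟩) (.leaf ⟨35,[35,37,35,35,37,35,35,37],5,1⟩)) (.leaf ⟨37,[35,35,35,37,36,38,36,37,35,35,35,37,36,38,36],12,2⟩)))) (.node (.node (.node (.node (.leaf ⟨35,[35,37,35,35,37,35,35,37],5,4⟩) (.leaf ⟨36,[38,35,35,38,36,38,36,38,35,35,38,36,38],11,3⟩)) (.leaf ⟨38,[37,38,36,38,35,35,38,36,37,35,38,36,36,38,35],15,5⟩))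 (.node (.node (.leaf ⟨35,[35,35,35,35,35,35],3,6⟩) (.leaf ⟨37,[38,36,37,35,38,37,35,37,36,36,38,35,37,36,36,38],20,1⟩)) (.leaf ⟨38,[36,38,35,37,36,38,35,38,35,38,36,37,35,38,36],17,2⟩))) (.node (.node (.node (.leaf ⟨37,[38,37,36,38,35,37,38,37,36,38,35],10,5⟩) (.leaf ⟨38,[35,37,36,38,37,36,37,35,35,38,36,37,35,35,38,37],19,2⟩)) (.leaf ⟨37,[35,38,36,37,35,38,36,37,35,38,36,37,35,38,36],16,14⟩)) (.node (.node (.leaf ⟨37,[38,37,36,36,38,35,35,37,38,37,36,36,38,35,35],13,7⟩) (.leaf ⟨36,[38,36,38,36,38,36,38,36,36,38,35,38,36,36,38],18,1⟩)) (.leaf ⟨38,[36,36,38,35,38,36,36,38,36,38,36,38,36,38,36],18,8⟩))))))))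
noncomputable def tc2 : TCL := ⟨[35,36,37,38], [35,36,37], 8192, 36, 0x7ffff, 19, 0xff,
  fun a x => appB tc2T (.leaf 0) 0xfffffffff a x, fun x => lk2 tc2d 0xfffffffff x, tc2r⟩
noncomputable def tc3T : List ℕ := [0,0,0,0,0,0,0,0,0,0,0,0,0,0,0,0,0,0,0,0,0,0,0,0,0,0,0,0,0,0,0,0,0,0,0,tc3t35,tc3t36,tc3t37]
noncomputable def tc3r : Tr Rule := (.node (.node (.node (.node (.node (.leaf ⟨36,[35],0,1⟩) (.leaf ⟨35,[37,35,35,37,35,35,37,35],5,8⟩)) (.leaf ⟨35,[35,37,35,35,37,35,35,37],5,4⟩)) (.node (.leaf ⟨35,[37,35,37,35,37,35,37],4,4⟩) (.leaf ⟨37,[35,37,35,37,35,37,35],4,7⟩))) (.node (.node (.node (.leaf ⟨37,[37],2,1⟩) (.leaf ⟨37,[35,37,35,37,35,37,35],4,3⟩)) (.leaf ⟨35,[35,35,35,35,35,35],3,2⟩)) (.node (.leaf ⟨35,[37,35,35,37,35,35,37,35],5,5⟩) (.leaf ⟨37,[35,37,35,37,35,37,35],4,5⟩)))) (.node (.node (.node (.node (.leaf ⟨35,[36],0,0⟩) (.leaf ⟨37,[35,37,35,37,35,37,35],4,1⟩))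 (.leaf ⟨35,[35,37,35,35,37,35,35,37],5,7⟩)) (.node (.leaf ⟨35,[35,35,35,35,35,35],3,3⟩) (.leaf ⟨35,[37,35,37,35,37,35,37],4,6⟩))) (.node (.node (.leaf ⟨35,[35,35,35,35,35,35],3,4⟩) (.leaf ⟨35,[35,35,35,35,35,35],3,5⟩)) (.node (.leaf ⟨37,[35,35,37,35,35,37,35,35],5,6⟩) (.leaf ⟨35,[37,35,37,35,37,35,37],4,2⟩)))))
noncomputable def tc3 : TCL := ⟨[35,36,37], [], 168, 24, 0xfff, 12, 0x1f,
  fun a x => look 0xffffff (nth tc3T 0 a) x, fun x => look 0xffffff tc3d x, tc3r⟩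
noncomputable def tc : List TCL := [tc0, tc1, tc2, tc3]
noncomputable def inW : List (List ℕ) := [[39,40,39,35,39,35,35,39,40,35,38,35,39,37,38,37,36,36,39,38,35,38,35,38,37,38,35,38,37,36,36,37,35,37],
  [40,39,37,35,37,38,37,39,40,37,35,39,36,38,39,38,37,36,38,37,35,37,35,35,38,37,35,37,36,37,35,35],
  [36,39,35,35,35,37,38,39,40,37,39,36,39,37,39,35,35,39,36,37,38,36,36,36,37,36,38,36,38,37,35,35,35]]
noncomputable def tcS : List ℕ := [35,36,37,38,39,40]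

end Cfsg.Agent.CG.F42
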