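import Cfsg.Agent.Lib.Grp.F42.C0
import Cfsg.Agent.Lib.Grp.F42.C1
import Cfsg.Agent.Lib.Grp.F42.C2
import Cfsg.Agent.Lib.Grp.F42.C3
import Cfsg.Agent.Lib.Grp.F42.C4
import Cfsg.Agent.Lib.Grp.F42.C5
import Cfsg.Agent.Lib.Grp.F42.C6
import Cfsg.Agent.Lib.Grp.F42.C7
import Cfsg.Agent.Lib.Grp.F42.C8
import Cfsg.Agent.Lib.Grp.F42.C9

set_option autoImplicit false
set_option maxRecDepth 100000
set_option Elab.async false
set_option linter.unusedSectionVars false

namespace Cfsg.Agent.CG.F42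

theorem tabOK : TabOK 69615 24 app 3 41 inv slp where
  w_pos := by decide
  base := allRange_of_allL (l := [0,1,2]) (by decide +kernel) (allL_cons (allLt_of_allRange (rapp (allRange (chkBase 69615 24 (appB tabs t41 0xffffff) 0 (inv 0))) (fun _ _ _ => allRange_append) 69615 (rapp (allRange (chkBase 69615 24 (appB tabs t41 0xffffff) 0 (inv 0))) (fun _ _ _ => allRange_append) 60000 (rapp (allRange (chkBase 69615 24 (appB tabs t41 0xffffff) 0 (inv 0))) (fun _ _ _ => allRange_append) 40000 c0 c1 rfl rfl) c2 rfl rfl) c3 rfl rfl)) (allL_cons (allLt_of_allRange (rapp (allRange (chkBase 69615 24 (appB tabs t41 0xffffff) 1 (inv 1))) (fun _ _ _ => allRange_append) 69615 (rapp (allRange (chkBase 69615 24 (appB tabs t41 0xffffff) 1 (inv 1))) (fun _ _ _ => allRange_append) 60000 (rapp (allRange (chkBase 69615 24 (appB tabs t41 0xffffff) 1 (inv 1))) (fun _ _ _ => allRange_append) 40000 c4 c5 rfl rfl) c6 rfl rfl) c7 rfl rfl)) (allL_cons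 (allLt_of_allRange (rapp (allRange (chkBase 69615 24 (appB tabs t41 0xffffff) 2 (inv 2))) (fun _ _ _ => allRange_append) 69615 (rapp (allRange (chkBase 69615 24 (appB tabs t41 0xffffff) 2 (inv 2))) (fun _ _ _ => allRange_append) 60000 (rapp (allRange (chkBase 69615 24 (appB tabs t41 0xffffff) 2 (inv 2))) (fun _ _ _ => allRange_append) 40000 c8 c9 rfl rfl) c10 rfl rfl) c11 rfl rfl)) (allL_nil _))))
  defs := allRange_of_allL (l := [3,4,5,6,7,8,9,10,11,12,13,14,15,16,17,18,19,20,21,22,23,24,25,26,27,28,29,30,31,32,33,34,35,36,37,38,39,40]) (by decide +kernel) (allL_cons (rapp (chkDef 24 (appB tabs t41 0xffffff) 3 (slp 3)) (fun _ _ _ => chkDef_append) 69615 (rapp (chkDef 24 (appB tabs t41 0xffffff) 3 (slp 3)) (fun _ _ _ => chkDef_append) 60000 (rapp (chkDef 24 (appB tabs t41 0xffffff) 3 (slp 3)) (fun _ _ _ => chkDef_append) 40000 c12 c13 rfl rfl) c14 rfl rfl) c15 rfl rfl) (allL_cons (rapp (chkDef 24 (appB tabs t41 0xffffff)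 4 (slp 4)) (fun _ _ _ => chkDef_append) 69615 (rapp (chkDef 24 (appB tabs t41 0xffffff) 4 (slp 4)) (fun _ _ _ => chkDef_append) 60000 (rapp (chkDef 24 (appB tabs t41 0xffffff) 4 (slp 4)) (fun _ _ _ => chkDef_append) 40000 c16 c17 rfl rfl) c18 rfl rfl) c19 rfl rfl) (allL_cons (rapp (chkDef 24 (appB tabs t41 0xffffff) 5 (slp 5)) (fun _ _ _ => chkDef_append) 69615 (rapp (chkDef 24 (appB tabs t41 0xffffff) 5 (slp 5)) (fun _ _ _ => chkDef_append) 60000 (rapp (chkDef 24 (appB tabs t41 0xffffff) 5 (slp 5)) (fun _ _ _ => chkDef_append) 40000 c20 c21 rfl rfl) c22 rfl rfl) c23 rfl rfl) (allL_cons (rapp (chkDef 24 (appB tabs t41 0xffffff) 6 (slp 6)) (fun _ _ _ => chkDef_append) 69615 (rapp (chkDef 24 (appB tabs t41 0xffffff) 6 (slp 6)) (fun _ _ _ => chkDef_append) 60000 (rapp (chkDef 24 (appB tabs t41 0xffffff) 6 (slp 6)) (fun _ _ _ => chkDef_append) 40000 c24 c25 rfl rfl) c26 rfl rfl) c27 rfl rfl) (allL_cons (rapp (chkDef 24 (appB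 tabs t41 0xffffff) 7 (slp 7)) (fun _ _ _ => chkDef_append) 69615 (rapp (chkDef 24 (appB tabs t41 0xffffff) 7 (slp 7)) (fun _ _ _ => chkDef_append) 60000 (rapp (chkDef 24 (appB tabs t41 0xffffff) 7 (slp 7)) (fun _ _ _ => chkDef_append) 40000 c28 c29 rfl rfl) c30 rfl rfl) c31 rfl rfl) (allL_cons (rapp (chkDef 24 (appB tabs t41 0xffffff) 8 (slp 8)) (fun _ _ _ => chkDef_append) 69615 (rapp (chkDef 24 (appB tabs t41 0xffffff) 8 (slp 8)) (fun _ _ _ => chkDef_append) 60000 (rapp (chkDef 24 (appB tabs t41 0xffffff) 8 (slp 8)) (fun _ _ _ => chkDef_append) 40000 c32 c33 rfl rfl) c34 rfl rfl) c35 rfl rfl) (allL_cons (rapp (chkDef 24 (appB tabs t41 0xffffff) 9 (slp 9)) (fun _ _ _ => chkDef_append) 69615 (rapp (chkDef 24 (appB tabs t41 0xffffff) 9 (slp 9)) (fun _ _ _ => chkDef_append) 60000 (rapp (chkDef 24 (appB tabs t41 0xffffff) 9 (slp 9)) (fun _ _ _ => chkDef_append) 40000 c36 c37 rfl rfl) c38 rfl rfl) c39 rfl rfl) (allL_cons (rapp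 (chkDef 24 (appB tabs t41 0xffffff) 10 (slp 10)) (fun _ _ _ => chkDef_append) 69615 (rapp (chkDef 24 (appB tabs t41 0xffffff) 10 (slp 10)) (fun _ _ _ => chkDef_append) 60000 (rapp (chkDef 24 (appB tabs t41 0xffffff) 10 (slp 10)) (fun _ _ _ => chkDef_append) 40000 c40 c41 rfl rfl) c42 rfl rfl) c43 rfl rfl) (allL_cons (rapp (chkDef 24 (appB tabs t41 0xffffff) 11 (slp 11)) (fun _ _ _ => chkDef_append) 69615 (rapp (chkDef 24 (appB tabs t41 0xffffff) 11 (slp 11)) (fun _ _ _ => chkDef_append) 60000 (rapp (chkDef 24 (appB tabs t41 0xffffff) 11 (slp 11)) (fun _ _ _ => chkDef_append) 40000 c44 c45 rfl rfl) c46 rfl rfl) c47 rfl rfl) (allL_cons (rapp (chkDef 24 (appB tabs t41 0xffffff) 12 (slp 12)) (fun _ _ _ => chkDef_append) 69615 (rapp (chkDef 24 (appB tabs t41 0xffffff) 12 (slp 12)) (fun _ _ _ => chkDef_append) 60000 (rapp (chkDef 24 (appB tabs t41 0xffffff) 12 (slp 12)) (fun _ _ _ => chkDef_append) 40000 c48 c49 rfl rfl) c50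 rfl rfl) c51 rfl rfl) (allL_cons (rapp (chkDef 24 (appB tabs t41 0xffffff) 13 (slp 13)) (fun _ _ _ => chkDef_append) 69615 (rapp (chkDef 24 (appB tabs t41 0xffffff) 13 (slp 13)) (fun _ _ _ => chkDef_append) 60000 (rapp (chkDef 24 (appB tabs t41 0xffffff) 13 (slp 13)) (fun _ _ _ => chkDef_append) 40000 c52 c53 rfl rfl) c54 rfl rfl) c55 rfl rfl) (allL_cons (rapp (chkDef 24 (appB tabs t41 0xffffff) 14 (slp 14)) (fun _ _ _ => chkDef_append) 69615 (rapp (chkDef 24 (appB tabs t41 0xffffff) 14 (slp 14)) (fun _ _ _ => chkDef_append) 60000 (rapp (chkDef 24 (appB tabs t41 0xffffff) 14 (slp 14)) (fun _ _ _ => chkDef_append) 40000 c56 c57 rfl rfl) c58 rfl rfl) c59 rfl rfl) (allL_cons (rapp (chkDef 24 (appB tabs t41 0xffffff) 15 (slp 15)) (fun _ _ _ => chkDef_append) 69615 (rapp (chkDef 24 (appB tabs t41 0xffffff) 15 (slp 15)) (fun _ _ _ => chkDef_append) 60000 (rapp (chkDef 24 (appB tabs t41 0xffffff) 15 (slp 15)) (fun _ _ _ => chkDef_append)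 40000 c60 c61 rfl rfl) c62 rfl rfl) c63 rfl rfl) (allL_cons (rapp (chkDef 24 (appB tabs t41 0xffffff) 16 (slp 16)) (fun _ _ _ => chkDef_append) 69615 (rapp (chkDef 24 (appB tabs t41 0xffffff) 16 (slp 16)) (fun _ _ _ => chkDef_append) 60000 (rapp (chkDef 24 (appB tabs t41 0xffffff) 16 (slp 16)) (fun _ _ _ => chkDef_append) 40000 c64 c65 rfl rfl) c66 rfl rfl) c67 rfl rfl) (allL_cons (rapp (chkDef 24 (appB tabs t41 0xffffff) 17 (slp 17)) (fun _ _ _ => chkDef_append) 69615 (rapp (chkDef 24 (appB tabs t41 0xffffff) 17 (slp 17)) (fun _ _ _ => chkDef_append) 60000 (rapp (chkDef 24 (appB tabs t41 0xffffff) 17 (slp 17)) (fun _ _ _ => chkDef_append) 40000 c68 c69 rfl rfl) c70 rfl rfl) c71 rfl rfl) (allL_cons (rapp (chkDef 24 (appB tabs t41 0xffffff) 18 (slp 18)) (fun _ _ _ => chkDef_append) 69615 (rapp (chkDef 24 (appB tabs t41 0xffffff) 18 (slp 18)) (fun _ _ _ => chkDef_append) 60000 (rapp (chkDef 24 (appB tabs t41 0xffffff) 18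 (slp 18)) (fun _ _ _ => chkDef_append) 40000 c72 c73 rfl rfl) c74 rfl rfl) c75 rfl rfl) (allL_cons (rapp (chkDef 24 (appB tabs t41 0xffffff) 19 (slp 19)) (fun _ _ _ => chkDef_append) 69615 (rapp (chkDef 24 (appB tabs t41 0xffffff) 19 (slp 19)) (fun _ _ _ => chkDef_append) 60000 (rapp (chkDef 24 (appB tabs t41 0xffffff) 19 (slp 19)) (fun _ _ _ => chkDef_append) 40000 c76 c77 rfl rfl) c78 rfl rfl) c79 rfl rfl) (allL_cons (rapp (chkDef 24 (appB tabs t41 0xffffff) 20 (slp 20)) (fun _ _ _ => chkDef_append) 69615 (rapp (chkDef 24 (appB tabs t41 0xffffff) 20 (slp 20)) (fun _ _ _ => chkDef_append) 60000 (rapp (chkDef 24 (appB tabs t41 0xffffff) 20 (slp 20)) (fun _ _ _ => chkDef_append) 40000 c80 c81 rfl rfl) c82 rfl rfl) c83 rfl rfl) (allL_cons (rapp (chkDef 24 (appB tabs t41 0xffffff) 21 (slp 21)) (fun _ _ _ => chkDef_append) 69615 (rapp (chkDef 24 (appB tabs t41 0xffffff) 21 (slp 21)) (fun _ _ _ => chkDef_append) 60000 (rapp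 (chkDef 24 (appB tabs t41 0xffffff) 21 (slp 21)) (fun _ _ _ => chkDef_append) 40000 c84 c85 rfl rfl) c86 rfl rfl) c87 rfl rfl) (allL_cons (rapp (chkDef 24 (appB tabs t41 0xffffff) 22 (slp 22)) (fun _ _ _ => chkDef_append) 69615 (rapp (chkDef 24 (appB tabs t41 0xffffff) 22 (slp 22)) (fun _ _ _ => chkDef_append) 60000 (rapp (chkDef 24 (appB tabs t41 0xffffff) 22 (slp 22)) (fun _ _ _ => chkDef_append) 40000 c88 c89 rfl rfl) c90 rfl rfl) c91 rfl rfl) (allL_cons (rapp (chkDef 24 (appB tabs t41 0xffffff) 23 (slp 23)) (fun _ _ _ => chkDef_append) 69615 (rapp (chkDef 24 (appB tabs t41 0xffffff) 23 (slp 23)) (fun _ _ _ => chkDef_append) 60000 (rapp (chkDef 24 (appB tabs t41 0xffffff) 23 (slp 23)) (fun _ _ _ => chkDef_append) 40000 c92 c93 rfl rfl) c94 rfl rfl) c95 rfl rfl) (allL_cons (rapp (chkDef 24 (appB tabs t41 0xffffff) 24 (slp 24)) (fun _ _ _ => chkDef_append) 69615 (rapp (chkDef 24 (appB tabs t41 0xffffff) 24 (slp 24)) (fun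 _ _ _ => chkDef_append) 60000 (rapp (chkDef 24 (appB tabs t41 0xffffff) 24 (slp 24)) (fun _ _ _ => chkDef_append) 40000 c96 c97 rfl rfl) c98 rfl rfl) c99 rfl rfl) (allL_cons (rapp (chkDef 24 (appB tabs t41 0xffffff) 25 (slp 25)) (fun _ _ _ => chkDef_append) 69615 (rapp (chkDef 24 (appB tabs t41 0xffffff) 25 (slp 25)) (fun _ _ _ => chkDef_append) 60000 (rapp (chkDef 24 (appB tabs t41 0xffffff) 25 (slp 25)) (fun _ _ _ => chkDef_append) 40000 c100 c101 rfl rfl) c102 rfl rfl) c103 rfl rfl) (allL_cons (rapp (chkDef 24 (appB tabs t41 0xffffff) 26 (slp 26)) (fun _ _ _ => chkDef_append) 69615 (rapp (chkDef 24 (appB tabs t41 0xffffff) 26 (slp 26)) (fun _ _ _ => chkDef_append) 60000 (rapp (chkDef 24 (appB tabs t41 0xffffff) 26 (slp 26)) (fun _ _ _ => chkDef_append) 40000 c104 c105 rfl rfl) c106 rfl rfl) c107 rfl rfl) (allL_cons (rapp (chkDef 24 (appB tabs t41 0xffffff) 27 (slp 27)) (fun _ _ _ => chkDef_append) 69615 (rapp (chkDef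 24 (appB tabs t41 0xffffff) 27 (slp 27)) (fun _ _ _ => chkDef_append) 60000 (rapp (chkDef 24 (appB tabs t41 0xffffff) 27 (slp 27)) (fun _ _ _ => chkDef_append) 40000 c108 c109 rfl rfl) c110 rfl rfl) c111 rfl rfl) (allL_cons (rapp (chkDef 24 (appB tabs t41 0xffffff) 28 (slp 28)) (fun _ _ _ => chkDef_append) 69615 (rapp (chkDef 24 (appB tabs t41 0xffffff) 28 (slp 28)) (fun _ _ _ => chkDef_append) 60000 (rapp (chkDef 24 (appB tabs t41 0xffffff) 28 (slp 28)) (fun _ _ _ => chkDef_append) 40000 c112 c113 rfl rfl) c114 rfl rfl) c115 rfl rfl) (allL_cons (rapp (chkDef 24 (appB tabs t41 0xffffff) 29 (slp 29)) (fun _ _ _ => chkDef_append) 69615 (rapp (chkDef 24 (appB tabs t41 0xffffff) 29 (slp 29)) (fun _ _ _ => chkDef_append) 60000 (rapp (chkDef 24 (appB tabs t41 0xffffff) 29 (slp 29)) (fun _ _ _ => chkDef_append) 40000 c116 c117 rfl rfl) c118 rfl rfl) c119 rfl rfl) (allL_cons (rapp (chkDef 24 (appB tabs t41 0xffffff) 30 (slp 30))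 (fun _ _ _ => chkDef_append) 69615 (rapp (chkDef 24 (appB tabs t41 0xffffff) 30 (slp 30)) (fun _ _ _ => chkDef_append) 60000 (rapp (chkDef 24 (appB tabs t41 0xffffff) 30 (slp 30)) (fun _ _ _ => chkDef_append) 40000 c120 c121 rfl rfl) c122 rfl rfl) c123 rfl rfl) (allL_cons (rapp (chkDef 24 (appB tabs t41 0xffffff) 31 (slp 31)) (fun _ _ _ => chkDef_append) 69615 (rapp (chkDef 24 (appB tabs t41 0xffffff) 31 (slp 31)) (fun _ _ _ => chkDef_append) 60000 (rapp (chkDef 24 (appB tabs t41 0xffffff) 31 (slp 31)) (fun _ _ _ => chkDef_append) 40000 c124 c125 rfl rfl) c126 rfl rfl) c127 rfl rfl) (allL_cons (rapp (chkDef 24 (appB tabs t41 0xffffff) 32 (slp 32)) (fun _ _ _ => chkDef_append) 69615 (rapp (chkDef 24 (appB tabs t41 0xffffff) 32 (slp 32)) (fun _ _ _ => chkDef_append) 60000 (rapp (chkDef 24 (appB tabs t41 0xffffff) 32 (slp 32)) (fun _ _ _ => chkDef_append) 40000 c128 c129 rfl rfl) c130 rfl rfl) c131 rfl rfl) (allL_cons (rapp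 (chkDef 24 (appB tabs t41 0xffffff) 33 (slp 33)) (fun _ _ _ => chkDef_append) 69615 (rapp (chkDef 24 (appB tabs t41 0xffffff) 33 (slp 33)) (fun _ _ _ => chkDef_append) 60000 (rapp (chkDef 24 (appB tabs t41 0xffffff) 33 (slp 33)) (fun _ _ _ => chkDef_append) 40000 c132 c133 rfl rfl) c134 rfl rfl) c135 rfl rfl) (allL_cons (rapp (chkDef 24 (appB tabs t41 0xffffff) 34 (slp 34)) (fun _ _ _ => chkDef_append) 69615 (rapp (chkDef 24 (appB tabs t41 0xffffff) 34 (slp 34)) (fun _ _ _ => chkDef_append) 60000 (rapp (chkDef 24 (appB tabs t41 0xffffff) 34 (slp 34)) (fun _ _ _ => chkDef_append) 40000 c136 c137 rfl rfl) c138 rfl rfl) c139 rfl rfl) (allL_cons (rapp (chkDef 24 (appB tabs t41 0xffffff) 35 (slp 35)) (fun _ _ _ => chkDef_append) 69615 (rapp (chkDef 24 (appB tabs t41 0xffffff) 35 (slp 35)) (fun _ _ _ => chkDef_append) 60000 (rapp (chkDef 24 (appB tabs t41 0xffffff) 35 (slp 35)) (fun _ _ _ => chkDef_append) 40000 c140 c141 rfl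 rfl) c142 rfl rfl) c143 rfl rfl) (allL_cons (rapp (chkDef 24 (appB tabs t41 0xffffff) 36 (slp 36)) (fun _ _ _ => chkDef_append) 69615 (rapp (chkDef 24 (appB tabs t41 0xffffff) 36 (slp 36)) (fun _ _ _ => chkDef_append) 60000 (rapp (chkDef 24 (appB tabs t41 0xffffff) 36 (slp 36)) (fun _ _ _ => chkDef_append) 40000 c144 c145 rfl rfl) c146 rfl rfl) c147 rfl rfl) (allL_cons (rapp (chkDef 24 (appB tabs t41 0xffffff) 37 (slp 37)) (fun _ _ _ => chkDef_append) 69615 (rapp (chkDef 24 (appB tabs t41 0xffffff) 37 (slp 37)) (fun _ _ _ => chkDef_append) 60000 (rapp (chkDef 24 (appB tabs t41 0xffffff) 37 (slp 37)) (fun _ _ _ => chkDef_append) 40000 c148 c149 rfl rfl) c150 rfl rfl) c151 rfl rfl) (allL_cons (rapp (chkDef 24 (appB tabs t41 0xffffff) 38 (slp 38)) (fun _ _ _ => chkDef_append) 69615 (rapp (chkDef 24 (appB tabs t41 0xffffff) 38 (slp 38)) (fun _ _ _ => chkDef_append) 60000 (rapp (chkDef 24 (appB tabs t41 0xffffff) 38 (slp 38))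 (fun _ _ _ => chkDef_append) 40000 c152 c153 rfl rfl) c154 rfl rfl) c155 rfl rfl) (allL_cons (rapp (chkDef 24 (appB tabs t41 0xffffff) 39 (slp 39)) (fun _ _ _ => chkDef_append) 69615 (rapp (chkDef 24 (appB tabs t41 0xffffff) 39 (slp 39)) (fun _ _ _ => chkDef_append) 60000 (rapp (chkDef 24 (appB tabs t41 0xffffff) 39 (slp 39)) (fun _ _ _ => chkDef_append) 40000 c156 c157 rfl rfl) c158 rfl rfl) c159 rfl rfl) (allL_cons (rapp (chkDef 24 (appB tabs t41 0xffffff) 40 (slp 40)) (fun _ _ _ => chkDef_append) 69615 (rapp (chkDef 24 (appB tabs t41 0xffffff) 40 (slp 40)) (fun _ _ _ => chkDef_append) 60000 (rapp (chkDef 24 (appB tabs t41 0xffffff) 40 (slp 40)) (fun _ _ _ => chkDef_append) 40000 c160 c161 rfl rfl) c162 rfl rfl) c163 rfl rfl) (allL_nil _)))))))))))))))))))))))))))))))))))))))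
  lt := by decide +kernel
  triv := appB_triv (by decide +kernel)
  trivk := (rapp (chkDef 24 (appB tabs t41 0xffffff) 41 (false, [])) (fun _ _ _ => chkDef_append) 69615 (rapp (chkDef 24 (appB tabs t41 0xffffff) 41 (false, [])) (fun _ _ _ => chkDef_append) 60000 (rapp (chkDef 24 (appB tabs t41 0xffffff) 41 (false, [])) (fun _ _ _ => chkDef_append) 40000 c164 c165 rfl rfl) c166 rfl rfl) c167 rfl rfl)

/-- The group generated by the basic tables. -/
noncomputable abbrev PG : Subgroup (Equiv.Perm (Fin 69615)) := tabGroup 69615 24 app 3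

noncomputable def act : Act PG (Fin 69615) := tabOK.act

theorem chain : ChainOK act mc [] :=
  chainOK_of_chk act mc [] (by simp) (okc_of_okcb c176) c177
  (allL_cons (rapp (mc0.chk (appB tabs t41 0xffffff)) (fun _ _ _ => Lvl.chk_append) 69614 (rapp (mc0.chk (appB tabs t41 0xffffff)) (fun _ _ _ => Lvl.chk_append) 60000 (rapp (mc0.chk (appB tabs t41 0xffffff)) (fun _ _ _ => Lvl.chk_append) 40000 c168 c169 rfl rfl) c170 rfl rfl) c171 rfl rfl) (allL_cons (rapp (mc1.chk (appB tabs t41 0xffffff)) (fun _ _ _ => Lvl.chk_append) 34559 c172 c173 rfl rfl) (allL_cons c174 (allL_cons c175 (allL_nil _)))))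

theorem bounds : Bounds tcR tcS 3311126603366400 :=
  (show prodTC tc = 3311126603366400 by decide +kernel) ▸ bounds_of_chain c218
  (allL_cons c178 (allL_cons c203 (allL_cons c214 (allL_cons c216 (allL_nil _)))))
  (allL_cons (show allL (fun a => tc0.chk a 0 69615) [35,36,37,38,39,40] = true from (allL_cons (rapp (tc0.chk 35) (fun _ _ _ => TCL.chk_append) 69615 (rapp (tc0.chk 35) (fun _ _ _ => TCL.chk_append) 60000 (rapp (tc0.chk 35) (fun _ _ _ => TCL.chk_append) 40000 c179 c180 rfl rfl) c181 rfl rfl) c182 rfl rfl) (allL_cons (rapp (tc0.chk 36) (fun _ _ _ => TCL.chk_append) 69615 (rapp (tc0.chk 36) (fun _ _ _ => TCL.chk_append) 60000 (rapp (tc0.chk 36) (fun _ _ _ => TCL.chk_append) 40000 c183 c184 rfl rfl) c185 rfl rfl) c186 rfl rfl) (allL_cons (rapp (tc0.chk 37) (fun _ _ _ => TCL.chk_append) 69615 (rapp (tc0.chk 37) (fun _ _ _ => TCL.chk_append) 60000 (rapp (tc0.chk 37) (fun _ _ _ => TCL.chk_append) 40000 c187 c188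 rfl rfl) c189 rfl rfl) c190 rfl rfl) (allL_cons (rapp (tc0.chk 38) (fun _ _ _ => TCL.chk_append) 69615 (rapp (tc0.chk 38) (fun _ _ _ => TCL.chk_append) 60000 (rapp (tc0.chk 38) (fun _ _ _ => TCL.chk_append) 40000 c191 c192 rfl rfl) c193 rfl rfl) c194 rfl rfl) (allL_cons (rapp (tc0.chk 39) (fun _ _ _ => TCL.chk_append) 69615 (rapp (tc0.chk 39) (fun _ _ _ => TCL.chk_append) 60000 (rapp (tc0.chk 39) (fun _ _ _ => TCL.chk_append) 40000 c195 c196 rfl rfl) c197 rfl rfl) c198 rfl rfl) (allL_cons (rapp (tc0.chk 40) (fun _ _ _ => TCL.chk_append) 69615 (rapp (tc0.chk 40) (fun _ _ _ => TCL.chk_append) 60000 (rapp (tc0.chk 40) (fun _ _ _ => TCL.chk_append) 40000 c199 c200 rfl rfl) c201 rfl rfl) c202 rfl rfl) (allL_nil _)))))))) (allL_cons (show allL (fun a => tc1.chk a 0 34560) [35,36,37,38,39] = true from (allL_cons (rapp (tc1.chk 35) (fun _ _ _ => TCL.chk_append) 34560 c204 c205 rfl rfl) (allL_cons (rapp (tc1.chk 36) (fun _ _ _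 => TCL.chk_append) 34560 c206 c207 rfl rfl) (allL_cons (rapp (tc1.chk 37) (fun _ _ _ => TCL.chk_append) 34560 c208 c209 rfl rfl) (allL_cons (rapp (tc1.chk 38) (fun _ _ _ => TCL.chk_append) 34560 c210 c211 rfl rfl) (allL_cons (rapp (tc1.chk 39) (fun _ _ _ => TCL.chk_append) 34560 c212 c213 rfl rfl) (allL_nil _))))))) (allL_cons c215 (allL_cons c217 (allL_nil _)))))

theorem rels : ∀ v ∈ tcR, ev act.gen v = 1 :=
  tabOK.rels (allL_cons (rapp (oneAll 24 (appB tabs t41 0xffffff) [35,36]) (fun _ _ _ => oneAll_append) 69615 (rapp (oneAll 24 (appB tabs t41 0xffffff) [35,36]) (fun _ _ _ => oneAll_append) 60000 (rapp (oneAll 24 (appB tabs t41 0xffffff) [35,36]) (fun _ _ _ => oneAll_append) 40000 c219 c220 rfl rfl) c221 rfl rfl) c222 rfl rfl) (allL_cons (rapp (oneAll 24 (appB tabs t41 0xffffff) [36,35]) (fun _ _ _ => oneAll_append) 69615 (rapp (oneAll 24 (appB tabs t41 0xffffff) [36,35]) (fun _ _ _ => oneAll_append) 60000 (rapp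 (oneAll 24 (appB tabs t41 0xffffff) [36,35]) (fun _ _ _ => oneAll_append) 40000 c223 c224 rfl rfl) c225 rfl rfl) c226 rfl rfl) (allL_cons (rapp (oneAll 24 (appB tabs t41 0xffffff) [37,37]) (fun _ _ _ => oneAll_append) 69615 (rapp (oneAll 24 (appB tabs t41 0xffffff) [37,37]) (fun _ _ _ => oneAll_append) 60000 (rapp (oneAll 24 (appB tabs t41 0xffffff) [37,37]) (fun _ _ _ => oneAll_append) 40000 c227 c228 rfl rfl) c229 rfl rfl) c230 rfl rfl) (allL_cons (rapp (oneAll 24 (appB tabs t41 0xffffff) [35,35,35,35,35,35,35]) (fun _ _ _ => oneAll_append) 69615 (rapp (oneAll 24 (appB tabs t41 0xffffff) [35,35,35,35,35,35,35]) (fun _ _ _ => oneAll_append) 60000 (rapp (oneAll 24 (appB tabs t41 0xffffff) [35,35,35,35,35,35,35]) (fun _ _ _ => oneAll_append) 40000 c231 c232 rfl rfl) c233 rfl rfl) c234 rfl rfl) (allL_cons (rapp (oneAll 24 (appB tabs t41 0xffffff) [35,37,35,37,35,37,35,37]) (fun _ _ _ => oneAll_append) 69615 (rapp (oneAll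 24 (appB tabs t41 0xffffff) [35,37,35,37,35,37,35,37]) (fun _ _ _ => oneAll_append) 60000 (rapp (oneAll 24 (appB tabs t41 0xffffff) [35,37,35,37,35,37,35,37]) (fun _ _ _ => oneAll_append) 40000 c235 c236 rfl rfl) c237 rfl rfl) c238 rfl rfl) (allL_cons (rapp (oneAll 24 (appB tabs t41 0xffffff) [37,35,35,37,35,35,37,35,35]) (fun _ _ _ => oneAll_append) 69615 (rapp (oneAll 24 (appB tabs t41 0xffffff) [37,35,35,37,35,35,37,35,35]) (fun _ _ _ => oneAll_append) 60000 (rapp (oneAll 24 (appB tabs t41 0xffffff) [37,35,35,37,35,35,37,35,35]) (fun _ _ _ => oneAll_append) 40000 c239 c240 rfl rfl) c241 rfl rfl) c242 rfl rfl) (allL_cons (rapp (oneAll 24 (appB tabs t41 0xffffff) [38,38]) (fun _ _ _ => oneAll_append) 69615 (rapp (oneAll 24 (appB tabs t41 0xffffff) [38,38]) (fun _ _ _ => oneAll_append) 60000 (rapp (oneAll 24 (appB tabs t41 0xffffff) [38,38]) (fun _ _ _ => oneAll_append) 40000 c243 c244 rfl rfl) c245 rfl rfl) c246 rfl rfl)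 (allL_cons (rapp (oneAll 24 (appB tabs t41 0xffffff) [38,37,38,37,38,37,38,37]) (fun _ _ _ => oneAll_append) 69615 (rapp (oneAll 24 (appB tabs t41 0xffffff) [38,37,38,37,38,37,38,37]) (fun _ _ _ => oneAll_append) 60000 (rapp (oneAll 24 (appB tabs t41 0xffffff) [38,37,38,37,38,37,38,37]) (fun _ _ _ => oneAll_append) 40000 c247 c248 rfl rfl) c249 rfl rfl) c250 rfl rfl) (allL_cons (rapp (oneAll 24 (appB tabs t41 0xffffff) [38,36,36,38,35,35,38,36,36,38,35,35]) (fun _ _ _ => oneAll_append) 69615 (rapp (oneAll 24 (appB tabs t41 0xffffff) [38,36,36,38,35,35,38,36,36,38,35,35]) (fun _ _ _ => oneAll_append) 60000 (rapp (oneAll 24 (appB tabs t41 0xffffff) [38,36,36,38,35,35,38,36,36,38,35,35]) (fun _ _ _ => oneAll_append) 40000 c251 c252 rfl rfl) c253 rfl rfl) c254 rfl rfl) (allL_cons (rapp (oneAll 24 (appB tabs t41 0xffffff) [38,36,37,38,37,35,38,36,37,38,37,35]) (fun _ _ _ => oneAll_append) 69615 (rapp (oneAll 24 (appB tabs t41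 0xffffff) [38,36,37,38,37,35,38,36,37,38,37,35]) (fun _ _ _ => oneAll_append) 60000 (rapp (oneAll 24 (appB tabs t41 0xffffff) [38,36,37,38,37,35,38,36,37,38,37,35]) (fun _ _ _ => oneAll_append) 40000 c255 c256 rfl rfl) c257 rfl rfl) c258 rfl rfl) (allL_cons (rapp (oneAll 24 (appB tabs t41 0xffffff) [38,37,36,38,35,37,38,37,36,38,35,37]) (fun _ _ _ => oneAll_append) 69615 (rapp (oneAll 24 (appB tabs t41 0xffffff) [38,37,36,38,35,37,38,37,36,38,35,37]) (fun _ _ _ => oneAll_append) 60000 (rapp (oneAll 24 (appB tabs t41 0xffffff) [38,37,36,38,35,37,38,37,36,38,35,37]) (fun _ _ _ => oneAll_append) 40000 c259 c260 rfl rfl) c261 rfl rfl) c262 rfl rfl) (allL_cons (rapp (oneAll 24 (appB tabs t41 0xffffff) [38,36,38,36,38,35,35,38,36,38,36,38,35,35]) (fun _ _ _ => oneAll_append) 69615 (rapp (oneAll 24 (appB tabs t41 0xffffff) [38,36,38,36,38,35,35,38,36,38,36,38,35,35]) (fun _ _ _ => oneAll_append) 60000 (rapp (oneAll 24 (appB tabs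 t41 0xffffff) [38,36,38,36,38,35,35,38,36,38,36,38,35,35]) (fun _ _ _ => oneAll_append) 40000 c263 c264 rfl rfl) c265 rfl rfl) c266 rfl rfl) (allL_cons (rapp (oneAll 24 (appB tabs t41 0xffffff) [38,36,37,35,35,35,37,36,38,36,37,35,35,35,37,36]) (fun _ _ _ => oneAll_append) 69615 (rapp (oneAll 24 (appB tabs t41 0xffffff) [38,36,37,35,35,35,37,36,38,36,37,35,35,35,37,36]) (fun _ _ _ => oneAll_append) 60000 (rapp (oneAll 24 (appB tabs t41 0xffffff) [38,36,37,35,35,35,37,36,38,36,37,35,35,35,37,36]) (fun _ _ _ => oneAll_append) 40000 c267 c268 rfl rfl) c269 rfl rfl) c270 rfl rfl) (allL_cons (rapp (oneAll 24 (appB tabs t41 0xffffff) [38,37,36,36,38,35,35,37,38,37,36,36,38,35,35,37]) (fun _ _ _ => oneAll_append) 69615 (rapp (oneAll 24 (appB tabs t41 0xffffff) [38,37,36,36,38,35,35,37,38,37,36,36,38,35,35,37]) (fun _ _ _ => oneAll_append) 60000 (rapp (oneAll 24 (appB tabs t41 0xffffff) [38,37,36,36,38,35,35,37,38,37,36,36,38,35,35,37])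 (fun _ _ _ => oneAll_append) 40000 c271 c272 rfl rfl) c273 rfl rfl) c274 rfl rfl) (allL_cons (rapp (oneAll 24 (appB tabs t41 0xffffff) [38,36,36,37,38,37,35,35,38,36,36,37,38,37,35,35]) (fun _ _ _ => oneAll_append) 69615 (rapp (oneAll 24 (appB tabs t41 0xffffff) [38,36,36,37,38,37,35,35,38,36,36,37,38,37,35,35]) (fun _ _ _ => oneAll_append) 60000 (rapp (oneAll 24 (appB tabs t41 0xffffff) [38,36,36,37,38,37,35,35,38,36,36,37,38,37,35,35]) (fun _ _ _ => oneAll_append) 40000 c275 c276 rfl rfl) c277 rfl rfl) c278 rfl rfl) (allL_cons (rapp (oneAll 24 (appB tabs t41 0xffffff) [38,36,36,38,35,38,37,38,36,38,35,35,38,36,37,35]) (fun _ _ _ => oneAll_append) 69615 (rapp (oneAll 24 (appB tabs t41 0xffffff) [38,36,36,38,35,38,37,38,36,38,35,35,38,36,37,35]) (fun _ _ _ => oneAll_append) 60000 (rapp (oneAll 24 (appB tabs t41 0xffffff) [38,36,36,38,35,38,37,38,36,38,35,35,38,36,37,35]) (fun _ _ _ => oneAll_append) 40000 c279 c280 rfl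 rfl) c281 rfl rfl) c282 rfl rfl) (allL_cons (rapp (oneAll 24 (appB tabs t41 0xffffff) [38,36,37,35,38,36,37,35,38,36,37,35,38,36,37,35]) (fun _ _ _ => oneAll_append) 69615 (rapp (oneAll 24 (appB tabs t41 0xffffff) [38,36,37,35,38,36,37,35,38,36,37,35,38,36,37,35]) (fun _ _ _ => oneAll_append) 60000 (rapp (oneAll 24 (appB tabs t41 0xffffff) [38,36,37,35,38,36,37,35,38,36,37,35,38,36,37,35]) (fun _ _ _ => oneAll_append) 40000 c283 c284 rfl rfl) c285 rfl rfl) c286 rfl rfl) (allL_cons (rapp (oneAll 24 (appB tabs t41 0xffffff) [38,36,38,36,38,35,37,36,38,35,38,35,38,36,37,35]) (fun _ _ _ => oneAll_append) 69615 (rapp (oneAll 24 (appB tabs t41 0xffffff) [38,36,38,36,38,35,37,36,38,35,38,35,38,36,37,35]) (fun _ _ _ => oneAll_append) 60000 (rapp (oneAll 24 (appB tabs t41 0xffffff) [38,36,38,36,38,35,37,36,38,35,38,35,38,36,37,35]) (fun _ _ _ => oneAll_append) 40000 c287 c288 rfl rfl) c289 rfl rfl) c290 rfl rfl) (allL_cons (rapp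 (oneAll 24 (appB tabs t41 0xffffff) [38,36,38,36,38,36,38,36,38,36,36,38,35,38,36,36]) (fun _ _ _ => oneAll_append) 69615 (rapp (oneAll 24 (appB tabs t41 0xffffff) [38,36,38,36,38,36,38,36,38,36,36,38,35,38,36,36]) (fun _ _ _ => oneAll_append) 60000 (rapp (oneAll 24 (appB tabs t41 0xffffff) [38,36,38,36,38,36,38,36,38,36,36,38,35,38,36,36]) (fun _ _ _ => oneAll_append) 40000 c291 c292 rfl rfl) c293 rfl rfl) c294 rfl rfl) (allL_cons (rapp (oneAll 24 (appB tabs t41 0xffffff) [38,37,38,35,37,36,38,37,36,37,35,35,38,36,37,35,35]) (fun _ _ _ => oneAll_append) 69615 (rapp (oneAll 24 (appB tabs t41 0xffffff) [38,37,38,35,37,36,38,37,36,37,35,35,38,36,37,35,35]) (fun _ _ _ => oneAll_append) 60000 (rapp (oneAll 24 (appB tabs t41 0xffffff) [38,37,38,35,37,36,38,37,36,37,35,35,38,36,37,35,35]) (fun _ _ _ => oneAll_append) 40000 c295 c296 rfl rfl) c297 rfl rfl) c298 rfl rfl) (allL_cons (rapp (oneAll 24 (appB tabs t41 0xffffff) [38,37,38,36,37,35,38,37,35,37,36,36,38,35,37,36,36])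 (fun _ _ _ => oneAll_append) 69615 (rapp (oneAll 24 (appB tabs t41 0xffffff) [38,37,38,36,37,35,38,37,35,37,36,36,38,35,37,36,36]) (fun _ _ _ => oneAll_append) 60000 (rapp (oneAll 24 (appB tabs t41 0xffffff) [38,37,38,36,37,35,38,37,35,37,36,36,38,35,37,36,36]) (fun _ _ _ => oneAll_append) 40000 c299 c300 rfl rfl) c301 rfl rfl) c302 rfl rfl) (allL_cons (rapp (oneAll 24 (appB tabs t41 0xffffff) [39,39]) (fun _ _ _ => oneAll_append) 69615 (rapp (oneAll 24 (appB tabs t41 0xffffff) [39,39]) (fun _ _ _ => oneAll_append) 60000 (rapp (oneAll 24 (appB tabs t41 0xffffff) [39,39]) (fun _ _ _ => oneAll_append) 40000 c303 c304 rfl rfl) c305 rfl rfl) c306 rfl rfl) (allL_cons (rapp (oneAll 24 (appB tabs t41 0xffffff) [39,37,39,37,39,37,39,37]) (fun _ _ _ => oneAll_append) 69615 (rapp (oneAll 24 (appB tabs t41 0xffffff) [39,37,39,37,39,37,39,37]) (fun _ _ _ => oneAll_append) 60000 (rapp (oneAll 24 (appB tabs t41 0xffffff) [39,37,39,37,39,37,39,37])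 (fun _ _ _ => oneAll_append) 40000 c307 c308 rfl rfl) c309 rfl rfl) c310 rfl rfl) (allL_cons (rapp (oneAll 24 (appB tabs t41 0xffffff) [39,38,39,38,39,38,39,38]) (fun _ _ _ => oneAll_append) 69615 (rapp (oneAll 24 (appB tabs t41 0xffffff) [39,38,39,38,39,38,39,38]) (fun _ _ _ => oneAll_append) 60000 (rapp (oneAll 24 (appB tabs t41 0xffffff) [39,38,39,38,39,38,39,38]) (fun _ _ _ => oneAll_append) 40000 c311 c312 rfl rfl) c313 rfl rfl) c314 rfl rfl) (allL_cons (rapp (oneAll 24 (appB tabs t41 0xffffff) [39,36,36,37,35,35,39,36,36,37,35,35]) (fun _ _ _ => oneAll_append) 69615 (rapp (oneAll 24 (appB tabs t41 0xffffff) [39,36,36,37,35,35,39,36,36,37,35,35]) (fun _ _ _ => oneAll_append) 60000 (rapp (oneAll 24 (appB tabs t41 0xffffff) [39,36,36,37,35,35,39,36,36,37,35,35]) (fun _ _ _ => oneAll_append) 40000 c315 c316 rfl rfl) c317 rfl rfl) c318 rfl rfl) (allL_cons (rapp (oneAll 24 (appB tabs t41 0xffffff) [39,36,38,37,38,35,39,36,38,37,38,35])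 (fun _ _ _ => oneAll_append) 69615 (rapp (oneAll 24 (appB tabs t41 0xffffff) [39,36,38,37,38,35,39,36,38,37,38,35]) (fun _ _ _ => oneAll_append) 60000 (rapp (oneAll 24 (appB tabs t41 0xffffff) [39,36,38,37,38,35,39,36,38,37,38,35]) (fun _ _ _ => oneAll_append) 40000 c319 c320 rfl rfl) c321 rfl rfl) c322 rfl rfl) (allL_cons (rapp (oneAll 24 (appB tabs t41 0xffffff) [39,38,35,37,36,38,39,38,35,37,36,38]) (fun _ _ _ => oneAll_append) 69615 (rapp (oneAll 24 (appB tabs t41 0xffffff) [39,38,35,37,36,38,39,38,35,37,36,38]) (fun _ _ _ => oneAll_append) 60000 (rapp (oneAll 24 (appB tabs t41 0xffffff) [39,38,35,37,36,38,39,38,35,37,36,38]) (fun _ _ _ => oneAll_append) 40000 c323 c324 rfl rfl) c325 rfl rfl) c326 rfl rfl) (allL_cons (rapp (oneAll 24 (appB tabs t41 0xffffff) [39,37,36,39,35,37,39,37,36,39,35,37]) (fun _ _ _ => oneAll_append) 69615 (rapp (oneAll 24 (appB tabs t41 0xffffff) [39,37,36,39,35,37,39,37,36,39,35,37]) (fun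 _ _ _ => oneAll_append) 60000 (rapp (oneAll 24 (appB tabs t41 0xffffff) [39,37,36,39,35,37,39,37,36,39,35,37]) (fun _ _ _ => oneAll_append) 40000 c327 c328 rfl rfl) c329 rfl rfl) c330 rfl rfl) (allL_cons (rapp (oneAll 24 (appB tabs t41 0xffffff) [39,35,37,39,35,37,39,35,37,39,35,37]) (fun _ _ _ => oneAll_append) 69615 (rapp (oneAll 24 (appB tabs t41 0xffffff) [39,35,37,39,35,37,39,35,37,39,35,37]) (fun _ _ _ => oneAll_append) 60000 (rapp (oneAll 24 (appB tabs t41 0xffffff) [39,35,37,39,35,37,39,35,37,39,35,37]) (fun _ _ _ => oneAll_append) 40000 c331 c332 rfl rfl) c333 rfl rfl) c334 rfl rfl) (allL_cons (rapp (oneAll 24 (appB tabs t41 0xffffff) [39,36,38,36,37,35,38,35,39,36,38,36,37,35,38,35]) (fun _ _ _ => oneAll_append) 69615 (rapp (oneAll 24 (appB tabs t41 0xffffff) [39,36,38,36,37,35,38,35,39,36,38,36,37,35,38,35]) (fun _ _ _ => oneAll_append) 60000 (rapp (oneAll 24 (appB tabs t41 0xffffff) [39,36,38,36,37,35,38,35,39,36,38,36,37,35,38,35])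 (fun _ _ _ => oneAll_append) 40000 c335 c336 rfl rfl) c337 rfl rfl) c338 rfl rfl) (allL_cons (rapp (oneAll 24 (appB tabs t41 0xffffff) [39,37,36,38,37,38,35,37,39,37,36,38,37,38,35,37]) (fun _ _ _ => oneAll_append) 69615 (rapp (oneAll 24 (appB tabs t41 0xffffff) [39,37,36,38,37,38,35,37,39,37,36,38,37,38,35,37]) (fun _ _ _ => oneAll_append) 60000 (rapp (oneAll 24 (appB tabs t41 0xffffff) [39,37,36,38,37,38,35,37,39,37,36,38,37,38,35,37]) (fun _ _ _ => oneAll_append) 40000 c339 c340 rfl rfl) c341 rfl rfl) c342 rfl rfl) (allL_cons (rapp (oneAll 24 (appB tabs t41 0xffffff) [39,35,37,36,38,36,38,35,39,36,38,35,38,35,37,36]) (fun _ _ _ => oneAll_append) 69615 (rapp (oneAll 24 (appB tabs t41 0xffffff) [39,35,37,36,38,36,38,35,39,36,38,35,38,35,37,36]) (fun _ _ _ => oneAll_append) 60000 (rapp (oneAll 24 (appB tabs t41 0xffffff) [39,35,37,36,38,36,38,35,39,36,38,35,38,35,37,36]) (fun _ _ _ => oneAll_append) 40000 c343 c344 rfl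 rfl) c345 rfl rfl) c346 rfl rfl) (allL_cons (rapp (oneAll 24 (appB tabs t41 0xffffff) [39,35,37,39,36,39,35,39,37,39,36,39,35,37,36]) (fun _ _ _ => oneAll_append) 69615 (rapp (oneAll 24 (appB tabs t41 0xffffff) [39,35,37,39,36,39,35,39,37,39,36,39,35,37,36]) (fun _ _ _ => oneAll_append) 60000 (rapp (oneAll 24 (appB tabs t41 0xffffff) [39,35,37,39,36,39,35,39,37,39,36,39,35,37,36]) (fun _ _ _ => oneAll_append) 40000 c347 c348 rfl rfl) c349 rfl rfl) c350 rfl rfl) (allL_cons (rapp (oneAll 24 (appB tabs t41 0xffffff) [35,37,38,35,39,38,36,36,38,35,38,35,39,38,36,36,38]) (fun _ _ _ => oneAll_append) 69615 (rapp (oneAll 24 (appB tabs t41 0xffffff) [35,37,38,35,39,38,36,36,38,35,38,35,39,38,36,36,38]) (fun _ _ _ => oneAll_append) 60000 (rapp (oneAll 24 (appB tabs t41 0xffffff) [35,37,38,35,39,38,36,36,38,35,38,35,39,38,36,36,38]) (fun _ _ _ => oneAll_append) 40000 c351 c352 rfl rfl) c353 rfl rfl) c354 rfl rfl) (allL_cons (rapp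 (oneAll 24 (appB tabs t41 0xffffff) [39,36,37,39,36,37,36,37,39,36,37,39,36,37,36,37]) (fun _ _ _ => oneAll_append) 69615 (rapp (oneAll 24 (appB tabs t41 0xffffff) [39,36,37,39,36,37,36,37,39,36,37,39,36,37,36,37]) (fun _ _ _ => oneAll_append) 60000 (rapp (oneAll 24 (appB tabs t41 0xffffff) [39,36,37,39,36,37,36,37,39,36,37,39,36,37,36,37]) (fun _ _ _ => oneAll_append) 40000 c355 c356 rfl rfl) c357 rfl rfl) c358 rfl rfl) (allL_cons (rapp (oneAll 24 (appB tabs t41 0xffffff) [39,35,37,39,35,38,35,35,38,39,37,39,38,36,36,38,36,37,36]) (fun _ _ _ => oneAll_append) 69615 (rapp (oneAll 24 (appB tabs t41 0xffffff) [39,35,37,39,35,38,35,35,38,39,37,39,38,36,36,38,36,37,36]) (fun _ _ _ => oneAll_append) 60000 (rapp (oneAll 24 (appB tabs t41 0xffffff) [39,35,37,39,35,38,35,35,38,39,37,39,38,36,36,38,36,37,36]) (fun _ _ _ => oneAll_append) 40000 c359 c360 rfl rfl) c361 rfl rfl) c362 rfl rfl) (allL_cons (rapp (oneAll 24 (appB tabs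 t41 0xffffff) [39,35,37,36,37,35,38,36,36,36,39,37,35,38,35,37,38,36,38,37]) (fun _ _ _ => oneAll_append) 69615 (rapp (oneAll 24 (appB tabs t41 0xffffff) [39,35,37,36,37,35,38,36,36,36,39,37,35,38,35,37,38,36,38,37]) (fun _ _ _ => oneAll_append) 60000 (rapp (oneAll 24 (appB tabs t41 0xffffff) [39,35,37,36,37,35,38,36,36,36,39,37,35,38,35,37,38,36,38,37]) (fun _ _ _ => oneAll_append) 40000 c363 c364 rfl rfl) c365 rfl rfl) c366 rfl rfl) (allL_cons (rapp (oneAll 24 (appB tabs t41 0xffffff) [39,35,37,35,39,36,37,36,39,35,37,35,39,36,37,36]) (fun _ _ _ => oneAll_append) 69615 (rapp (oneAll 24 (appB tabs t41 0xffffff) [39,35,37,35,39,36,37,36,39,35,37,35,39,36,37,36]) (fun _ _ _ => oneAll_append) 60000 (rapp (oneAll 24 (appB tabs t41 0xffffff) [39,35,37,35,39,36,37,36,39,35,37,35,39,36,37,36]) (fun _ _ _ => oneAll_append) 40000 c367 c368 rfl rfl) c369 rfl rfl) c370 rfl rfl) (allL_cons (rapp (oneAll 24 (appB tabs t41 0xffffff)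 [39,36,37,35,39,36,37,35,39,36,37,35,39,36,37,35]) (fun _ _ _ => oneAll_append) 69615 (rapp (oneAll 24 (appB tabs t41 0xffffff) [39,36,37,35,39,36,37,35,39,36,37,35,39,36,37,35]) (fun _ _ _ => oneAll_append) 60000 (rapp (oneAll 24 (appB tabs t41 0xffffff) [39,36,37,35,39,36,37,35,39,36,37,35,39,36,37,35]) (fun _ _ _ => oneAll_append) 40000 c371 c372 rfl rfl) c373 rfl rfl) c374 rfl rfl) (allL_cons (rapp (oneAll 24 (appB tabs t41 0xffffff) [39,36,37,35,39,37,38,37,39,36,37,35,39,37,38,37]) (fun _ _ _ => oneAll_append) 69615 (rapp (oneAll 24 (appB tabs t41 0xffffff) [39,36,37,35,39,37,38,37,39,36,37,35,39,37,38,37]) (fun _ _ _ => oneAll_append) 60000 (rapp (oneAll 24 (appB tabs t41 0xffffff) [39,36,37,35,39,37,38,37,39,36,37,35,39,37,38,37]) (fun _ _ _ => oneAll_append) 40000 c375 c376 rfl rfl) c377 rfl rfl) c378 rfl rfl) (allL_cons (rapp (oneAll 24 (appB tabs t41 0xffffff) [39,36,37,35,39,36,38,35,39,36,37,35,39,36,37,38,37,35])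 (fun _ _ _ => oneAll_append) 69615 (rapp (oneAll 24 (appB tabs t41 0xffffff) [39,36,37,35,39,36,38,35,39,36,37,35,39,36,37,38,37,35]) (fun _ _ _ => oneAll_append) 60000 (rapp (oneAll 24 (appB tabs t41 0xffffff) [39,36,37,35,39,36,38,35,39,36,37,35,39,36,37,38,37,35]) (fun _ _ _ => oneAll_append) 40000 c379 c380 rfl rfl) c381 rfl rfl) c382 rfl rfl) (allL_cons (rapp (oneAll 24 (appB tabs t41 0xffffff) [39,36,39,35,37,36,39,38,37,36,38,35,39,36,38,35,37,38,35]) (fun _ _ _ => oneAll_append) 69615 (rapp (oneAll 24 (appB tabs t41 0xffffff) [39,36,39,35,37,36,39,38,37,36,38,35,39,36,38,35,37,38,35]) (fun _ _ _ => oneAll_append) 60000 (rapp (oneAll 24 (appB tabs t41 0xffffff) [39,36,39,35,37,36,39,38,37,36,38,35,39,36,38,35,37,38,35]) (fun _ _ _ => oneAll_append) 40000 c383 c384 rfl rfl) c385 rfl rfl) c386 rfl rfl) (allL_cons (rapp (oneAll 24 (appB tabs t41 0xffffff) [39,38,37,38,39,35,37,39,35,38,39,38,36,37,36,38,35,37,36,37,38])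 (fun _ _ _ => oneAll_append) 69615 (rapp (oneAll 24 (appB tabs t41 0xffffff) [39,38,37,38,39,35,37,39,35,38,39,38,36,37,36,38,35,37,36,37,38]) (fun _ _ _ => oneAll_append) 58251 (rapp (oneAll 24 (appB tabs t41 0xffffff) [39,38,37,38,39,35,37,39,35,38,39,38,36,37,36,38,35,37,36,37,38]) (fun _ _ _ => oneAll_append) 38834 c387 c388 rfl rfl) c389 rfl rfl) c390 rfl rfl) (allL_cons (rapp (oneAll 24 (appB tabs t41 0xffffff) [39,36,39,36,36,37,39,37,39,35,35,39,35,39,36,36,36,37,35,35,35]) (fun _ _ _ => oneAll_append) 69615 (rapp (oneAll 24 (appB tabs t41 0xffffff) [39,36,39,36,36,37,39,37,39,35,35,39,35,39,36,36,36,37,35,35,35]) (fun _ _ _ => oneAll_append) 58251 (rapp (oneAll 24 (appB tabs t41 0xffffff) [39,36,39,36,36,37,39,37,39,35,35,39,35,39,36,36,36,37,35,35,35]) (fun _ _ _ => oneAll_append) 38834 c391 c392 rfl rfl) c393 rfl rfl) c394 rfl rfl) (allL_cons (rapp (oneAll 24 (appB tabs t41 0xffffff) [39,35,38,37,38,35,37,39,37,36,36,39,37,35,37,38,37,36,37,35,38,36])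 (fun _ _ _ => oneAll_append) 69615 (rapp (oneAll 24 (appB tabs t41 0xffffff) [39,35,38,37,38,35,37,39,37,36,36,39,37,35,37,38,37,36,37,35,38,36]) (fun _ _ _ => oneAll_append) 55725 (rapp (oneAll 24 (appB tabs t41 0xffffff) [39,35,38,37,38,35,37,39,37,36,36,39,37,35,37,38,37,36,37,35,38,36]) (fun _ _ _ => oneAll_append) 37150 c395 c396 rfl rfl) c397 rfl rfl) c398 rfl rfl) (allL_cons (rapp (oneAll 24 (appB tabs t41 0xffffff) [39,35,38,36,39,36,37,35,39,35,38,36,39,36,36,38,35,37,38,37,35,38]) (fun _ _ _ => oneAll_append) 69615 (rapp (oneAll 24 (appB tabs t41 0xffffff) [39,35,38,36,39,36,37,35,39,35,38,36,39,36,36,38,35,37,38,37,35,38]) (fun _ _ _ => oneAll_append) 55725 (rapp (oneAll 24 (appB tabs t41 0xffffff) [39,35,38,36,39,36,37,35,39,35,38,36,39,36,36,38,35,37,38,37,35,38]) (fun _ _ _ => oneAll_append) 37150 c399 c400 rfl rfl) c401 rfl rfl) c402 rfl rfl) (allL_cons (rapp (oneAll 24 (appB tabs t41 0xffffff) [40,40])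 (fun _ _ _ => oneAll_append) 69615 (rapp (oneAll 24 (appB tabs t41 0xffffff) [40,40]) (fun _ _ _ => oneAll_append) 60000 (rapp (oneAll 24 (appB tabs t41 0xffffff) [40,40]) (fun _ _ _ => oneAll_append) 40000 c403 c404 rfl rfl) c405 rfl rfl) c406 rfl rfl) (allL_cons (rapp (oneAll 24 (appB tabs t41 0xffffff) [40,35,40,35]) (fun _ _ _ => oneAll_append) 69615 (rapp (oneAll 24 (appB tabs t41 0xffffff) [40,35,40,35]) (fun _ _ _ => oneAll_append) 60000 (rapp (oneAll 24 (appB tabs t41 0xffffff) [40,35,40,35]) (fun _ _ _ => oneAll_append) 40000 c407 c408 rfl rfl) c409 rfl rfl) c410 rfl rfl) (allL_cons (rapp (oneAll 24 (appB tabs t41 0xffffff) [40,37,40,37]) (fun _ _ _ => oneAll_append) 69615 (rapp (oneAll 24 (appB tabs t41 0xffffff) [40,37,40,37]) (fun _ _ _ => oneAll_append) 60000 (rapp (oneAll 24 (appB tabs t41 0xffffff) [40,37,40,37]) (fun _ _ _ => oneAll_append) 40000 c411 c412 rfl rfl) c413 rfl rfl) c414 rfl rfl) (allL_cons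 (rapp (oneAll 24 (appB tabs t41 0xffffff) [40,38,40,38]) (fun _ _ _ => oneAll_append) 69615 (rapp (oneAll 24 (appB tabs t41 0xffffff) [40,38,40,38]) (fun _ _ _ => oneAll_append) 60000 (rapp (oneAll 24 (appB tabs t41 0xffffff) [40,38,40,38]) (fun _ _ _ => oneAll_append) 40000 c415 c416 rfl rfl) c417 rfl rfl) c418 rfl rfl) (allL_cons (rapp (oneAll 24 (appB tabs t41 0xffffff) [40,39,38,39,40,39,38,39,40,39,38,39,40,39,38,39]) (fun _ _ _ => oneAll_append) 69615 (rapp (oneAll 24 (appB tabs t41 0xffffff) [40,39,38,39,40,39,38,39,40,39,38,39,40,39,38,39]) (fun _ _ _ => oneAll_append) 60000 (rapp (oneAll 24 (appB tabs t41 0xffffff) [40,39,38,39,40,39,38,39,40,39,38,39,40,39,38,39]) (fun _ _ _ => oneAll_append) 40000 c419 c420 rfl rfl) c421 rfl rfl) c422 rfl rfl) (allL_cons (rapp (oneAll 24 (appB tabs t41 0xffffff) [40,39,40,39,38,40,39,40,38,39,40,39,40,38,36,39,38,39,35,38,39,36,38,35,39]) (fun _ _ _ => oneAll_append) 69615 (rapp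 (oneAll 24 (appB tabs t41 0xffffff) [40,39,40,39,38,40,39,40,38,39,40,39,40,38,36,39,38,39,35,38,39,36,38,35,39]) (fun _ _ _ => oneAll_append) 65752 (rapp (oneAll 24 (appB tabs t41 0xffffff) [40,39,40,39,38,40,39,40,38,39,40,39,40,38,36,39,38,39,35,38,39,36,38,35,39]) (fun _ _ _ => oneAll_append) 49314 (rapp (oneAll 24 (appB tabs t41 0xffffff) [40,39,40,39,38,40,39,40,38,39,40,39,40,38,36,39,38,39,35,38,39,36,38,35,39]) (fun _ _ _ => oneAll_append) 32876 c423 c424 rfl rfl) c425 rfl rfl) c426 rfl rfl) c427 rfl rfl) (allL_cons (rapp (oneAll 24 (appB tabs t41 0xffffff) [36,38,40,39,38,40,39,38,36,37,35,38,39,40,38,39,40,38,35,37]) (fun _ _ _ => oneAll_append) 69615 (rapp (oneAll 24 (appB tabs t41 0xffffff) [36,38,40,39,38,40,39,38,36,37,35,38,39,40,38,39,40,38,35,37]) (fun _ _ _ => oneAll_append) 60000 (rapp (oneAll 24 (appB tabs t41 0xffffff) [36,38,40,39,38,40,39,38,36,37,35,38,39,40,38,39,40,38,35,37]) (fun _ _ _ => oneAll_append)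 40000 c428 c429 rfl rfl) c430 rfl rfl) c431 rfl rfl) (allL_cons (rapp (oneAll 24 (appB tabs t41 0xffffff) [40,39,38,39,35,38,35,37,38,36,39,38,39,40,36,36,36,37,35,35,38,35,38,35,35,37]) (fun _ _ _ => oneAll_append) 69615 (rapp (oneAll 24 (appB tabs t41 0xffffff) [40,39,38,39,35,38,35,37,38,36,39,38,39,40,36,36,36,37,35,35,38,35,38,35,35,37]) (fun _ _ _ => oneAll_append) 63324 (rapp (oneAll 24 (appB tabs t41 0xffffff) [40,39,38,39,35,38,35,37,38,36,39,38,39,40,36,36,36,37,35,35,38,35,38,35,35,37]) (fun _ _ _ => oneAll_append) 47493 (rapp (oneAll 24 (appB tabs t41 0xffffff) [40,39,38,39,35,38,35,37,38,36,39,38,39,40,36,36,36,37,35,35,38,35,38,35,35,37]) (fun _ _ _ => oneAll_append) 31662 c432 c433 rfl rfl) c434 rfl rfl) c435 rfl rfl) c436 rfl rfl) (allL_cons (rapp (oneAll 24 (appB tabs t41 0xffffff) [40,39,35,39,40,39,37,39,40,39,36,39,40,35,38,35,38,36,37,35,38,39,35,37,36,39,36,38,36]) (fun _ _ _ => oneAll_append) 69615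 (rapp (oneAll 24 (appB tabs t41 0xffffff) [40,39,35,39,40,39,37,39,40,39,36,39,40,35,38,35,38,36,37,35,38,39,35,37,36,39,36,38,36]) (fun _ _ _ => oneAll_append) 57004 (rapp (oneAll 24 (appB tabs t41 0xffffff) [40,39,35,39,40,39,37,39,40,39,36,39,40,35,38,35,38,36,37,35,38,39,35,37,36,39,36,38,36]) (fun _ _ _ => oneAll_append) 42753 (rapp (oneAll 24 (appB tabs t41 0xffffff) [40,39,35,39,40,39,37,39,40,39,36,39,40,35,38,35,38,36,37,35,38,39,35,37,36,39,36,38,36]) (fun _ _ _ => oneAll_append) 28502 c437 c438 rfl rfl) c439 rfl rfl) c440 rfl rfl) c441 rfl rfl) (allL_cons (rapp (oneAll 24 (appB tabs t41 0xffffff) [40,39,36,36,38,39,40,39,38,39,40,39,35,35,39,40,35,38,37,38,35,39,37,38,39,38,37,36,36]) (fun _ _ _ => oneAll_append) 69615 (rapp (oneAll 24 (appB tabs t41 0xffffff) [40,39,36,36,38,39,40,39,38,39,40,39,35,35,39,40,35,38,37,38,35,39,37,38,39,38,37,36,36]) (fun _ _ _ => oneAll_append) 57004 (rapp (oneAll 24 (appB tabs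 t41 0xffffff) [40,39,36,36,38,39,40,39,38,39,40,39,35,35,39,40,35,38,37,38,35,39,37,38,39,38,37,36,36]) (fun _ _ _ => oneAll_append) 42753 (rapp (oneAll 24 (appB tabs t41 0xffffff) [40,39,36,36,38,39,40,39,38,39,40,39,35,35,39,40,35,38,37,38,35,39,37,38,39,38,37,36,36]) (fun _ _ _ => oneAll_append) 28502 c442 c443 rfl rfl) c444 rfl rfl) c445 rfl rfl) c446 rfl rfl) (allL_cons (rapp (oneAll 24 (appB tabs t41 0xffffff) [40,39,40,39,35,38,37,38,36,39,40,39,40,36,36,37,36,38,37,38,36,36,38,35,38,37,39,37,38,37,39]) (fun _ _ _ => oneAll_append) 69615 (rapp (oneAll 24 (appB tabs t41 0xffffff) [40,39,40,39,35,38,37,38,36,39,40,39,40,36,36,37,36,38,37,38,36,36,38,35,38,37,39,37,38,37,39]) (fun _ _ _ => oneAll_append) 66815 (rapp (oneAll 24 (appB tabs t41 0xffffff) [40,39,40,39,35,38,37,38,36,39,40,39,40,36,36,37,36,38,37,38,36,36,38,35,38,37,39,37,38,37,39]) (fun _ _ _ => oneAll_append) 53452 (rapp (oneAll 24 (appB tabs t41 0xffffff)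 [40,39,40,39,35,38,37,38,36,39,40,39,40,36,36,37,36,38,37,38,36,36,38,35,38,37,39,37,38,37,39]) (fun _ _ _ => oneAll_append) 40089 (rapp (oneAll 24 (appB tabs t41 0xffffff) [40,39,40,39,35,38,37,38,36,39,40,39,40,36,36,37,36,38,37,38,36,36,38,35,38,37,39,37,38,37,39]) (fun _ _ _ => oneAll_append) 26726 c447 c448 rfl rfl) c449 rfl rfl) c450 rfl rfl) c451 rfl rfl) c452 rfl rfl) (allL_cons (rapp (oneAll 24 (appB tabs t41 0xffffff) [40,39,40,39,38,36,37,36,37,38,39,40,39,40,37,36,37,35,35,37,36,38,36,38,37,35,39,38,36,39,37,38]) (fun _ _ _ => oneAll_append) 69615 (rapp (oneAll 24 (appB tabs t41 0xffffff) [40,39,40,39,38,36,37,36,37,38,39,40,39,40,37,36,37,35,35,37,36,38,36,38,37,35,39,38,36,39,37,38]) (fun _ _ _ => oneAll_append) 64790 (rapp (oneAll 24 (appB tabs t41 0xffffff) [40,39,40,39,38,36,37,36,37,38,39,40,39,40,37,36,37,35,35,37,36,38,36,38,37,35,39,38,36,39,37,38]) (fun _ _ _ => oneAll_append) 51832 (rapp (oneAll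 24 (appB tabs t41 0xffffff) [40,39,40,39,38,36,37,36,37,38,39,40,39,40,37,36,37,35,35,37,36,38,36,38,37,35,39,38,36,39,37,38]) (fun _ _ _ => oneAll_append) 38874 (rapp (oneAll 24 (appB tabs t41 0xffffff) [40,39,40,39,38,36,37,36,37,38,39,40,39,40,37,36,37,35,35,37,36,38,36,38,37,35,39,38,36,39,37,38]) (fun _ _ _ => oneAll_append) 25916 c453 c454 rfl rfl) c455 rfl rfl) c456 rfl rfl) c457 rfl rfl) c458 rfl rfl) (allL_cons (rapp (oneAll 24 (appB tabs t41 0xffffff) [40,39,37,39,35,38,39,37,35,37,39,40,39,40,36,36,37,35,38,36,37,36,37,35,35,39,35,37,38,39,35,39]) (fun _ _ _ => oneAll_append) 69615 (rapp (oneAll 24 (appB tabs t41 0xffffff) [40,39,37,39,35,38,39,37,35,37,39,40,39,40,36,36,37,35,38,36,37,36,37,35,35,39,35,37,38,39,35,39]) (fun _ _ _ => oneAll_append) 64790 (rapp (oneAll 24 (appB tabs t41 0xffffff) [40,39,37,39,35,38,39,37,35,37,39,40,39,40,36,36,37,35,38,36,37,36,37,35,35,39,35,37,38,39,35,39]) (fun _ _ _ => oneAll_append)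 51832 (rapp (oneAll 24 (appB tabs t41 0xffffff) [40,39,37,39,35,38,39,37,35,37,39,40,39,40,36,36,37,35,38,36,37,36,37,35,35,39,35,37,38,39,35,39]) (fun _ _ _ => oneAll_append) 38874 (rapp (oneAll 24 (appB tabs t41 0xffffff) [40,39,37,39,35,38,39,37,35,37,39,40,39,40,36,36,37,35,38,36,37,36,37,35,35,39,35,37,38,39,35,39]) (fun _ _ _ => oneAll_append) 25916 c459 c460 rfl rfl) c461 rfl rfl) c462 rfl rfl) c463 rfl rfl) c464 rfl rfl) (allL_nil _))))))))))))))))))))))))))))))))))))))))))))))))))))))))))))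

theorem clS : cl act.gen tcS = ⊤ :=
  tabOK.cl_eq_top_of_words (Ws := inW) (by decide +kernel) (allRange_of_allL (l := [0,1,2]) (by decide +kernel) (allL_cons (rapp (eqAll 24 (appB tabs t41 0xffffff) [0] (nth inW [] 0)) (fun _ _ _ => eqAll_append) 69615 (rapp (eqAll 24 (appB tabs t41 0xffffff) [0] (nth inW [] 0)) (fun _ _ _ => eqAll_append) 59405 (rapp (eqAll 24 (appB tabs t41 0xffffff) [0] (nth inW [] 0)) (fun _ _ _ => eqAll_append) 47524 (rapp (eqAll 24 (appB tabs t41 0xffffff) [0] (nth inW [] 0)) (fun _ _ _ => eqAll_append) 35643 (rapp (eqAll 24 (appB tabs t41 0xffffff) [0] (nth inW [] 0)) (fun _ _ _ => eqAll_append) 23762 c465 c466 rfl rfl) c467 rfl rfl) c468 rfl rfl) c469 rfl rfl) c470 rfl rfl) (allL_cons (rapp (eqAll 24 (appB tabs t41 0xffffff) [1] (nth inW [] 1)) (fun _ _ _ => eqAll_append) 69615 (rapp (eqAll 24 (appB tabs t41 0xffffff) [1] (nth inW [] 1)) (fun _ _ _ => eqAll_append) 62890 (rapp (eqAll 24 (appB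 tabs t41 0xffffff) [1] (nth inW [] 1)) (fun _ _ _ => eqAll_append) 50312 (rapp (eqAll 24 (appB tabs t41 0xffffff) [1] (nth inW [] 1)) (fun _ _ _ => eqAll_append) 37734 (rapp (eqAll 24 (appB tabs t41 0xffffff) [1] (nth inW [] 1)) (fun _ _ _ => eqAll_append) 25156 c471 c472 rfl rfl) c473 rfl rfl) c474 rfl rfl) c475 rfl rfl) c476 rfl rfl) (allL_cons (rapp (eqAll 24 (appB tabs t41 0xffffff) [2] (nth inW [] 2)) (fun _ _ _ => eqAll_append) 69615 (rapp (eqAll 24 (appB tabs t41 0xffffff) [2] (nth inW [] 2)) (fun _ _ _ => eqAll_append) 61095 (rapp (eqAll 24 (appB tabs t41 0xffffff) [2] (nth inW [] 2)) (fun _ _ _ => eqAll_append) 48876 (rapp (eqAll 24 (appB tabs t41 0xffffff) [2] (nth inW [] 2)) (fun _ _ _ => eqAll_append) 36657 (rapp (eqAll 24 (appB tabs t41 0xffffff) [2] (nth inW [] 2)) (fun _ _ _ => eqAll_append) 24438 c477 c478 rfl rfl) c479 rfl rfl) c480 rfl rfl) c481 rfl rfl) c482 rfl rfl) (allL_nil _)))))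

theorem prod_mc : prodN mc = 3311126603366400 := by decide +kernel

theorem le_card : 3311126603366400 ≤ Nat.card PG := prod_mc ▸ chain.prodN_le_card

theorem card_le : Nat.card PG ≤ prodN mc := prod_mc ▸ (bounds.card_le rels clS).2

theorem card : Nat.card PG = 3311126603366400 := prod_mc ▸ chain.card_eq card_le

theorem base : act.IsBase bs := (show bases mc = bs from (eqL_iff _ _).1 (by decide +kernel)) ▸ chain.isBase card_le

theorem hinv : ∀ a, act.gen (inv a) = (act.gen a)⁻¹ :=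
  tabOK.inv (by decide) base (by decide +kernel) (by decide +kernel)

theorem clAT : cl act.gen [8, 10] = ⊤ :=
  tabOK.cl_eq_top_of_chain (lo := 8) (cnt := 27) (by decide) (by decide) (by decide +kernel) chain card_le (by decide +kernel)

end Cfsg.Agent.CG.F42
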